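import Cfsg.Agent.Mrg.Omega.NO3S.Level.Lim_m3
import Cfsg.Agent.Mrg.Omega.KL.Star.ViaRed_m3
import Cfsg.Agent.Mrg.Omega.NO3S.BetaFF.ActClaim
import Cfsg.Agent.Mrg.Omega.NO3S.EThree.ExactB_m3
import Cfsg.Agent.Mrg.Omega.NO3S.Fld.RedMod_m3
import Cfsg.Agent.ZN.ChoiceSit
import Cfsg.Agent.Mrg.Omega.All.HOneKer_m3
import Cfsg.Agent.Mrg.Omega.NO1.Nat.Space_m3
import Cfsg.Agent.Mrg.Omega.TC.Crit_m3
import Cfsg.Agent.Mrg.Omega.HOne.TvTail_m3
import Cfsg.Agent.Mrg.Omega.NOThreeL.RRed.Ex.Pf_m3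
import Cfsg.Agent.Mrg.Omega.NOThreeL.RTwo_m3
import Cfsg.Agent.Mrg.Omega.NO3b.BasePt.Def_m3
import Cfsg.Agent.Mrg.Omega.NO3b.Exit.MU_m3
import Cfsg.Agent.Mrg.Omega.NO3S.Act.PasCore_mg_m3
import Cfsg.Agent.Omega.OM.Swap.Sit_m3
import Cfsg.Agent.Mrg.Omega.NOThreeL.RRed.BFr.HM
import Cfsg.Agent.Mrg.Omega.OM.NX_m3
import Cfsg.Agent.FastGrp
import Cfsg.Agent.Prune
set_option linter.all false

section
prune_inst 0x7ff4fefbaffcbddfffff7ffffef5dffdfdf8fffffffffdcbffe0e9ffdfdf4b86efe5fba58feb50fe1ff662bc34f87b53f9ffc23fea63dc7ffffd5ff45ffbff9ffdf7bd8971d78c3e1ffc4fffebf07fce7f3fffffffffffffffffffffffffffbeffffffffffff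

-- part: Mrg/Omega/KL/TwoZ/Inp
section
set_option linter.all false
open scoped Cfsg.Agent.FastGrp


/-!
# From `Out` to the input of THEOREM KL*(q) (`StarQ.InpQ`), centres of any order

* `exists_odd` : elements of odd order lift;
* `PreQ` : the input of THEOREM KL*(q) for an `A` which is exact modulo the kernel; **`PreQ.inp`** : `PreQ → InpQ`;
* **`Fr.preQ`** : `Out T V Z i X B` gives `PreQ` for `C_i` acting on `X`; **`Fr.inpQ`**, **`Fr.out_false`**,
  **`Fr.ex_false`** : with `Two.Ext` only the second alternative of `Fr.ex` is left.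
-/

set_option autoImplicit false
set_option linter.unusedSectionVars false

namespace Cfsg.Agent.Omega.KL.TwoZ

open Subgroup Cfsg Cfsg.Agent.Omega.MinPar
open Cfsg.Agent.ZN (o2 zc)
open Cfsg.Agent.ClassTwoFusion.Quad Cfsg.Agent.Omega.ML.MinFrame
open Cfsg.Agent.Omega.OM.KTwo (ne_add_one eq_add_one add_one_add_one le_normalizer_V le_V exists_mul_of_mem_sup)
open Cfsg.Agent.MinSimple.MinParabolic (IsMinPar)
open Cfsg.Agent.Omega.NoFF.Basic (conj_conj mem_conj conj_le_iff comm_symm comm_mono Z_le_V V_le)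
open Cfsg.Agent.ZN.ChoiceSit (Syl exists_syl syl_conj o2_le_syl syl_not_dvd)
open Cfsg.Agent.MinSimple.VModule (mem_zc zc_le normalizer_le_normalizer_zc le_o2
  o2_isPGroup o2_le zc_le_centralizer le_centralizer_zc le_normalizer_o2)
open Cfsg.Agent.Omega.TC.LemZ (card_eq le_norm_of norm_cent norm_inf)
open Cfsg.Agent.Omega.KL.Quo (norm_lift)
open Cfsg.Agent.Omega.KL.StarQ (InpQ)
open Cfsg.Agent.Omega.KL.TwoS (Mx relIndex_anti relIndex_mono)
open scoped Pointwise

universe u v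

/-- the input of THEOREM KL*(q) for `C` acting on `M`, with an `A` which is exact modulo the kernel -/
structure PreQ {C : Type u} [Group C] {M : Type v} [Group M] [MulDistribMulAction C M] (T A : Subgroup C)
    (Z Y : Subgroup M) : Prop where
  sq : ∀ m : M, m * m = 1
  two : IsPGroup 2 T
  syl : ¬ 2 ∣ T.index
  tZ : ∀ z ∈ Z, ∀ t ∈ T, t • z = z
  NZ : ∀ g ∈ normalizer (T : Set C), ∀ z ∈ Z, g • z ∈ Z
  NY : ∀ g ∈ normalizer (T : Set C), ∀ w ∈ Y, g • w ∈ Y
  cY : ∀ w ∈ Y, (∀ t ∈ T, t • w = w) → ∀ g : C, g • w = w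
  par : ∀ P : Subgroup C, IsMinPar T P → (∀ z ∈ Z, ∀ p ∈ P, p • z = z) ∨
    ∀ g ∈ P, Odd (orderOf g) → ∀ w ∈ Y, g • w = w
  el : ∀ a ∈ A, a * a = 1
  AZ : A ≤ o2 (fxr C Z)
  AY : A ≤ o2 (fxr C Y ⊔ T)
  /-- `A` is faithful on `⟨Z^C⟩` modulo the kernel -/
  nk : ∀ a ∈ A, (∀ (c : C), ∀ z ∈ Z, a • c • z = c • z) → ∀ m : M, a • m = m
  mv : ∃ a ∈ A, ∃ m : M, a • m ≠ m
  no : ∀ B : Subgroup C, B ≤ A → (fxr C (⊤ : Subgroup M)).relIndex B ≤ (cv M (B : Set C)).index
  le : (cv M (A : Set C)).index ≤ (fxr C (⊤ : Subgroup M)).relIndex A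
  KC : IsKGroup C

/-- the elements of odd order lift -/
theorem exists_odd {C H : Type*} [Group C] [Finite C] [Group H] (π : C →* H) {P : Subgroup C} {g : H}
    (hg : g ∈ P.map π) (ho : Odd (orderOf g)) : ∃ c ∈ P, Odd (orderOf c) ∧ π c = g := by
  obtain ⟨c, hc, rfl⟩ := hg
  obtain ⟨k, m, hm, hcm⟩ := Nat.exists_eq_two_pow_mul_odd (n := orderOf c) (orderOf_pos c).ne'
  have hcop : Nat.Coprime (2 ^ k) (orderOf (π c)) := Nat.Coprime.pow_left k (Nat.coprime_two_left.2 ho)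
  obtain ⟨n, hn1, hn2⟩ := Nat.chineseRemainder hcop 0 1
  refine ⟨c ^ n, pow_mem hc n, ?_, ?_⟩
  · have h1 : 2 ^ k ∣ n := (Nat.modEq_zero_iff_dvd).1 hn1
    obtain ⟨l, rfl⟩ := h1
    refine Odd.of_dvd_nat hm (orderOf_dvd_of_pow_eq_one ?_)
    rw [← pow_mul, mul_comm (2 ^ k) l, mul_assoc, ← hcm, mul_comm, pow_mul, pow_orderOf_eq_one, one_pow]
  · rw [map_pow]
    conv_rhs => rw [← pow_one (π c)]
    exact pow_eq_pow_iff_modEq.2 hn2

section pre

variable {C : Type u} [Group C] [Finite C] {M : Type v} [Group M] [Finite M] [MulDistribMulAction C M]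
  {T A : Subgroup C} {Z Y : Subgroup M}

theorem PreQ.inp (h : PreQ T A Z Y) :
    ∃ (H : Type u) (_ : Group H) (_ : Finite H) (_ : MulDistribMulAction H M) (T' A' : Subgroup H),
      InpQ T' A' Z Y := by
  have htriv : ∀ k ∈ fxr C (⊤ : Subgroup M), ∀ m : M, k • m = m := fun k hk m => hk m (mem_top m)
  have hN : (fxr C (⊤ : Subgroup M)).Normal := fxr_normal fun _ _ _ => mem_top _
  set N := fxr C (⊤ : Subgroup M) with hNdef
  let _ : MulDistribMulAction (C ⧸ N) M := quoAct N htriv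
  let π : C →* C ⧸ N := QuotientGroup.mk' N
  have hπ : Function.Surjective π := QuotientGroup.mk'_surjective N
  have he : ∀ (g : C) (v : M), π g • v = g • v := fun _ _ => rfl
  have hker : ∀ k : C, (∀ v : M, k • v = v) → π k = 1 := fun k hk =>
    (QuotientGroup.eq_one_iff k).2 fun v _ => hk v
  have hker2 : ∀ k : C, π k = 1 → ∀ v : M, k • v = v := fun k hk v =>
    (QuotientGroup.eq_one_iff k).1 hk v (mem_top v)
  -- stabilisers
  have hfx : ∀ Y' : Subgroup M, (fxr C Y').map π = fxr (C ⧸ N) Y' := by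
    intro Y'
    ext g
    constructor
    · rintro ⟨c, hc, rfl⟩
      exact hc
    · intro hg
      obtain ⟨c, rfl⟩ := hπ g
      exact ⟨c, hg, rfl⟩
  have ho2 : ∀ S : Subgroup C, A ≤ o2 S → A.map π ≤ o2 (S.map π) := by
    intro S hS
    refine (map_mono hS).trans (le_o2 (map_mono (o2_le _)) ((o2_isPGroup _).map π) ?_)
    exact (map_mono (le_normalizer_o2 _)).trans (le_normalizer_map π)
  have hx : A.map π ≤ o2 (fxr (C ⧸ N) Z) := by
    rw [← hfx]
    exact ho2 _ h.AZ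
  have hy : A.map π ≤ o2 (fxr (C ⧸ N) Y ⊔ T.map π) := by
    rw [← hfx, ← Subgroup.map_sup]
    exact ho2 _ h.AY
  have hsyl : ¬ 2 ∣ (T.map π).index := fun h2 => h.syl (h2.trans (index_map_dvd T hπ))
  have hKH : IsKGroup (C ⧸ N) := ML.Final.sec_KG.quo C h.KC N
  have hel : ∀ a ∈ A.map π, a * a = 1 := by
    rintro _ ⟨a, ha, rfl⟩
    rw [← map_mul, h.el a ha, map_one]
  -- `A.map π` is faithful on `⟨Z^C⟩`
  have hfa : ∀ g ∈ A.map π, (∀ (c : C ⧸ N), ∀ z ∈ Z, g • c • z = c • z) → g = 1 := by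
    rintro _ ⟨a, ha, rfl⟩ hg
    exact hker a (h.nk a ha fun c z hz => hg (π c) z hz)
  -- (NO)
  have hcv : ∀ B : Subgroup C, cv M (B.map π : Set (C ⧸ N)) = cv M (B : Set C) := by
    intro B
    ext v
    constructor
    · exact fun hv a ha => hv _ ⟨a, ha, rfl⟩
    · rintro hv _ ⟨a, ha, rfl⟩
      exact hv a ha
  have hcard : ∀ B : Subgroup C, Nat.card (B.map π) = N.relIndex B := by
    intro B
    rw [← relIndex_bot_left, ← relIndex_comap, MonoidHom.comap_bot, QuotientGroup.ker_mk']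
  have hno : ∀ B : Subgroup (C ⧸ N), B ≤ A.map π → Nat.card B ≤ (cv M (B : Set (C ⧸ N))).index := by
    intro B hB
    have e : (A ⊓ B.comap π).map π = B := by
      apply le_antisymm
      · rintro _ ⟨a, ha, rfl⟩
        exact ha.2
      · intro g hg
        obtain ⟨a, ha, rfl⟩ := hB hg
        exact ⟨a, ⟨ha, hg⟩, rfl⟩
    rw [← e, hcv, hcard]
    exact h.no _ inf_le_left
  have hex : (cv M (A.map π : Set (C ⧸ N))).index = Nat.card (A.map π) := by
    refine le_antisymm ?_ (hno _ le_rfl)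
    rw [hcv, hcard]
    exact h.le
  have hA1 : A.map π ≠ ⊥ := by
    intro h1
    obtain ⟨a, ha, m, hm⟩ := h.mv
    apply hm
    refine hker2 a ?_ m
    rw [← mem_bot, ← h1]
    exact ⟨a, ha, rfl⟩
  -- an atom
  obtain ⟨B, ⟨hBA, hB1, hBe⟩, hmin⟩ : ∃ B : Subgroup (C ⧸ N), (B ≤ A.map π ∧ B ≠ ⊥ ∧
      (cv M (B : Set (C ⧸ N))).index = Nat.card B) ∧ ∀ B' : Subgroup (C ⧸ N), (B' ≤ A.map π ∧ B' ≠ ⊥ ∧
      (cv M (B' : Set (C ⧸ N))).index = Nat.card B') → B' ≤ B → B' = B := by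
    obtain ⟨B, hB⟩ := (Set.toFinite {B : Subgroup (C ⧸ N) | B ≤ A.map π ∧ B ≠ ⊥ ∧
      (cv M (B : Set (C ⧸ N))).index = Nat.card B}).exists_minimal ⟨A.map π, le_rfl, hA1, hex⟩
    exact ⟨B, hB.prop, fun B' hB' hle => le_antisymm hle (hB.le_of_le hB' hle)⟩
  have htZ : ∀ z ∈ Z, ∀ t ∈ T.map π, t • z = z := by
    rintro z hz _ ⟨t, ht, rfl⟩
    exact h.tZ z hz t ht
  refine ⟨C ⧸ N, inferInstance, inferInstance, inferInstance, T.map π, B, ?_⟩
  refine ⟨h.sq, h.two.map π, hsyl, htZ, ?_, ?_, ?_, ?_, fun a ha => hel a (hBA ha), hBe, ?_, ?_, hBA.trans hx,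
    hBA.trans hy, hKH⟩
  · intro g hg z hz
    obtain ⟨t, ht, n, hn, rfl⟩ := norm_lift π hπ h.two h.syl hg
    rw [he, mul_smul]
    exact h.NZ t (le_normalizer ht) _ (h.NZ n hn z hz)
  · intro g hg z hz
    obtain ⟨t, ht, n, hn, rfl⟩ := norm_lift π hπ h.two h.syl hg
    rw [he, mul_smul]
    exact h.NY t (le_normalizer ht) _ (h.NY n hn z hz)
  · intro w hw hwT g
    obtain ⟨c, rfl⟩ := hπ g
    exact h.cY w hw (fun t ht => hwT (π t) ⟨t, ht, rfl⟩) c
  · intro P hP
    obtain ⟨R, hR, rfl⟩ := Quo.exists_minPar π hπ hP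
    rcases h.par R hR with h1 | h1
    · left
      rintro z hz _ ⟨r, hr, rfl⟩
      exact h1 z hz r hr
    · right
      intro g hg hog w hw
      obtain ⟨c, hc, hco, rfl⟩ := exists_odd π hg hog
      exact h1 c hc hco w hw
  · intro B' hB' hB1' hne
    refine lt_of_le_of_ne (hno B' (hB'.trans hBA)) fun h1 => hne ?_
    exact hmin B' ⟨hB'.trans hBA, hB1', h1.symm⟩ hB'
  · -- `O₂(H)` centralises `⟨Z^H⟩`
    intro hle
    apply hB1
    rw [eq_bot_iff]
    intro b hb
    rw [mem_bot]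
    refine hfa b (hBA hb) fun c z hz => ?_
    have h1 : c⁻¹ * b * c ∈ o2 (⊤ : Subgroup (C ⧸ N)) := by
      have := (mem_normalizer_iff.1 (le_normalizer_o2 (⊤ : Subgroup (C ⧸ N)) (mem_top c⁻¹)) b).1 (hle hb)
      rwa [inv_inv] at this
    have h2 : o2 (⊤ : Subgroup (C ⧸ N)) ≤ T.map π :=
      Cfsg.Agent.MinSimple.VModule.o2_le_of_sylow (h.two.map π) (by rwa [relIndex_top_right])
    have h3 := htZ z hz _ (h2 h1)
    rw [mul_smul, mul_smul, inv_smul_eq_iff] at h3
    exact h3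

end pre

/-- conjugation -/
abbrev actX {G : Type u} [Group G] {C X : Subgroup G} (h : C ≤ normalizer (X : Set G)) : MulDistribMulAction C X where
  smul c x := ⟨c * x * (c : G)⁻¹, (mem_normalizer_iff.1 (h c.2) x).1 x.2⟩
  one_smul x := Subtype.ext (by change ((1 : C) : G) * x * ((1 : C) : G)⁻¹ = x; simp)
  mul_smul a b x := Subtype.ext (by
    change ((a * b : C) : G) * x * ((a * b : C) : G)⁻¹ = a * (b * x * (b : G)⁻¹) * (a : G)⁻¹
    push_cast; group)
  smul_mul c x y := Subtype.ext (by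
    change (c : G) * ((x * y : X) : G) * (c : G)⁻¹ = (c * x * (c : G)⁻¹) * (c * y * (c : G)⁻¹)
    push_cast; group)
  smul_one c := Subtype.ext (by change (c : G) * ((1 : X) : G) * (c : G)⁻¹ = ((1 : X) : G); simp)

namespace Fr

variable {G : Type u} [Group G] [Finite G] {T : Subgroup G} {V Z : Fin 2 → Subgroup G}

theorem preQ (hML : ML.Final.MLK.{u, u}) (D : Fr T V Z) {i : Fin 2} {X B : Subgroup G} (hK : IsKGroup (CC Z i))
    (O : Out T V Z i X B) :
    letI := actX O.CX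
    PreQ (T.subgroupOf (CC Z i)) (B.subgroupOf (CC Z i)) ((Z (i + 1)).subgroupOf X) ((V i).subgroupOf X) := by
  let := actX O.CX
  change PreQ (T.subgroupOf (CC Z i)) (B.subgroupOf (CC Z i)) ((Z (i + 1)).subgroupOf X) ((V i).subgroupOf X)
  have hBC : B ≤ CC Z i := O.BO.trans (D.O_le_T.trans (D.T_le_C i))
  have hZN : Z (i + 1) ≤ NN Z i := le_V _ _
  have hZX : Z (i + 1) ≤ X := hZN.trans O.NX
  have hsm : ∀ (c : CC Z i) (m : X), ((c • m : X) : G) = c * m * (c : G)⁻¹ := fun _ _ => rfl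
  have hfix : ∀ (c : CC Z i) (m : X), c • m = m ↔ (m : G) * c = c * m := by
    intro c m
    rw [Subtype.ext_iff, hsm, mul_inv_eq_iff_eq_mul, eq_comm]
  have hnrm : ∀ (Y : Subgroup G) (c : CC Z i), (c : G) ∈ normalizer (Y : Set G) → ∀ m ∈ Y.subgroupOf X,
      c • m ∈ Y.subgroupOf X := by
    intro Y c hc m hm
    refine mem_subgroupOf.2 ?_
    rw [hsm]
    exact (mem_normalizer_iff.1 hc _).1 (mem_subgroupOf.1 hm)
  have hfxr : ∀ Y : Subgroup G, Y ≤ X → fxr (CC Z i) (Y.subgroupOf X) = (centralizer (Y : Set G)).subgroupOf (CC Z i) := by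
    intro Y hY
    ext c
    rw [mem_subgroupOf, mem_centralizer_iff]
    constructor
    · intro h y hy
      exact (hfix c ⟨y, hY hy⟩).1 (h _ (mem_subgroupOf.2 hy))
    · intro h y hy
      exact (hfix c y).2 (h _ (mem_subgroupOf.1 hy))
  have hfxt : fxr (CC Z i) (⊤ : Subgroup X) = (centralizer (X : Set G)).subgroupOf (CC Z i) := by
    rw [← hfxr X le_rfl, subgroupOf_self]
  have hnT : ∀ g : CC Z i, g ∈ normalizer ((T.subgroupOf (CC Z i) : Subgroup (CC Z i)) : Set (CC Z i)) →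
      (g : G) ∈ CC Z i ⊓ normalizer (T : Set G) := by
    intro g hg
    refine mem_inf.2 ⟨g.2, ?_⟩
    rw [mem_normalizer_iff]
    intro t
    constructor
    · intro ht
      exact (mem_normalizer_iff.1 hg ⟨t, D.T_le_C i ht⟩).1 ht
    · intro ht
      have h1 : (g : G)⁻¹ * ((g : G) * t * (g : G)⁻¹) * (g : G)⁻¹⁻¹ ∈ T :=
        (mem_normalizer_iff.1 (inv_mem hg) ⟨(g : G) * t * (g : G)⁻¹, D.T_le_C i ht⟩).1 ht
      have e : (g : G)⁻¹ * ((g : G) * t * (g : G)⁻¹) * (g : G)⁻¹⁻¹ = t := by group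
      rwa [e] at h1
  have hcv : ∀ A : Subgroup (CC Z i), (cv X (A : Set (CC Z i))).index =
      (centralizer ((A.map (CC Z i).subtype : Subgroup G) : Set G)).relIndex X := by
    intro A
    change _ = ((centralizer ((A.map (CC Z i).subtype : Subgroup G) : Set G)).subgroupOf X).index
    congr 1
    ext m
    rw [mem_subgroupOf, mem_centralizer_iff]
    constructor
    · rintro hm _ ⟨a, ha, rfl⟩
      exact ((hfix a m).1 (hm a ha)).symm
    · intro hm a ha
      exact (hfix a m).2 (hm a ⟨a, ha, rfl⟩).symm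
  refine ⟨?_, ?_, ?_, ?_, ?_, ?_, ?_, ?_, ?_, ?_, ?_, ?_, ?_, ?_, ?_, hK⟩
  · intro m
    apply Subtype.ext
    have h := O.sqX m m.2
    rw [pow_two] at h
    exact h
  · exact D.T_isPGroup.comap_of_injective (CC Z i).subtype (CC Z i).subtype_injective
  · exact syl_not_dvd (D.syl i)
  · intro z hz t ht
    rw [hfix]
    exact mem_centralizer_iff.1 (D.T_le_C (i + 1) (mem_subgroupOf.1 ht)) z (mem_subgroupOf.1 hz)
  · exact fun g hg => hnrm _ g (D.nT i (hnT g hg)).1.1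
  · exact fun g hg => hnrm _ g (D.nT i (hnT g hg)).1.2
  · intro w hw hwT g
    rw [hfix]
    have h1 : (w : G) ∈ centralizer (T : Set G) := by
      rw [mem_centralizer_iff]
      intro t ht
      exact ((hfix ⟨t, D.T_le_C i ht⟩ w).1 (hwT _ (mem_subgroupOf.2 ht))).symm
    exact mem_centralizer_iff.1 g.2 w (D.cV i w (mem_subgroupOf.1 hw) h1)
  · intro P hP
    have hR := Plug.minPar_map (D.T_le_C i) hP
    have hRC : P.map (CC Z i).subtype ≤ CC Z i := map_subtype_le P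
    by_cases hRm : P.map (CC Z i).subtype ≤ CC Z (i + 1)
    · left
      intro z hz p hp
      rw [hfix]
      exact mem_centralizer_iff.1 (hRm (mem_map_of_mem (CC Z i).subtype hp)) z (mem_subgroupOf.1 hz)
    · right
      intro g hg hog w hw
      have h1 := D.odd (i + 1) i (ne_add_one i).symm _ hR hRC hRm g (mem_map_of_mem (CC Z i).subtype hg)
        (by rwa [orderOf_coe])
      rw [hfix]
      exact mem_centralizer_iff.1 h1 w (mem_subgroupOf.1 hw)
  · intro a ha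
    apply Subtype.ext
    have h := O.sqB a (mem_subgroupOf.1 ha)
    rw [pow_two] at h
    exact h
  · refine Plug.sub_o2 (S := centralizer (zc T : Set G)) (fun c => ?_) O.BO
    rw [hfxr _ hZX, mem_subgroupOf]
    constructor
    · exact fun h => D.mem_D c.2 h
    · exact fun h => D.cent_zc_le (i + 1) h
  · refine Plug.sub_o2 (S := HH T V i) (fun c => ?_) O.BH
    rw [hfxr (V i) O.VX, ← subgroupOf_sup (D.cent_V_le i) (D.T_le_C i), mem_subgroupOf]
  · intro a ha hc m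
    have h1 : (a : G) ∈ centralizer (NN Z i : Set G) := by
      have h2 : NN Z i ≤ centralizer ({(a : G)} : Set G) := by
        refine V_le fun c hc' z hz => ?_
        rw [mem_conj] at hz
        rw [mem_centralizer_singleton_iff]
        have h3 := hc ⟨c, hc'⟩ ⟨c⁻¹ * z * c, hZX hz⟩ (mem_subgroupOf.2 hz)
        rw [hfix] at h3
        have e : (((⟨c, hc'⟩ : CC Z i) • (⟨c⁻¹ * z * c, hZX hz⟩ : X) : X) : G) = z := by
          rw [hsm]
          change c * (c⁻¹ * z * c) * c⁻¹ = z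
          group
        rw [e] at h3
        exact h3
      rw [mem_centralizer_iff]
      exact fun x hx => mem_centralizer_singleton_iff.1 (h2 hx)
    rw [hfix]
    exact mem_centralizer_iff.1 (O.ker ⟨mem_subgroupOf.1 ha, h1⟩) m m.2
  · by_contra hc
    push Not at hc
    apply O.mv
    intro b hb
    rw [mem_centralizer_iff]
    intro x hx
    have h1 := hc ⟨b, hBC hb⟩ (mem_subgroupOf.2 hb) ⟨x, O.NX hx⟩
    exact (hfix _ _).1 h1
  · intro A hA
    have hAB : A.map (CC Z i).subtype ≤ B := by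
      rintro _ ⟨a, ha, rfl⟩
      exact mem_subgroupOf.1 (hA ha)
    have h1 := D.no_N hML hK (hAB.trans O.BO) (fun b hb => O.sqB b (hAB hb))
    have e1 : (fxr (CC Z i) (⊤ : Subgroup X)).relIndex A =
        (centralizer (X : Set G)).relIndex (A.map (CC Z i).subtype) := by
      rw [hfxt, subgroupOf, relIndex_comap]
    rw [e1, hcv]
    have h2 : (centralizer (X : Set G)).relIndex (A.map (CC Z i).subtype) ≤
        (centralizer (NN Z i : Set G)).relIndex (A.map (CC Z i).subtype) := by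
      rw [← inf_relIndex_left (A.map (CC Z i).subtype) (centralizer (NN Z i : Set G)),
        ← inf_relIndex_left (A.map (CC Z i).subtype) (centralizer (X : Set G))]
      exact relIndex_anti (le_inf inf_le_left ((inf_le_inf_right _ hAB).trans O.ker))
    exact h2.trans (h1.trans (relIndex_mono O.NX))
  · rw [hcv, hfxt, relIndex_subgroupOf hBC]
    have e : (B.subgroupOf (CC Z i)).map (CC Z i).subtype = B := by
      rw [subgroupOf_map_subtype, inf_eq_left.2 hBC]
    rw [e]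
    exact O.ex.trans (relIndex_anti (centralizer_le O.NX))

/-- **the input of THEOREM KL*(q)** -/
theorem inpQ (hML : ML.Final.MLK.{u, u}) (D : Fr T V Z) {i : Fin 2} {X B : Subgroup G} (hK : IsKGroup (CC Z i))
    (O : Out T V Z i X B) :
    ∃ (H M : Type u) (_ : Group H) (_ : Finite H) (_ : Group M) (_ : Finite M) (_ : MulDistribMulAction H M)
      (T' A' : Subgroup H) (Z' Y' : Subgroup M), InpQ T' A' Z' Y' := by
  let := actX O.CX
  obtain ⟨H, _, _, _, T', A', h⟩ := (D.preQ hML hK O).inp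
  exact ⟨H, X, inferInstance, inferInstance, inferInstance, inferInstance, inferInstance, T', A', _, _, h⟩

/-- **EX + KL*(q)** -/
theorem out_false (hML : ML.Final.MLK.{u, u}) (hE : ML.Ex.Two.Ext.{u, u}) (D : Fr T V Z) {i : Fin 2}
    {X B : Subgroup G} (hK : IsKGroup (CC Z i)) (O : Out T V Z i X B) : False := by
  obtain ⟨H, M, _, _, _, _, _, T', A', Z', Y', h⟩ := D.inpQ hML hK O
  exact h.false_of hML hE

/-- **#22505 (II), any centres**: only 'not FAIL, `V i ≰ N_i`, `J(O)` moves `V i`, on both sides' is left -/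
theorem ex_false (hML : ML.Final.MLK.{u, u}) (hE : ML.Ex.Two.Ext.{u, u}) (D : Fr T V Z)
    (hK : ∀ i, IsKGroup (CC Z i)) : ∀ i, ¬ Fail T V Z i ∧ ¬ V i ≤ NN Z i ∧
      ∃ A : Subgroup G, Mx (o2 (centralizer (zc T : Set G))) A ∧ ¬ A ≤ centralizer (V i : Set G) := by
  rcases D.ex hML hK with ⟨i, X, B, O⟩ | h
  · exact (D.out_false hML hE (hK i) O).elim
  · exact h

end Fr

end Cfsg.Agent.Omega.KL.TwoZ
end

-- part: Mrg/Omega/NO3S/SFive/WCNorm
section
prune_inst 0x1000000000000000000010800020000000000000200000a02000020040810080018101080014001010200000080000001000408000000000000000000000208020400002000000220001000000000000000000000000000000000000000000000000000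
set_option linter.all false
open scoped Cfsg.Agent.FastGrp

-- merged: Cfsg.Agent.Mrg.Omega.NO3S.SFive.WCBase
section

section


/-!
# GammaFF (S5), `k = 1` natural: THEOREM WC1 (helper879 #23006), the block analysis in adapted coordinates

`L = V_P` natural for `SL₂(K)`, `|K| ≥ 4`, `N : Crd K S P L`, `R = N.R` the root line; `F` a maximal bad subgroup of `V`,
`E`, `W`; `B` (`BH V F B`) elementary abelian, `I = V ∩ B`.

* `BH_cj` : `BH V F B` is invariant under `N(V)`;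
* `Rt N V F B R'` : `B` acts on `L` as the full root group, `R ∩ F = 1`, `R ≤ B`, `[V, B] ≤ R R'`;
* `rt_of` : this holds if `B ≤ S`, `|I : F| = |K|`, `L ≰ E`, `[E, B] ≤ R'`.
-/

set_option autoImplicit false
set_option linter.unusedSectionVars false
set_option linter.unusedVariables false

namespace Cfsg.Agent.Omega.NO3S.SFive.One

/- `WW`, `Hyp` are those of `NOne.Flat` in this namespace (and not those of `NO3S`). -/
export Cfsg.Agent.Omega.NOne.Flat (WW Hyp)

open Subgroup Cfsg Cfsg.Agent.ZN Cfsg.Agent.ZN.ChoiceBase Cfsg.Agent.Omega.MinPar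
open Cfsg.Agent.Omega.NOne.Flat (Hyp EE WW NN Cos card_mul_relIndex')
open Cfsg.Agent.Omega.NOne.NearFF (c c_def)
open Cfsg.Agent.Omega.NOThreeL.Low.Key (BH)
open Cfsg.Agent.Omega.NO3S.Fld (Crd)
open scoped Pointwise

universe u

variable {G : Type u} [Group G] [Finite G]

theorem cs_eq (m : G) (H : Subgroup G) : MulAut.conj m • H = cj m H := rfl

/-- elements of a product -/
theorem sup_split {A B : Subgroup G} (hn : A ≤ normalizer (B : Set G)) {x : G} (hx : x ∈ A ⊔ B) :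
    ∃ a ∈ A, ∃ b ∈ B, x = a * b := by
  have h1 : x ∈ ((A ⊔ B : Subgroup G) : Set G) := hx
  rw [coe_mul_of_left_le_normalizer_right A B hn] at h1
  obtain ⟨a, ha, b, hb, hab⟩ := h1
  exact ⟨a, ha, b, hb, hab.symm⟩

/-- subgroups of an abelian group normalise each other -/
theorem ab_norm {V A B : Subgroup G} (hV : V ≤ centralizer (V : Set G)) (hA : A ≤ V) (hB : B ≤ V) :
    A ≤ normalizer (B : Set G) :=
  (hA.trans (hV.trans (centralizer_le hB))).trans (centralizer_le_normalizer _)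

/-- `cj` of a commutator -/
theorem cj_c (g x y : G) : g * c x y * g⁻¹ = c (g * x * g⁻¹) (g * y * g⁻¹) := by
  simp only [c]; group

theorem mem_cj' {g x : G} {H : Subgroup G} (hx : x ∈ H) : g * x * g⁻¹ ∈ cj g H := by
  rw [mem_cj]
  have e : g⁻¹ * (g * x * g⁻¹) * g = x := by group
  rwa [e]

theorem EE_cj {V F : Subgroup G} {m : G} (hm : m ∈ normalizer (V : Set G)) : EE V (cj m F) = cj m (EE V F) := by
  rw [← cs_eq m F, ← cs_eq m (EE V F)]
  exact (NOne.Flat.EE_conj hm).symm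

theorem WW_cj {V F : Subgroup G} {m : G} (hm : m ∈ normalizer (V : Set G)) : WW V (cj m F) = cj m (WW V F) := by
  rw [← cs_eq m F, ← cs_eq m (WW V F)]
  exact (NOne.Flat.WW_conj hm).symm

theorem Hyp_cj {V F : Subgroup G} (h : Hyp V F) {m : G} (hm : m ∈ normalizer (V : Set G)) : Hyp V (cj m F) := by
  rw [← cs_eq m F]
  exact h.conj hm

/-- `BH` is invariant under `N(V)`. -/
theorem BH_cj {V F B : Subgroup G} (h : BH V F B) {m : G} (hm : m ∈ normalizer (V : Set G)) :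
    BH V (cj m F) (cj m B) := by
  have h0 := Hyp_cj h.toHyp hm
  have h1 : cj m B ≤ WW V (cj m F) := by
    rw [WW_cj hm]
    exact cj_mono m h.le_W
  have h2 : cj m B ≤ centralizer ((cj m B : Subgroup G) : Set G) := by
    rw [← cj_centralizer]
    exact cj_mono m h.abel
  have h3 : centralizer ((cj m F : Subgroup G) : Set G) ≤ normalizer ((cj m B : Subgroup G) : Set G) := by
    rw [← cj_centralizer, ← cj_normalizer]
    exact cj_mono m h.norm
  exact { toHyp := h0, le_W := h1, F_le := cj_mono m h.F_le, abel := h2, norm := h3 }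

variable {K : Type*} [Field K] {S P L V F B R' : Subgroup G}

/-- The output of the block analysis: `B` acts on `L` as the full root group. -/
structure Rt (N : Crd K S P L) (V F B R' : Subgroup G) : Prop where
  cen : B ≤ centralizer (N.R : Set G)
  full : ∀ a : K, ∃ b ∈ B, N.Act b (RingEquiv.refl K) a
  RF : N.R ⊓ F = ⊥
  RB : N.R ≤ B
  comm : ∀ v ∈ V, ∀ b ∈ B, c v b ∈ N.R ⊔ R'

section

variable [Finite K] [CharP K 2] (N : Crd K S P L) (bh : BH V F B) (hsq : ∀ b ∈ B, b ^ 2 = 1) (hBS : B ≤ S)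
  (hLV : L ≤ V)
include N bh hsq hBS hLV

/-- `c v b ∈ R` for `v ∈ L`, `b ∈ C_S(R)` -/
theorem c_mem_R {v b : G} (hb : b ∈ S) (hbR : b ∈ centralizer (N.R : Set G)) (hv : v ∈ L) : c v b ∈ N.R := by
  have h1 := N.comm_R hb hbR hv
  have h2 := inv_mem h1
  have e : (b * v * b⁻¹ * v⁻¹)⁻¹ = c v b := by rw [c]; group
  rwa [e] at h2

/-- no field automorphisms -/
theorem cen_of (h4 : 2 < F.relIndex (V ⊓ B)) (hLE : ¬ L ≤ EE V F) : B ≤ centralizer (N.R : Set G) := by
  by_contra hn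
  have hsq' : ∀ a ∈ B, a ^ 2 ∈ centralizer (N.R : Set G) := fun a ha => by
    rw [hsq a ha]; exact one_mem _
  obtain ⟨φ, h1, h2, h3⟩ := N.exists_phi hBS hsq' hn
  obtain ⟨f, hf, hfR⟩ := SetLike.not_le_iff_exists.1 hn
  obtain ⟨cf, hcf⟩ := h3 f hf hfR
  -- the elements of `C_B(R)` centralise `L`
  have key : ∀ d ∈ B, d ∈ centralizer (N.R : Set G) → d ∈ centralizer (L : Set G) := by
    intro d hd hdR
    obtain ⟨cd, hcd⟩ := N.exists_root (hBS hd) hdR
    obtain ⟨y, hy⟩ : ∃ y, φ y ≠ y := by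
      by_contra hcon
      push Not at hcon
      exact h1 (RingEquiv.ext hcon)
    rw [hcd.mem_centV]
    refine ⟨rfl, ?_⟩
    have h5 := bh.quad (hLV (N.e_mem ![0, y])) hf hd
    have h6 : c (N.e ![0, y]) f = N.e ![-(cf * φ y), y - φ y] := by
      have h7 := hcf ![0, y]
      have e : c (N.e ![0, y]) f = N.e ![0, y] * (f * N.e ![0, y] * f⁻¹)⁻¹ := by rw [c]; group
      rw [e, h7, ← N.e_neg, ← N.e_add]
      congr 1
      apply NatPair.ext2 <;> simp only [sub_eq_add_neg, _root_.Fin.isValue, _root_.Matrix.cons_val_zero, _root_.map_zero, _root_.Matrix.cons_val_one, _root_.Matrix.cons_val_fin_one, _root_.zero_add, _root_.Matrix.neg_cons, _root_.Matrix.neg_empty, _root_.Pi.add_apply]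
    rw [h6] at h5
    have h8 := hcd ![-(cf * φ y), y - φ y]
    rw [← h5, mul_inv_cancel_right] at h8
    have h9 := congrFun (N.e_inj h8) 0
    have h10 : cd * (y - φ y) = 0 := by
      have h11 : -(cf * φ y) = -(cf * φ y) + cd * (y - φ y) := by simpa only [_root_.left_eq_add, _root_.mul_eq_zero, _root_.Fin.isValue, _root_.Matrix.cons_val_zero, _root_.RingEquiv.refl_apply, _root_.Matrix.cons_val_one, _root_.Matrix.cons_val_fin_one] using h9
      exact left_eq_add.1 h11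
    rcases mul_eq_zero.1 h10 with h11 | h11
    · exact h11
    · exact absurd (sub_eq_zero.1 h11).symm hy
  obtain ⟨w, hw, hwE⟩ := SetLike.not_le_iff_exists.1 hLE
  refine absurd h4 (not_lt.2 (bh.relIndex_le_two (hLV hw) hwE fun b hb b' hb' hbw hbw' => ?_))
  have hmv : ∀ b ∈ B, b * w * b⁻¹ ≠ w → b ∉ centralizer (N.R : Set G) := by
    intro b hb hbw hbR
    apply hbw
    have h5 := mem_centralizer_iff.1 (key b hb hbR) w hw
    rw [← h5, mul_inv_cancel_right]
  obtain ⟨c1, hc1⟩ := h3 b hb (hmv b hb hbw)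
  obtain ⟨c2, hc2⟩ := h3 b' hb' (hmv b' hb' hbw')
  have h5 : b'⁻¹ * b ∈ centralizer (L : Set G) := by
    refine key _ (mul_mem (inv_mem hb') hb) ?_
    rw [(hc2.inv.mul hc1).mem_centR]
    ext x
    simp
  have h6 := mem_centralizer_iff.1 h5 w hw
  calc b * w * b⁻¹ = b' * ((b'⁻¹ * b) * w) * b⁻¹ := by group
    _ = b' * (w * (b'⁻¹ * b)) * b⁻¹ := by rw [h6]
    _ = b' * w * b'⁻¹ := by group

/-- `R ∩ F = 1`, `R ≤ B`, `|I : F| = |K|` -/
theorem RF_of (hcen : B ≤ centralizer (N.R : Set G)) (hidx : Nat.card K ≤ F.relIndex (V ⊓ B))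
    (hLE : ¬ L ≤ EE V F) : N.R ⊓ F = ⊥ ∧ N.R ≤ B ∧ F.relIndex (V ⊓ B) = Nat.card K := by
  obtain ⟨w, hw, hwE⟩ := SetLike.not_le_iff_exists.1 hLE
  have hF := bh.F_le_I
  -- `I = (R ∩ I) F`
  have h1 : (N.R ⊓ (V ⊓ B)) ⊔ F = V ⊓ B := by
    apply le_antisymm (sup_le inf_le_right hF)
    intro y hy
    obtain ⟨b, hb, hbF⟩ := bh.surj (hLV hw) hwE hy
    have h2 := c_mem_R N bh hsq hBS hLV (hBS hb) (hcen hb) hw
    have e : y = c w b * ((c w b)⁻¹ * y) := by group
    rw [e]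
    exact mul_mem (mem_sup_left ⟨h2, bh.c_memI (hLV hw) hb⟩) (mem_sup_right hbF)
  have hnF : (N.R ⊓ (V ⊓ B) : Subgroup G) ≤ normalizer (F : Set G) :=
    ab_norm bh.toHyp.comm (inf_le_right.trans inf_le_left) bh.toHyp.F_le_V
  have h2 := NOne.Flat.Off.card_sup_mul_inf hnF
  rw [h1] at h2
  have h3 := card_mul_relIndex' hF
  have h4 : Nat.card ↥(N.R ⊓ (V ⊓ B) : Subgroup G) ≤ Nat.card K := by
    rw [← N.card_R]
    exact Subgroup.card_le_of_le inf_le_left
  have p1 : 0 < Nat.card F := Nat.card_pos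
  have p2 : 0 < Nat.card K := Nat.card_pos
  rw [← h3] at h2
  have h5 : F.relIndex (V ⊓ B) * Nat.card ↥((N.R ⊓ (V ⊓ B)) ⊓ F : Subgroup G) =
      Nat.card ↥(N.R ⊓ (V ⊓ B) : Subgroup G) := by
    have h6 : Nat.card F * (F.relIndex (V ⊓ B) * Nat.card ↥((N.R ⊓ (V ⊓ B)) ⊓ F : Subgroup G)) =
        Nat.card F * Nat.card ↥(N.R ⊓ (V ⊓ B) : Subgroup G) := by
      rw [← mul_assoc, h2, mul_comm]
    exact Nat.eq_of_mul_eq_mul_left p1 h6
  have h6 : Nat.card ↥((N.R ⊓ (V ⊓ B)) ⊓ F : Subgroup G) = 1 := by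
    have p3 : 0 < Nat.card ↥((N.R ⊓ (V ⊓ B)) ⊓ F : Subgroup G) := Nat.card_pos
    by_contra hne
    have h7 : 2 ≤ Nat.card ↥((N.R ⊓ (V ⊓ B)) ⊓ F : Subgroup G) := by omega
    have h8 := Nat.mul_le_mul hidx h7
    omega
  rw [h6, mul_one] at h5
  have h8 : F.relIndex (V ⊓ B) = Nat.card K := le_antisymm (by rw [h5]; exact h4) hidx
  have h7 : N.R ⊓ (V ⊓ B) = N.R := Subgroup.eq_of_le_of_card_ge inf_le_left (by rw [N.card_R, ← h5, h8])
  refine ⟨?_, (inf_eq_left.1 h7).trans inf_le_right, h8⟩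
  rw [← h7]
  exact Subgroup.card_eq_one.1 h6

/-- The root group is full. -/
theorem full_of (hcen : B ≤ centralizer (N.R : Set G)) (hRF : N.R ⊓ F = ⊥) (hRB : N.R ≤ B) (hLE : ¬ L ≤ EE V F)
    (a : K) : ∃ b ∈ B, N.Act b (RingEquiv.refl K) a := by
  obtain ⟨w, hw, hwE⟩ := SetLike.not_le_iff_exists.1 hLE
  obtain ⟨x, rfl⟩ := (N.mem_iff w).1 hw
  have hx : x 1 ≠ 0 := by
    intro h0
    apply hwE
    exact bh.I_le_E ⟨hLV hw, hRB (N.e_mem_R.2 h0)⟩
  have ht : N.e ![-(a * x 1), 0] ∈ V ⊓ B :=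
    ⟨hLV (N.e_mem _), hRB ⟨_, rfl⟩⟩
  obtain ⟨b, hb, hbF⟩ := bh.surj (hLV hw) hwE ht
  have h2 := c_mem_R N bh hsq hBS hLV (hBS hb) (hcen hb) hw
  have h3 : (c (N.e x) b)⁻¹ * N.e ![-(a * x 1), 0] = 1 := by
    have h4 : (c (N.e x) b)⁻¹ * N.e ![-(a * x 1), 0] ∈ N.R ⊓ F := ⟨N.R.mul_mem (N.R.inv_mem h2) ⟨_, rfl⟩, hbF⟩
    rw [hRF] at h4
    exact mem_bot.1 h4
  have h4 : c (N.e x) b = N.e ![-(a * x 1), 0] := (inv_mul_eq_one.1 h3)
  obtain ⟨cb, hcb⟩ := N.exists_root (hBS hb) (hcen hb)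
  have h5 : c (N.e x) b = N.e ![-(cb * x 1), 0] := by
    have h7 := hcb x
    have e : c (N.e x) b = N.e x * (b * N.e x * b⁻¹)⁻¹ := by rw [c]; group
    rw [e, h7, ← N.e_neg, ← N.e_add]
    congr 1
    apply NatPair.ext2 <;> simp
  rw [h5] at h4
  have h6 := congrFun (N.e_inj h4) 0
  have h7 : cb * x 1 = a * x 1 := by simpa only [_root_.Fin.isValue, _root_.mul_eq_mul_right_iff, _root_.Matrix.cons_val_zero, _root_.neg_inj] using h6
  have h8 := mul_right_cancel₀ hx h7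
  subst h8
  exact ⟨b, hb, hcb⟩

/-- `L ∩ E = R` -/
theorem inf_E (hcen : B ≤ centralizer (N.R : Set G)) (hRF : N.R ⊓ F = ⊥) (hRB : N.R ≤ B) (hLE : ¬ L ≤ EE V F) :
    L ⊓ EE V F = N.R := by
  have hfull := full_of N bh hsq hBS hLV hcen hRF hRB hLE
  have hRE : N.R ≤ EE V F := fun r hr => bh.I_le_E ⟨hLV (N.R_le hr), hRB hr⟩
  refine le_antisymm ?_ (le_inf N.R_le hRE)
  rintro v ⟨hv, hvE⟩
  obtain ⟨x, rfl⟩ := (N.mem_iff v).1 hv
  rw [N.e_mem_R]
  by_contra hx
  obtain ⟨b, hb, hbc⟩ := hfull 1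
  have h5 : c (N.e x) b ∈ N.R ⊓ F :=
    ⟨c_mem_R N bh hsq hBS hLV (hBS hb) (hcen hb) hv, bh.toHyp.comm_EW hvE (bh.le_W hb)⟩
  rw [hRF, mem_bot, NOne.Flat.Off.c_eq_one] at h5
  have h6 := hbc x
  rw [← h5, mul_inv_cancel_right] at h6
  have h7 := congrFun (N.e_inj h6) 0
  have h8 : x 0 = x 0 + x 1 := by simpa using h7
  exact hx (left_eq_add.1 h8)

/-- **`|I : F| = |K| ≤ |V : E|`** at a bad line. -/
theorem idx_of (h4 : 4 ≤ Nat.card K) (hidx : Nat.card K ≤ F.relIndex (V ⊓ B)) (hLE : ¬ L ≤ EE V F) :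
    F.relIndex (V ⊓ B) = Nat.card K ∧ F.relIndex (V ⊓ B) ≤ (EE V F).relIndex V := by
  have hcen := cen_of N bh hsq hBS hLV (by omega) hLE
  obtain ⟨hRF, hRB, hidx'⟩ := RF_of N bh hsq hBS hLV hcen hidx hLE
  refine ⟨hidx', ?_⟩
  rw [hidx']
  have h1 := inf_E N bh hsq hBS hLV hcen hRF hRB hLE
  have h2 : (EE V F).relIndex L = Nat.card K := by
    rw [← inf_relIndex_right, inf_comm, h1]
    have h3 := card_mul_relIndex' N.R_le
    rw [N.card_R, N.card_V] at h3
    exact Nat.eq_of_mul_eq_mul_left Nat.card_pos h3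
  rw [← h2]
  exact relIndex_le_of_le_right hLV index_ne_zero_of_finite

/-- **The block analysis.** -/
theorem rt_of (h4 : 4 ≤ Nat.card K) (hidx : F.relIndex (V ⊓ B) = Nat.card K) (hLE : ¬ L ≤ EE V F)
    (hρ : ∀ e ∈ EE V F, ∀ b ∈ B, c e b ∈ R') : Rt N V F B R' := by
  have hcen := cen_of N bh hsq hBS hLV (by omega) hLE
  obtain ⟨hRF, hRB, -⟩ := RF_of N bh hsq hBS hLV hcen hidx.ge hLE
  have hfull := full_of N bh hsq hBS hLV hcen hRF hRB hLE
  refine ⟨hcen, hfull, hRF, hRB, ?_⟩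
  have h1 := inf_E N bh hsq hBS hLV hcen hRF hRB hLE
  -- `V = L E`
  have hI : ¬ V ⊓ B ≤ F := fun h => by
    rw [relIndex_eq_one.2 h] at hidx
    omega
  have h2 : L ⊔ EE V F = V := by
    refine Subgroup.eq_of_le_of_card_ge (sup_le hLV inf_le_left) ?_
    have hn : L ≤ normalizer (EE V F : Set G) := ab_norm bh.toHyp.comm hLV inf_le_left
    have h5 := NOne.Flat.Off.card_sup_mul_inf hn
    rw [h1, N.card_R, N.card_V] at h5
    have h6 := card_mul_relIndex' (inf_le_left : EE V F ≤ V)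
    have h7 := bh.relIndex_V_le hI
    rw [hidx] at h7
    have p : 0 < Nat.card K := Nat.card_pos
    have h8 : Nat.card ↥(L ⊔ EE V F) = Nat.card K * Nat.card ↥(EE V F) := by
      have h9 : Nat.card K * Nat.card ↥(L ⊔ EE V F) = Nat.card K * (Nat.card K * Nat.card ↥(EE V F)) := by
        rw [mul_comm, h5, mul_assoc]
      exact Nat.eq_of_mul_eq_mul_left p h9
    rw [h8, ← h6, mul_comm]
    exact Nat.mul_le_mul_right _ h7
  intro v hv b hb
  rw [← h2] at hv
  have hn : L ≤ normalizer (EE V F : Set G) := ab_norm bh.toHyp.comm hLV inf_le_left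
  obtain ⟨l, hl, e, he, rfl⟩ := sup_split hn hv
  rw [bh.toHyp.c_mul_left (hLV hl) he.1 (bh.le_W hb)]
  exact mul_mem (mem_sup_left (c_mem_R N bh hsq hBS hLV (hBS hb) (hcen hb) hl)) (mem_sup_right (hρ e he b hb))

end

end Cfsg.Agent.Omega.NO3S.SFive.One

end

section


/-!
# GammaFF (S5), `k = 1` natural: THEOREM WC1 (helper879 #23006 (3)), the end

`Wc S P V M F B N` : `W_F ≤ S` moves `L = V_P` (natural for `SL₂(K)`, `|K| ≥ 4`, coordinates `N : Crd K S P L`),
`B = B_F ≤ Q = O₂(P)`, `I = V ∩ B = L F`, `|I : F| ≤ |V : E|`; `B^m ≤ S` centralises `L` if `L ≤ E^m`.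

* `Wc.WR`, `Wc.inf_F`, `Wc.W_full`, `Wc.idx`, `Wc.rho` : `W` acts on `L` as the full root group, `L ∩ F = R`, `|I : F| = |K|`,
  `[E, B] ≤ R`;
* `Wc.rt` : `B^m ≤ S`, `L ≰ E^m`: `B^m` acts on `L` as the full root group, `R ∩ F^m = 1`, `[V, B^m] ≤ R R^m`;
* **`Wc.false`** : `Q ≤ S^g`, `Q^g ≤ S^a` (`g ∈ M`, `a ∈ P`), `L^g ≰ E` is impossible.
-/

set_option autoImplicit false
set_option linter.unusedSectionVars false
set_option linter.unusedVariables false

namespace Cfsg.Agent.Omega.NO3S.SFive.One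

open Subgroup Cfsg Cfsg.Agent.ZN Cfsg.Agent.ZN.ChoiceBase Cfsg.Agent.Omega.MinPar
open Cfsg.Agent.Omega.NOne.Flat (Hyp EE WW NN Cos card_mul_relIndex')
open Cfsg.Agent.Omega.NOne.NearFF (c c_def)
open Cfsg.Agent.Omega.NOThreeL.Low.Key (BH)
open Cfsg.Agent.Omega.NO3S.Fld (Crd)
open Cfsg.Agent.Omega.NO3S.BetaFF (Act)
open Cfsg.Agent.Omega.FFThm (StmtM)
open Cfsg.Agent.Omega.NatPair (ap ap_zero' ap_one' ap_one ap_mul ap_ap_inv ext2)
open Cfsg.Agent.Lib.SL2Mat
open scoped Pointwise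

universe u

variable {G : Type u} [Group G] [Finite G]

theorem relIndex_cj (m : G) (A B : Subgroup G) : (cj m A).relIndex (cj m B) = A.relIndex B := by
  rw [← cs_eq m A, ← cs_eq m B]
  exact relIndex_pointwise_smul (MulAut.conj m) A B

/-- **The situation of THEOREM WC1.** -/
structure Wc {K : Type*} [Field K] (S : Sylow 2 G) (P V M F B : Subgroup G)
    (N : Crd K (S : Subgroup G) P (zl (S : Subgroup G) P)) : Prop extends Act S P V F where
  four : 4 ≤ Nat.card K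
  PM : P ≤ M
  MV : M ≤ normalizer (V : Set G)
  VS : V ≤ (S : Subgroup G)
  bh : BH V F B
  sq : ∀ b ∈ B, b ^ 2 = 1
  BQ : B ≤ o2 P
  LB : zl (S : Subgroup G) P ≤ B
  IL : V ⊓ B ≤ zl (S : Subgroup G) P ⊔ F
  idxV : F.relIndex (V ⊓ B) ≤ (EE V F).relIndex V
  good : ∀ m ∈ M, cj m B ≤ (S : Subgroup G) → zl (S : Subgroup G) P ≤ cj m (EE V F) →
    cj m B ≤ centralizer (zl (S : Subgroup G) P : Set G)

/-- A 2-group `A` and a 2-group `C` of `H`: some Sylow group of `H` contains `A` and a conjugate of `C`. -/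
theorem exists_syl_conj {H A C : Subgroup G} (hA : IsPGroup 2 A) (hAH : A ≤ H) (hC : IsPGroup 2 C) (hCH : C ≤ H) :
    ∃ T ≤ H, IsPGroup 2 T ∧ A ≤ T ∧ ∃ y ∈ H, cj y C ≤ T := by
  have : Fact (Nat.Prime 2) := ⟨Nat.prime_two⟩
  have hA' : IsPGroup 2 (A.subgroupOf H) := hA.comap_of_injective H.subtype H.subtype_injective
  have hC' : IsPGroup 2 (C.subgroupOf H) := hC.comap_of_injective H.subtype H.subtype_injective
  obtain ⟨T, hT⟩ := hA'.exists_le_sylow
  obtain ⟨T', hT'⟩ := hC'.exists_le_sylow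
  obtain ⟨y, hy⟩ := MulAction.exists_smul_eq H T' T
  refine ⟨(T : Subgroup H).map H.subtype, ?_, T.isPGroup'.map _, fun a ha => ?_, y, y.2, ?_⟩
  · rintro _ ⟨x, -, rfl⟩
    exact x.2
  · exact ⟨⟨a, hAH ha⟩, hT (by rw [mem_subgroupOf]; exact ha), rfl⟩
  · intro x hx
    rw [mem_cj] at hx
    have h1 : (⟨(y : G)⁻¹ * x * y, hCH hx⟩ : H) ∈ (T' : Subgroup H) := hT' (by rw [mem_subgroupOf]; exact hx)
    have h2 : y * ⟨(y : G)⁻¹ * x * y, hCH hx⟩ * y⁻¹ ∈ ((y • T' : Sylow 2 H) : Subgroup H) := by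
      rw [Sylow.coe_subgroup_smul, Subgroup.mem_pointwise_smul_iff_inv_smul_mem]
      have h3 : ∀ z : H, (MulAut.conj y)⁻¹ • (y * z * y⁻¹) = z := fun z => by
        rw [MulAut.smul_def, MulAut.conj_inv_apply]
        group
      rw [h3]
      exact h1
    rw [hy] at h2
    refine ⟨_, h2, ?_⟩
    show (y : G) * ((y : G)⁻¹ * x * y) * (y : G)⁻¹ = x
    group

namespace Wc

variable {K : Type*} [Field K] {S : Sylow 2 G} {P V M F B : Subgroup G}
  {N : Crd K (S : Subgroup G) P (zl (S : Subgroup G) P)} (h : Wc S P V M F B N)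
include h

theorem QS : o2 P ≤ (S : Subgroup G) := h.par.isLoc.o2_le S

theorem BS : B ≤ (S : Subgroup G) := h.BQ.trans h.QS

theorem cjV {m : G} (hm : m ∈ M) : cj m V = V := cj_eq_of_mem_normalizer (h.MV hm)

theorem WR [Finite K] [CharP K 2] : WW V F ≤ centralizer (N.R : Set G) :=
  N.off_le_centR h.WS h.elemM h.offM.le

/-- `L ∩ F = R` -/
theorem inf_F [Finite K] [CharP K 2] : zl (S : Subgroup G) P ⊓ F = N.R := by
  apply le_antisymm
  · rintro v ⟨hv, hvF⟩
    obtain ⟨s, hs, hsL⟩ := SetLike.not_le_iff_exists.1 h.mov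
    refine N.fix (h.WS hs) (h.WR hs) hsL hv ?_
    exact (Hyp.F_comm hvF (Hyp.W_le_X hs)).symm
  · refine le_inf N.R_le ?_
    rw [← h.hyp.cent_VW]
    exact le_inf (N.R_le.trans h.LV) (le_centralizer_iff.1 h.WR)

theorem relF [Finite K] [CharP K 2] : F.relIndex (zl (S : Subgroup G) P) = Nat.card K := by
  rw [← inf_relIndex_right, inf_comm, h.inf_F]
  have h1 := card_mul_relIndex' N.R_le
  rw [N.card_R, N.card_V] at h1
  exact Nat.eq_of_mul_eq_mul_left Nat.card_pos h1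

/-- `W` induces the full root group. -/
theorem W_full [Finite K] [CharP K 2] (hFF : StmtM.{u}) (a : K) : ∃ s ∈ WW V F, N.Act s (RingEquiv.refl K) a := by
  have hD : WW V F ≤ N.B := le_inf h.WS h.WR
  have h1 := N.relIndex_eq hD
  rw [h.exact hFF, h.relIndex_F, h.relF] at h1
  have h2 : (N.rtHom hD).range = ⊤ := by
    apply Subgroup.eq_top_of_card_eq
    rw [← h1]
    rfl
  have h3 : Multiplicative.ofAdd a ∈ (N.rtHom hD).range := by rw [h2]; exact mem_top _
  obtain ⟨⟨s, hs⟩, hs'⟩ := h3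
  refine ⟨s, hs, ?_⟩
  have h4 : N.rt s = a := congrArg Multiplicative.toAdd hs'
  rw [← h4]
  exact N.act_rt (h.WS hs) (h.WR hs)

theorem I_eq : V ⊓ B = zl (S : Subgroup G) P ⊔ F :=
  le_antisymm h.IL (sup_le (le_inf h.LV h.LB) h.bh.F_le_I)

theorem idx [Finite K] [CharP K 2] : F.relIndex (V ⊓ B) = Nat.card K := by
  have hn : zl (S : Subgroup G) P ≤ normalizer (F : Set G) := ab_norm h.hyp.comm h.LV h.hyp.F_le_V
  have h1 := NOne.Flat.Off.card_sup_mul_inf hn
  rw [← h.I_eq, h.inf_F, N.card_R, N.card_V] at h1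
  have h2 := card_mul_relIndex' h.bh.F_le_I
  rw [← h2] at h1
  have p1 : 0 < Nat.card F := Nat.card_pos
  have p2 : 0 < Nat.card K := Nat.card_pos
  have h3 : (Nat.card F * Nat.card K) * F.relIndex (V ⊓ B) = (Nat.card F * Nat.card K) * Nat.card K := by
    calc _ = Nat.card F * F.relIndex (V ⊓ B) * Nat.card K := by ring
      _ = _ := by rw [h1]; ring
  exact Nat.eq_of_mul_eq_mul_left (Nat.mul_pos p1 p2) h3

theorem R_le_F [Finite K] [CharP K 2] : N.R ≤ F := by
  rw [← h.inf_F]; exact inf_le_right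

theorem exists_b [Finite K] [CharP K 2] : ∃ b ∈ B, b ∉ NN V F := by
  refine h.bh.exists_not_mem_NN fun h1 => ?_
  have h2 := h.idx
  rw [relIndex_eq_one.2 h1] at h2
  have := h.four
  omega

/-- `[E, B] ≤ R` -/
theorem rho [Finite K] [CharP K 2] : ∀ e ∈ EE V F, ∀ b ∈ B, c e b ∈ N.R := by
  intro e he b hb
  by_cases hbN : b ∈ NN V F
  · have h1 : c e b = 1 := by
      rw [NOne.Flat.Off.c_eq_one]
      exact mem_centralizer_iff.1 hbN.2 e he
    rw [h1]
    exact one_mem _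
  · obtain ⟨r, hr, hrR⟩ := N.exists_ne_R
    have hrF : r ∉ F := fun h1 => hrR (by rw [← h.inf_F]; exact ⟨hr, h1⟩)
    obtain ⟨s, hs, hsc⟩ := (h.bh.root h.idxV ⟨h.LV hr, h.LB hr⟩ hrF hb hbN (c e b)).2 ⟨e, he, rfl⟩
    rw [← hsc]
    have h1 := inv_mem (N.comm_R (h.WS hs) (h.WR hs) hr)
    have e1 : (s * r * s⁻¹ * r⁻¹)⁻¹ = c r s := by rw [c]; group
    rwa [e1] at h1

theorem cjI {m : G} (hm : m ∈ M) : V ⊓ cj m B = cj m (V ⊓ B) := by
  rw [cj_inf, h.cjV hm]

/-- **The block analysis** at the chamber `S^m`. -/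
theorem rt [Finite K] [CharP K 2] {m : G} (hm : m ∈ M) (hmS : cj m B ≤ (S : Subgroup G))
    (hE : ¬ zl (S : Subgroup G) P ≤ cj m (EE V F)) : Rt N V (cj m F) (cj m B) (cj m N.R) := by
  have hmV := h.MV hm
  have hEE : EE V (cj m F) = cj m (EE V F) := EE_cj hmV
  refine rt_of N (BH_cj h.bh hmV) (fun b hb => ?_) hmS h.LV h.four ?_ (by rw [hEE]; exact hE) ?_
  · rw [mem_cj] at hb
    have h1 := h.sq _ hb
    rw [pow_two] at h1 ⊢
    have e : b * b = m * (m⁻¹ * b * m * (m⁻¹ * b * m)) * m⁻¹ := by group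
    rw [e, h1]; group
  · rw [h.cjI hm, ← h.idx]
    exact relIndex_cj m F (V ⊓ B)
  · intro e he b hb
    rw [hEE, mem_cj] at he
    rw [mem_cj] at hb ⊢
    have h1 := h.rho _ he _ hb
    have h2 := cj_c m⁻¹ e b
    rw [inv_inv] at h2
    rw [h2]
    exact h1

/-- The computation `[w, q, b] = [[w, b], x]`, `q = α⁻¹ x`. -/
theorem key [Finite K] [CharP K 2] {g α x w b : G} (hg : g ∈ M) (hQg : o2 P ≤ cj g (S : Subgroup G))
    (rt1 : Rt N V (cj g⁻¹ F) (cj g⁻¹ B) (cj g⁻¹ N.R)) (hB1 : cj g⁻¹ B ≤ (S : Subgroup G))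
    (hw : w ∈ cj g (zl (S : Subgroup G) P)) (hwE : w ∉ EE V F) (hb : b ∈ B)
    (hbN : b ∉ NN V F) (hx : x ∈ WW V F) (hxL : x ∉ centralizer (zl (S : Subgroup G) P : Set G))
    (hα : α⁻¹ * x ∈ o2 P) (hαM : α ∈ M) (hcom : ∀ v ∈ V, α⁻¹ * v * α * v⁻¹ * b = b * (α⁻¹ * v * α * v⁻¹)) : False := by
  have hbW := h.bh.le_W hb
  have hwV : w ∈ V := by
    have h1 := cj_mono g h.LV hw
    rwa [h.cjV hg] at h1
  have hxM : x ∈ normalizer (V : Set G) := h.hyp.W_norm_V hx
  -- `D = [q, w] ∈ L^g`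
  set q := α⁻¹ * x with hq
  have hD : q * w * q⁻¹ * w⁻¹ ∈ cj g (zl (S : Subgroup G) P) := by
    rw [mem_cj]
    have h1 := hQg hα
    rw [mem_cj] at h1 hw
    have h2 := h.PL (h.SP h1)
    have h3 := mul_mem ((mem_normalizer_iff.1 h2 _).1 hw) (inv_mem hw)
    have e : g⁻¹ * q * g * (g⁻¹ * w * g) * (g⁻¹ * q * g)⁻¹ * (g⁻¹ * w * g)⁻¹ = g⁻¹ * (q * w * q⁻¹ * w⁻¹) * g := by
      group
    rwa [e] at h3
  set D := q * w * q⁻¹ * w⁻¹ with hDd
  have hk : b * D * b⁻¹ * D⁻¹ ∈ cj g N.R := by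
    rw [mem_cj]
    have hb1 : g⁻¹ * b * g ∈ cj g⁻¹ B := by
      have := mem_cj' (g := g⁻¹) hb
      rwa [inv_inv] at this
    rw [mem_cj] at hD
    have h1 := N.comm_R (hB1 hb1) (rt1.cen hb1) hD
    have e : g⁻¹ * b * g * (g⁻¹ * D * g) * (g⁻¹ * b * g)⁻¹ * (g⁻¹ * D * g)⁻¹ = g⁻¹ * (b * D * b⁻¹ * D⁻¹) * g := by
      group
    rwa [e] at h1
  -- `D = u y`
  have hv : x * w * x⁻¹ ∈ V := (mem_normalizer_iff.1 hxM _).1 hwV
  set v := x * w * x⁻¹ with hvd
  set u := α⁻¹ * v * α * v⁻¹ with hu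
  have hαV : α⁻¹ * v * α ∈ V := by
    have h1 := (mem_normalizer_iff.1 (inv_mem (h.MV hαM)) v).1 hv
    rwa [inv_inv] at h1
  have huV : u ∈ V := mul_mem hαV (inv_mem hv)
  set y := v * w⁻¹ with hy
  have hyV : y ∈ V := mul_mem hv (inv_mem hwV)
  have hDuy : D = u * y := by
    rw [hDd, hu, hy, hvd, hq]; group
  have hyc : y = c w x := by
    have e : y = (c w x)⁻¹ := by rw [hy, hvd, c]; group
    rw [e]
    exact h.hyp.inv (h.hyp.c_memV hwV hx)
  have hub : u * b = b * u := hcom v hv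
  have hbV : b ∈ normalizer (V : Set G) := h.hyp.W_norm_V hbW
  have hbyV : b * y * b⁻¹ ∈ V := (mem_normalizer_iff.1 hbV _).1 hyV
  have h1 : b * D * b⁻¹ * D⁻¹ = b * y * b⁻¹ * y⁻¹ := by
    have e1 : b * D * b⁻¹ * D⁻¹ = (b * u) * y * b⁻¹ * y⁻¹ * u⁻¹ := by rw [hDuy]; group
    rw [e1, ← hub]
    have e2 : u * b * y * b⁻¹ * y⁻¹ * u⁻¹ = u * (b * y * b⁻¹ * y⁻¹) * u⁻¹ := by group
    rw [e2, h.hyp.V_comm huV (mul_mem hbyV (inv_mem hyV)), mul_inv_cancel_right]
  have h2 : b * y * b⁻¹ * y⁻¹ = (c (c w b) x)⁻¹ := by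
    have e : b * y * b⁻¹ * y⁻¹ = (c y b)⁻¹ := by rw [c]; group
    rw [e, hyc, h.hyp.beta_comm hwV hx hbW]
  rw [h1, h2] at hk
  have hrE : c w b ∈ EE V F := h.hyp.c_memE hwV hbW
  have h3 : c (c w b) x ∈ F := h.hyp.comm_EW hrE hx
  have h4 : c (c w b) x = 1 := by
    have h5 : g⁻¹ * (c (c w b) x) * g ∈ N.R ⊓ cj g⁻¹ F := by
      refine mem_inf.2 ⟨?_, ?_⟩
      · have h6 := inv_mem (mem_cj.1 hk)
        have e : (g⁻¹ * (c (c w b) x)⁻¹ * g)⁻¹ = g⁻¹ * (c (c w b) x) * g := by group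
        rwa [e] at h6
      · rw [mem_cj, inv_inv]
        have e : g * (g⁻¹ * (c (c w b) x) * g) * g⁻¹ = c (c w b) x := by group
        rwa [e]
    rw [rt1.RF, mem_bot] at h5
    have e : c (c w b) x = g * (g⁻¹ * (c (c w b) x) * g) * g⁻¹ := by group
    rw [e, h5]; group
  -- `[w, b] ∈ I - F`
  have hrF : c w b ∉ F := fun h5 => hbN (h.bh.mem_NN_of_c hwV hwE hb h5)
  apply hrF
  have hrI := h.IL (h.bh.c_memI hwV hb)
  obtain ⟨l, hl, f, hf, hlf⟩ := sup_split (ab_norm h.hyp.comm h.LV h.hyp.F_le_V) hrI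
  rw [hlf, h.hyp.c_mul_left (h.LV hl) (h.hyp.F_le_V hf) hx, NOne.Flat.Hyp.c_F hf hx, mul_one, NOne.Flat.Off.c_eq_one] at h4
  have h5 := N.fix (h.WS hx) (h.WR hx) hxL hl h4.symm
  rw [hlf]
  exact mul_mem (h.R_le_F h5) hf

end Wc

/-! ### The matrices -/

section sl

variable {K : Type*} [Field K] {S P L : Subgroup G} (N : Crd K S P L)

/-- the elements which act on `L` by a matrix of `SL₂(K)` -/
def sl : Subgroup G where
  carrier := {g | ∃ A : Matrix.SpecialLinearGroup (Fin 2) K, ∀ x, g * N.e x * g⁻¹ = N.e (ap A x)}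
  mul_mem' := by
    rintro g g' ⟨A, hA⟩ ⟨A', hA'⟩
    refine ⟨A * A', fun x => ?_⟩
    have e : g * g' * N.e x * (g * g')⁻¹ = g * (g' * N.e x * g'⁻¹) * g⁻¹ := by group
    rw [e, hA', hA, ap_mul]
  one_mem' := ⟨1, fun x => by rw [ap_one]; group⟩
  inv_mem' := by
    rintro g ⟨A, hA⟩
    refine ⟨A⁻¹, fun x => ?_⟩
    have h1 := hA (ap A⁻¹ x)
    rw [ap_ap_inv] at h1
    rw [← h1]
    group

theorem mem_sl_of_act {b : G} {a : K} (h : N.Act b (RingEquiv.refl K) a) : b ∈ sl N := by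
  refine ⟨up a, fun x => ?_⟩
  rw [h x]
  congr 1
  apply ext2
  · rw [ap_zero']; simp
  · rw [ap_one']; simp

/-- an element of `SL₂` fixing a vector of the root line is a root element -/
theorem act_of_fix {t : G} (ht : t ∈ sl N) {v : G} (hv : v ∈ N.R) (hv1 : v ≠ 1) (hc : t * v = v * t) :
    ∃ a, N.Act t (RingEquiv.refl K) a := by
  obtain ⟨A, hA⟩ := ht
  obtain ⟨r, rfl⟩ := hv
  have hr : r ≠ 0 := by
    rintro rfl
    apply hv1
    rw [← N.e_zero]
    congr 1
    apply ext2 <;> simp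
  have h1 := hA ![r, 0]
  rw [hc, mul_inv_cancel_right] at h1
  have h2 := N.e_inj h1
  have h3 := congrFun h2 0
  have h4 := congrFun h2 1
  rw [ap_zero'] at h3
  rw [ap_one'] at h4
  have h5 : ent A 0 0 = 1 := by
    have h6 : r = ent A 0 0 * r := by simpa only [_root_.Fin.isValue, _root_.Matrix.cons_val_zero, _root_.Matrix.cons_val_one, _root_.Matrix.cons_val_fin_one, _root_.MulZeroClass.mul_zero, _root_.add_zero] using h3
    have h7 : (ent A 0 0 - 1) * r = 0 := by linear_combination -h6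
    exact sub_eq_zero.1 ((mul_eq_zero.1 h7).resolve_right hr)
  have h6 : ent A 1 0 = 0 := by
    have h7 : ent A 1 0 * r = 0 := by simpa using h4.symm
    exact (mul_eq_zero.1 h7).resolve_right hr
  have h7 : ent A 1 1 = 1 := by
    have := det_eq A
    rw [h5, h6] at this
    linear_combination this
  refine ⟨ent A 0 1, fun x => ?_⟩
  rw [hA x]
  congr 1
  apply ext2
  · rw [ap_zero', h5]; simp
  · rw [ap_one', h6, h7]; simp

end sl

namespace Wc

variable {K : Type*} [Field K] {S : Sylow 2 G} {P V M F B : Subgroup G}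
  {N : Crd K (S : Subgroup G) P (zl (S : Subgroup G) P)} (h : Wc S P V M F B N)
include h

/-- 2-subgroups of `C_P(L)` are in `Q`. -/
theorem le_Q {T : Subgroup G} (hT : IsPGroup 2 T) (hTP : T ≤ P)
    (hTL : T ≤ centralizer (zl (S : Subgroup G) P : Set G)) : T ≤ o2 P := by
  obtain ⟨g, hg, h1⟩ := NOThreeL.VF.exists_conj_le S h.SP hT hTP
  intro t ht
  have h3 : g * t * g⁻¹ ∈ o2 P := by
    rw [← h.o2_eq]
    refine ⟨h1 t ht, ?_⟩
    have h4 : g ∈ normalizer (centralizer (zl (S : Subgroup G) P : Set G) : Set G) :=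
      NOne.Flat.normalizer_le_normalizer_centralizer _ (h.PL hg)
    exact (mem_normalizer_iff.1 h4 _).1 (hTL ht)
  exact (mem_normalizer_iff.1 (MinSimple.VModule.le_normalizer_o2 P hg) _).2 h3

/-- **THEOREM WC1 (3), the end.** -/
theorem false [Finite K] [CharP K 2] (hFF : StmtM.{u}) {g a : G} (hg : g ∈ M) (ha : a ∈ P)
    (hQg : o2 P ≤ cj g (S : Subgroup G)) (hQa : cj g (o2 P) ≤ cj a (S : Subgroup G))
    (hbad : ¬ cj g (zl (S : Subgroup G) P) ≤ EE V F) : False := by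
  have hg' : g⁻¹ ∈ M := inv_mem hg
  have hB1 : cj g⁻¹ B ≤ (S : Subgroup G) := by
    have h1 := cj_mono g⁻¹ (h.BQ.trans hQg)
    rwa [cj_inv_cj] at h1
  have hE1 : ¬ zl (S : Subgroup G) P ≤ cj g⁻¹ (EE V F) := fun h1 => hbad (by
    have h2 := cj_mono g h1
    rwa [cj_cj_inv] at h2)
  have rt1 := h.rt hg' hB1 hE1
  obtain ⟨w, hw, hwE⟩ := SetLike.not_le_iff_exists.1 hbad
  obtain ⟨b, hb, hbN⟩ := h.exists_b
  have hbW := h.bh.le_W hb
  have hLP := h.PL
  have hgR : cj g N.R ≤ B := by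
    have h1 := cj_mono g rt1.RB
    rwa [cj_cj_inv] at h1
  have hRb : ∀ z ∈ N.R, z * b = b * z := fun z hz => Hyp.F_comm (h.R_le_F hz) (Hyp.W_le_X hbW)
  by_cases hcase : cj g B ≤ centralizer (N.R : Set G)
  · -- Case 1
    obtain ⟨x, hx, hxL⟩ := SetLike.not_le_iff_exists.1 h.mov
    have hact := N.act_rt (h.WS hx) (h.WR hx)
    obtain ⟨α, hα, hαact⟩ := rt1.full (N.rt x)
    have hαS : α ∈ (S : Subgroup G) := hB1 hα
    have hαM : α ∈ M := h.PM (h.SP hαS)
    refine h.key hg hQg rt1 hB1 hw hwE hb hbN hx hxL (α := α) ?_ hαM ?_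
    · rw [← h.o2_eq]
      refine mem_inf.2 ⟨mul_mem (inv_mem hαS) (h.WS hx), ?_⟩
      rw [(hαact.inv.mul hact).mem_centV]
      refine ⟨by ext y; simp, ?_⟩
      simp
    · intro v hv
      have h1 := rt1.comm v hv α⁻¹ (inv_mem hα)
      have e : α⁻¹ * v * α * v⁻¹ = (c v α⁻¹)⁻¹ := by rw [c]; group
      rw [e]
      have h2 : N.R ⊔ cj g⁻¹ N.R ≤ centralizer ({b} : Set G) := by
        refine sup_le (fun z hz => ?_) (fun z hz => ?_)
        · rw [mem_centralizer_singleton_iff]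
          exact hRb z hz
        · rw [mem_centralizer_singleton_iff]
          rw [mem_cj, inv_inv] at hz
          have h3 := mem_centralizer_iff.1 (hcase (mem_cj' (g := g) hb)) _ hz
          have h4 : g * (z * b) * g⁻¹ = g * (b * z) * g⁻¹ := by
            calc g * (z * b) * g⁻¹ = g * z * g⁻¹ * (g * b * g⁻¹) := by group
              _ = g * b * g⁻¹ * (g * z * g⁻¹) := h3
              _ = g * (b * z) * g⁻¹ := by group
          exact mul_left_cancel (mul_right_cancel h4)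
      exact mem_centralizer_singleton_iff.1 (h2 (inv_mem h1))
  · -- Case 2
    have haM : a ∈ M := h.PM ha
    have hm : a⁻¹ * g ∈ M := mul_mem (inv_mem haM) hg
    have hB3a : cj g B ≤ cj a (S : Subgroup G) := (cj_mono g h.BQ).trans hQa
    have hB4 : cj (a⁻¹ * g) B ≤ (S : Subgroup G) := by
      have h1 := cj_mono a⁻¹ hB3a
      rwa [cj_inv_cj, cj_cj] at h1
    have hB34 : cj g B = cj a (cj (a⁻¹ * g) B) := by rw [cj_cj, mul_inv_cancel_left]
    have haL : cj a (zl (S : Subgroup G) P) = zl (S : Subgroup G) P := cj_eq_of_mem_normalizer (hLP ha)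
    have hne3 : ¬ cj g B ≤ centralizer (zl (S : Subgroup G) P : Set G) := fun h1 =>
      hcase (h1.trans (centralizer_le N.R_le))
    have hne4 : ¬ cj (a⁻¹ * g) B ≤ centralizer (zl (S : Subgroup G) P : Set G) := fun h1 => hne3 (by
      have h2 := cj_mono a h1
      rwa [← hB34, cj_centralizer, haL] at h2)
    have hE4 : ¬ zl (S : Subgroup G) P ≤ cj (a⁻¹ * g) (EE V F) := fun h1 => hne4 (h.good _ hm hB4 h1)
    have rt2 := h.rt hm hB4 hE4
    have hB3P : cj g B ≤ P := by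
      rw [hB34]
      have h1 := cj_mono a (hB4.trans h.SP)
      rwa [cj_eq_of_mem_normalizer (le_normalizer ha)] at h1
    set MK : Subgroup G := zl (S : Subgroup G) P ⊔ cj g N.R with hMK
    have hgRV : cj g N.R ≤ V := by
      have h1 := cj_mono g (N.R_le.trans h.LV)
      rwa [h.cjV hg] at h1
    have hMKI : MK ≤ V ⊓ B := sup_le (le_inf h.LV h.LB) (le_inf hgRV hgR)
    have hMKb : ∀ z ∈ MK, z * b = b * z := fun z hz => h.bh.B_comm (hMKI hz).2 hb
    -- `[V, B₃] ≤ MK`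
    have hcomm : ∀ v ∈ V, ∀ β ∈ cj g B, c v β ∈ MK := by
      intro v hv β hβ
      have h1 : a⁻¹ * v * a ∈ V := by
        have h2 := (mem_normalizer_iff.1 (inv_mem (h.MV haM)) v).1 hv
        rwa [inv_inv] at h2
      have h2 : a⁻¹ * β * a ∈ cj (a⁻¹ * g) B := by
        rw [hB34, mem_cj] at hβ
        exact hβ
      have h3 := rt2.comm _ h1 _ h2
      have h4 : N.R ⊔ cj (a⁻¹ * g) N.R ≤ cj a⁻¹ MK := by
        refine sup_le ?_ ?_
        · have h5 := cj_mono a⁻¹ (le_sup_left : zl (S : Subgroup G) P ≤ MK)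
          rw [cj_eq_of_mem_normalizer (inv_mem (hLP ha))] at h5
          exact N.R_le.trans h5
        · have h5 := cj_mono a⁻¹ (le_sup_right : cj g N.R ≤ MK)
          rwa [cj_cj] at h5
      have h5 := h4 h3
      rw [mem_cj, inv_inv] at h5
      have e : a * c (a⁻¹ * v * a) (a⁻¹ * β * a) * a⁻¹ = c v β := by
        simp only [c]; group
      rwa [e] at h5
    -- the group `Kh`
    set Kh : Subgroup G := (WW V F ⊔ o2 P) ⊔ cj g B with hKh
    have hWQ : WW V F ⊔ o2 P ≤ (S : Subgroup G) := sup_le h.WS h.QS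
    have hKP : Kh ≤ P := sup_le (hWQ.trans h.SP) hB3P
    have hKN : Kh ≤ normalizer (MK : Set G) := by
      refine sup_le (sup_le (fun s hs => ?_) (fun s hs => ?_)) (fun s hs => ?_)
      · refine mem_normalizer_of_cj_le fun z hz => ?_
        rw [mem_cj] at hz
        obtain ⟨l, hl, f, hf, hlf⟩ := sup_split (ab_norm h.hyp.comm h.LV h.hyp.F_le_V) (h.IL (hMKI hz))
        have h1 : z = (s⁻¹ * z * s) * ((s⁻¹ * z * s)⁻¹ * z) := by group
        have h2 : (s⁻¹ * z * s)⁻¹ * z = l⁻¹ * (s * l * s⁻¹) := by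
          have h3 : f * s = s * f := Hyp.F_comm hf (Hyp.W_le_X hs)
          have h4 : z = s * (l * f) * s⁻¹ := by rw [← hlf]; group
          have h5 : f⁻¹ * (l⁻¹ * (s * l * s⁻¹)) = l⁻¹ * (s * l * s⁻¹) * f⁻¹ := by
            have h6 : s * l * s⁻¹ ∈ V := (mem_normalizer_iff.1 (h.hyp.W_norm_V hs) _).1 (h.LV hl)
            exact h.hyp.V_comm (inv_mem (h.hyp.F_le_V hf)) (mul_mem (inv_mem (h.LV hl)) h6)
          calc (s⁻¹ * z * s)⁻¹ * z = (l * f)⁻¹ * (s * (l * f) * s⁻¹) := by rw [hlf, ← h4]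
            _ = f⁻¹ * l⁻¹ * (s * l) * (f * s⁻¹) := by group
            _ = f⁻¹ * l⁻¹ * (s * l) * (s⁻¹ * f) := by
              congr 1
              calc f * s⁻¹ = s⁻¹ * (s * f) * s⁻¹ := by group
                _ = s⁻¹ * (f * s) * s⁻¹ := by rw [h3]
                _ = s⁻¹ * f := by group
            _ = f⁻¹ * (l⁻¹ * (s * l * s⁻¹)) * f := by group
            _ = l⁻¹ * (s * l * s⁻¹) := by rw [h5]; group
        rw [h1, h2]
        exact mul_mem hz (mem_sup_left (mul_mem (inv_mem hl)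
          ((mem_normalizer_iff.1 (hLP (h.SP (h.WS hs))) _).1 hl)))
      · refine mem_normalizer_of_cj_le ?_
        change Subgroup.map _ _ ≤ _
        rw [hMK, Subgroup.map_sup]
        refine sup_le_sup (cj_eq_of_mem_normalizer (hLP (o2_le P hs))).le ?_
        have h1 : s ∈ cj g (normalizer (N.R : Set G)) := cj_mono g N.S_R (hQg hs)
        rw [cj_normalizer] at h1
        exact (cj_eq_of_mem_normalizer h1).le
      · refine mem_normalizer_of_cj_le fun z hz => ?_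
        rw [mem_cj] at hz
        have h1 := hcomm _ (hMKI (inv_mem hz)).1 s hs
        have e : z = s⁻¹ * z * s * c ((s⁻¹ * z * s)⁻¹) s := by rw [c]; group
        rw [e]
        exact mul_mem hz h1
    have hKsl : Kh ≤ sl N := by
      refine sup_le (sup_le (fun s hs => mem_sl_of_act N (N.act_rt (h.WS hs) (h.WR hs))) (fun s hs => ?_))
        (fun s hs => ?_)
      · have h1 : s ∈ centralizer (zl (S : Subgroup G) P : Set G) := by
          rw [← h.o2_eq] at hs
          exact hs.2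
        obtain ⟨σ, c', hc'⟩ := N.exists_act (h.QS hs)
        obtain ⟨rfl, rfl⟩ := hc'.mem_centV.1 h1
        exact mem_sl_of_act N hc'
      · rw [hB34, mem_cj] at hs
        obtain ⟨A, hA⟩ := mem_sl_of_act N (N.act_rt (hB4 hs) (rt2.cen hs))
        obtain ⟨A', hA'⟩ := N.norm a ha _ A hA
        refine ⟨A', fun x => ?_⟩
        have h1 := hA' x
        have e : a * (a⁻¹ * s * a) * a⁻¹ = s := by group
        rwa [e] at h1
    -- a Sylow group of `Kh`
    obtain ⟨T, hTK, hT2, hWT, y, hy, hyT⟩ := exists_syl_conj (S.isPGroup'.to_le hWQ) (le_sup_left : _ ≤ Kh)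
      (isPGroup_cj g (S.isPGroup'.to_le h.BS)) (le_sup_right : _ ≤ Kh)
    have hTP : T ≤ P := hTK.trans hKP
    have hLT : zl (S : Subgroup G) P ≤ T := (h.LB.trans h.BQ).trans (le_sup_right.trans hWT)
    have hLne : ¬ zl (S : Subgroup G) P ≤ ⊥ := fun h1 => by
      obtain ⟨r, hr, hrR⟩ := N.exists_ne_R
      have h2 := mem_bot.1 (h1 hr)
      rw [h2] at hrR
      exact hrR (one_mem _)
    obtain ⟨v₀, hv₀, hv₀1, hfix⟩ := OneLine.exists_fixed hT2 hLT (hTP.trans hLP) hLne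
    have hfix' : ∀ t ∈ T, t * v₀ = v₀ * t := fun t ht => by
      have h1 := mem_bot.1 (hfix t ht)
      rwa [mul_inv_eq_one, mul_inv_eq_iff_eq_mul] at h1
    have hv₀R : v₀ ∈ N.R := by
      obtain ⟨s, hs, hsL⟩ := SetLike.not_le_iff_exists.1 h.mov
      exact N.fix (h.WS hs) (h.WR hs) hsL hv₀ (hfix' s (hWT (mem_sup_left hs)))
    have hTact : ∀ t ∈ T, ∃ a', N.Act t (RingEquiv.refl K) a' := fun t ht =>
      act_of_fix N (hKsl (hTK ht)) hv₀R (fun h1 => hv₀1 (mem_bot.2 h1)) (hfix' t ht)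
    -- `α = y β y⁻¹`
    obtain ⟨β, hβ, hβL⟩ := SetLike.not_le_iff_exists.1 hne3
    have hyP : y ∈ P := hKP hy
    have hαT : y * β * y⁻¹ ∈ T := hyT (mem_cj' hβ)
    obtain ⟨a₀, ha₀⟩ := hTact _ hαT
    obtain ⟨x, hx, hxact⟩ := h.W_full hFF a₀
    have hαL : y * β * y⁻¹ ∉ centralizer (zl (S : Subgroup G) P : Set G) := by
      intro h1
      apply hβL
      have h4 : y ∈ normalizer (centralizer (zl (S : Subgroup G) P : Set G) : Set G) :=
        NOne.Flat.normalizer_le_normalizer_centralizer _ (hLP hyP)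
      exact (mem_normalizer_iff.1 h4 _).2 h1
    have hxL : x ∉ centralizer (zl (S : Subgroup G) P : Set G) := by
      intro h1
      apply hαL
      rw [ha₀.mem_centV]
      exact ⟨rfl, (hxact.mem_centV.1 h1).2⟩
    refine h.key hg hQg rt1 hB1 hw hwE hb hbN hx hxL (α := y * β * y⁻¹) ?_ (h.PM (hTP hαT)) ?_
    · have h1 : (y * β * y⁻¹)⁻¹ * x ∈ T ⊓ centralizer (zl (S : Subgroup G) P : Set G) := by
        refine mem_inf.2 ⟨mul_mem (inv_mem hαT) (hWT (mem_sup_left hx)), ?_⟩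
        rw [(ha₀.inv.mul hxact).mem_centV]
        refine ⟨by ext z; simp, ?_⟩
        simp
      exact h.le_Q (hT2.to_le inf_le_left) (inf_le_left.trans hTP) inf_le_right h1
    · intro v hv
      have hyV := h.MV (h.PM hyP)
      have h1 : y⁻¹ * v * y ∈ V := by
        have h2 := (mem_normalizer_iff.1 (inv_mem hyV) v).1 hv
        rwa [inv_inv] at h2
      have h2 := inv_mem (hcomm _ h1 β⁻¹ (inv_mem hβ))
      have h3 : y * (c (y⁻¹ * v * y) β⁻¹)⁻¹ * y⁻¹ ∈ MK := (mem_normalizer_iff.1 (hKN hy) _).1 h2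
      have e : y * (c (y⁻¹ * v * y) β⁻¹)⁻¹ * y⁻¹ = (y * β * y⁻¹)⁻¹ * v * (y * β * y⁻¹) * v⁻¹ := by
        rw [c]; group
      rw [e] at h3
      exact hMKb _ h3

end Wc

end Cfsg.Agent.Omega.NO3S.SFive.One

end

section


/-!
# GammaFF (S5), `k = 1` natural: THEOREM WC1, the families of lines (helper75 #22081 (1), (2), helper876 #19093)

* `bl L F Δ = ⟨F, L^{xm} : m ∈ Δ, x ∈ C_G(F)⟩`; `bh_of` : `BH V F (bl L F Δ)` if the lines `L^m`, `m ∈ Δ`, lie in `E` and all
  `L^m`, `L^{xm'}` commute;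
* `Wv S P V M F N` : the W-stage at one active `F`: (NOFF) for lines, the PRINCIPLE for `M`, `L^m ≤ E` if `W ≤ S^m`;
* `Wv.index` : `B = bl L F Δ` (`L ≤ B`) which centralises every line `L^g ≤ E` with `B ≤ S^g`: `V ∩ B = L F`,
  `|V ∩ B : F| = |K| ≤ |V : E|`;
* `Wv.toWc` : `Wc` for `B_F = bl L F {m : W ≤ S^m}`.
-/

set_option autoImplicit false
set_option linter.unusedSectionVars false
set_option linter.unusedVariables false

namespace Cfsg.Agent.Omega.NO3S.SFive.One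

open Subgroup Cfsg Cfsg.Agent.ZN Cfsg.Agent.ZN.ChoiceBase Cfsg.Agent.Omega.MinPar
open Cfsg.Agent.Omega.NOne.Flat (Hyp EE WW NN Cos card_mul_relIndex')
open Cfsg.Agent.Omega.NOne.NearFF (c c_def)
open Cfsg.Agent.Omega.NOThreeL.Low.Key (BH)
open Cfsg.Agent.Omega.NO3S.Fld (Crd)
open Cfsg.Agent.Omega.NO3S.BetaFF (Act)
open Cfsg.Agent.Omega.FFThm (StmtM)
open scoped Pointwise

universe u

variable {G : Type u} [Group G] [Finite G]

/-- The generators. -/
def gens (L F : Subgroup G) (Δ : Set G) : Set (Subgroup G) :=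
  {l | l = F ∨ ∃ m ∈ Δ, ∃ x ∈ centralizer (F : Set G), l = cj (x * m) L}

/-- `⟨F, L^{xm} : m ∈ Δ, x ∈ C_G(F)⟩` -/
def bl (L F : Subgroup G) (Δ : Set G) : Subgroup G := sSup (gens L F Δ)

section

variable {V L F : Subgroup G} {Δ : Set G}

theorem F_le_bl : F ≤ bl L F Δ := le_sSup (Or.inl rfl)

theorem le_bl {m x : G} (hm : m ∈ Δ) (hx : x ∈ centralizer (F : Set G)) : cj (x * m) L ≤ bl L F Δ :=
  le_sSup (Or.inr ⟨m, hm, x, hx, rfl⟩)

theorem le_bl' {m : G} (hm : m ∈ Δ) : cj m L ≤ bl L F Δ := by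
  have h1 := le_bl (L := L) (F := F) hm (one_mem (centralizer (F : Set G)))
  rwa [one_mul] at h1

theorem cj_le_X {x : G} (hx : x ∈ centralizer (F : Set G)) {A : Subgroup G} (hA : A ≤ centralizer (F : Set G)) :
    cj x A ≤ centralizer (F : Set G) := by
  have h1 := cj_mono x hA
  rwa [cj_eq_of_mem_normalizer (le_normalizer hx)] at h1

theorem bh_of (h : Hyp V F) (hLV : ∀ v ∈ L, v ^ 2 = 1) (hE : ∀ m ∈ Δ, cj m L ≤ EE V F)
    (hc : ∀ m ∈ Δ, ∀ m' ∈ Δ, ∀ x ∈ centralizer (F : Set G), cj (x * m') L ≤ centralizer ((cj m L : Subgroup G) : Set G)) :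
    BH V F (bl L F Δ) ∧ ∀ b ∈ bl L F Δ, b ^ 2 = 1 := by
  have hX : ∀ m ∈ Δ, ∀ x ∈ centralizer (F : Set G), cj (x * m) L ≤ centralizer (F : Set G) := by
    intro m hm x hx
    rw [← cj_cj]
    exact cj_le_X hx ((hE m hm).trans Hyp.E_le_X)
  have hFF : F ≤ centralizer (F : Set G) := h.F_le_V.trans h.V_le_X
  have habel : bl L F Δ ≤ centralizer (bl L F Δ : Set G) := by
    refine sSup_le ?_
    rintro _ (rfl | ⟨m, hm, x, hx, rfl⟩)
    · rw [le_centralizer_iff]
      refine sSup_le ?_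
      rintro _ (rfl | ⟨m, hm, x, hx, rfl⟩)
      · exact hFF
      · exact hX m hm x hx
    · rw [le_centralizer_iff]
      refine sSup_le ?_
      rintro _ (rfl | ⟨m', hm', x', hx', rfl⟩)
      · rw [le_centralizer_iff]
        exact hX m hm x hx
      · have h1 := hc m hm m' hm' (x⁻¹ * x') (mul_mem (inv_mem hx) hx')
        have h2 := cj_mono x h1
        rw [cj_centralizer, cj_cj, cj_cj] at h2
        have e : x * (x⁻¹ * x' * m') = x' * m' := by group
        rwa [e] at h2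
  refine ⟨{ toHyp := h, le_W := ?_, F_le := F_le_bl, abel := habel, norm := ?_ }, ?_⟩
  · refine sSup_le ?_
    rintro _ (rfl | ⟨m, hm, x, hx, rfl⟩)
    · exact h.F_le_E.trans Hyp.E_le_W
    · rw [← cj_cj]
      exact (cj_mono x (hE m hm)).trans (Hyp.conjE_le_W hx)
  · intro y hy
    refine mem_normalizer_of_cj_le ?_
    rw [cj_le_iff]
    refine sSup_le ?_
    rintro _ (rfl | ⟨m, hm, x, hx, rfl⟩)
    · rw [← cj_le_iff, cj_eq_of_mem_normalizer (centralizer_le_normalizer _ hy)]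
      exact F_le_bl
    · rw [← cj_le_iff, cj_cj, ← mul_assoc]
      exact le_bl hm (mul_mem hy hx)
  · let T : Subgroup G :=
      { carrier := {b | b ∈ bl L F Δ ∧ b ^ 2 = 1}
        mul_mem' := by
          rintro a b ⟨ha, ha2⟩ ⟨hb, hb2⟩
          refine ⟨mul_mem ha hb, ?_⟩
          have h1 : b * a = a * b := (mem_centralizer_iff.1 (habel ha) b hb)
          rw [pow_two] at ha2 hb2 ⊢
          calc a * b * (a * b) = a * (b * a) * b := by group
            _ = a * a * (b * b) := by rw [h1]; group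
            _ = 1 := by rw [ha2, hb2, one_mul]
        one_mem' := ⟨one_mem _, one_pow 2⟩
        inv_mem' := by
          rintro a ⟨ha, ha2⟩
          exact ⟨inv_mem ha, by rw [inv_pow, ha2, inv_one]⟩ }
    have h1 : bl L F Δ ≤ T := by
      refine sSup_le fun l hl => ?_
      have hl' : l ≤ bl L F Δ := le_sSup hl
      rcases hl with rfl | ⟨m, hm, x, hx, rfl⟩
      · exact fun f hf => ⟨hl' hf, h.sq f (h.F_le_V hf)⟩
      · intro b hb
        refine ⟨hl' hb, ?_⟩
        rw [mem_cj] at hb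
        have h2 := hLV _ hb
        rw [pow_two] at h2 ⊢
        have e : b * b = x * m * ((x * m)⁻¹ * b * (x * m) * ((x * m)⁻¹ * b * (x * m))) * (x * m)⁻¹ := by group
        rw [e, h2]; group
    exact fun b hb => (h1 hb).2

end

/-- The chambers which contain `W_F`. -/
def DW (S : Sylow 2 G) (V M F : Subgroup G) : Set G := {m | m ∈ M ∧ WW V F ≤ cj m (S : Subgroup G)}

/-- **The W-stage** at one active `F`, `V_P` natural, `k = 1`. -/
structure Wv {K : Type*} [Field K] (S : Sylow 2 G) (P V M F : Subgroup G)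
    (N : Crd K (S : Subgroup G) P (zl (S : Subgroup G) P)) : Prop extends Act S P V F where
  four : 4 ≤ Nat.card K
  PM : P ≤ M
  MV : M ≤ normalizer (V : Set G)
  VS : V ≤ (S : Subgroup G)
  WM : WW V F ≤ M
  goodL : ∀ m ∈ M, WW V F ≤ cj m (S : Subgroup G) → cj m (zl (S : Subgroup G) P) ≤ EE V F
  noffL : ∀ g : G, zl (S : Subgroup G) P ≤ normalizer ((cj g (zl (S : Subgroup G) P) : Subgroup G) : Set G) →
    cj g (zl (S : Subgroup G) P) ≤ normalizer (zl (S : Subgroup G) P : Set G) →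
      cj g (zl (S : Subgroup G) P) ≤ centralizer (zl (S : Subgroup G) P : Set G)
  prin : ∀ A ≤ M, IsPGroup 2 A → ¬ A ≤ centralizer (V : Set G) →
    ∃ m ∈ M, cj m A ≤ (S : Subgroup G) ∧ ¬ cj m A ≤ centralizer (zl (S : Subgroup G) P : Set G)

namespace Wv

variable {K : Type*} [Field K] {S : Sylow 2 G} {P V M F : Subgroup G}
  {N : Crd K (S : Subgroup G) P (zl (S : Subgroup G) P)} (h : Wv S P V M F N)
include h

theorem sqL : ∀ v ∈ zl (S : Subgroup G) P, v ^ 2 = 1 := fun v hv => h.hyp.sq v (h.LV hv)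

/-- NOFF for two lines. -/
theorem noff2 {g g' : G}
    (h1 : cj g (zl (S : Subgroup G) P) ≤ normalizer ((cj g' (zl (S : Subgroup G) P) : Subgroup G) : Set G))
    (h2 : cj g' (zl (S : Subgroup G) P) ≤ normalizer ((cj g (zl (S : Subgroup G) P) : Subgroup G) : Set G)) :
    cj g' (zl (S : Subgroup G) P) ≤ centralizer ((cj g (zl (S : Subgroup G) P) : Subgroup G) : Set G) := by
  have h3 := h.noffL (g⁻¹ * g') (by
    have h4 := cj_mono g⁻¹ h1
    rwa [cj_inv_cj, cj_normalizer, cj_cj] at h4) (by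
    have h4 := cj_mono g⁻¹ h2
    rwa [cj_normalizer, cj_inv_cj, cj_cj] at h4)
  have h4 := cj_mono g h3
  rwa [cj_centralizer, cj_cj, mul_inv_cancel_left] at h4

/-- `S^m` normalises `L^m`. -/
theorem S_norm (m : G) : cj m (S : Subgroup G) ≤ normalizer ((cj m (zl (S : Subgroup G) P) : Subgroup G) : Set G) := by
  rw [← cj_normalizer]
  exact cj_mono m (h.SP.trans h.PL)

theorem cjE_le_W {x : G} (hx : x ∈ centralizer (F : Set G)) {A : Subgroup G} (hA : A ≤ EE V F) : cj x A ≤ WW V F :=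
  (cj_mono x hA).trans (Hyp.conjE_le_W hx)

theorem one_mem_DW : (1 : G) ∈ DW S V M F := ⟨one_mem _, by rw [cj_one]; exact h.WS⟩

/-- lines of the chambers containing `W`: `L^m`, `L^{xm'}` commute. -/
theorem commW {m m' x : G} (hm : m ∈ DW S V M F) (hm' : m' ∈ DW S V M F) (hx : x ∈ centralizer (F : Set G)) :
    cj (x * m') (zl (S : Subgroup G) P) ≤ centralizer ((cj m (zl (S : Subgroup G) P) : Subgroup G) : Set G) := by
  refine h.noff2 ?_ ?_
  · -- `L^m` normalises `L^{xm'}`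
    have h1 : cj x⁻¹ (cj m (zl (S : Subgroup G) P)) ≤
        normalizer ((cj m' (zl (S : Subgroup G) P) : Subgroup G) : Set G) :=
      ((h.cjE_le_W (inv_mem hx) (h.goodL m hm.1 hm.2)).trans hm'.2).trans (h.S_norm m')
    have h2 := cj_mono x h1
    rwa [cj_cj_inv, cj_normalizer, cj_cj] at h2
  · rw [← cj_cj]
    exact ((h.cjE_le_W hx (h.goodL m' hm'.1 hm'.2)).trans hm.2).trans (h.S_norm m)

theorem bhW : BH V F (bl (zl (S : Subgroup G) P) F (DW S V M F)) ∧
    ∀ b ∈ bl (zl (S : Subgroup G) P) F (DW S V M F), b ^ 2 = 1 :=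
  bh_of h.hyp h.sqL (fun m hm => h.goodL m hm.1 hm.2) fun m hm m' hm' x hx => h.commW hm hm' hx

/-- `B` centralises `L^g` if `B ≤ S^g`, `L^g ≤ E`, and the lines `L^{xg}` normalise the generating lines. -/
theorem cent_of {Δ : Set G} {g : G} (hB : bl (zl (S : Subgroup G) P) F Δ ≤ cj g (S : Subgroup G))
    (hE : cj g (zl (S : Subgroup G) P) ≤ EE V F)
    (hN : ∀ m ∈ Δ, ∀ x ∈ centralizer (F : Set G), cj (x * g) (zl (S : Subgroup G) P) ≤
      normalizer ((cj m (zl (S : Subgroup G) P) : Subgroup G) : Set G)) :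
    bl (zl (S : Subgroup G) P) F Δ ≤ centralizer ((cj g (zl (S : Subgroup G) P) : Subgroup G) : Set G) := by
  refine sSup_le fun l hl => ?_
  have hlB : l ≤ bl (zl (S : Subgroup G) P) F Δ := le_sSup hl
  rcases hl with rfl | ⟨m, hm, x, hx, rfl⟩
  · rw [le_centralizer_iff]
    exact hE.trans Hyp.E_le_X
  · refine h.noff2 ?_ ((hlB.trans hB).trans (h.S_norm g))
    have h1 := cj_mono x (hN m hm x⁻¹ (inv_mem hx))
    rw [cj_cj, cj_normalizer, cj_cj] at h1
    have e : x * (x⁻¹ * g) = g := by group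
    rwa [e] at h1

/-- **The index**: `V ∩ B = L F`, `|V ∩ B : F| = |K| ≤ |V : E|`. -/
theorem index [Finite K] [CharP K 2] {B : Subgroup G} (bh : BH V F B) (hsq : ∀ b ∈ B, b ^ 2 = 1)
    (hLB : zl (S : Subgroup G) P ≤ B)
    (hgood : ∀ g ∈ M, B ≤ cj g (S : Subgroup G) → cj g (zl (S : Subgroup G) P) ≤ EE V F →
      B ≤ centralizer ((cj g (zl (S : Subgroup G) P) : Subgroup G) : Set G)) :
    V ⊓ B ≤ zl (S : Subgroup G) P ⊔ F ∧ F.relIndex (V ⊓ B) ≤ (EE V F).relIndex V := by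
  have hWR : WW V F ≤ centralizer (N.R : Set G) := N.off_le_centR h.WS h.elemM h.offM.le
  -- `L ∩ F = R`
  have hLF : zl (S : Subgroup G) P ⊓ F = N.R := by
    apply le_antisymm
    · rintro v ⟨hv, hvF⟩
      obtain ⟨s, hs, hsL⟩ := SetLike.not_le_iff_exists.1 h.mov
      exact N.fix (h.WS hs) (hWR hs) hsL hv (Hyp.F_comm hvF (Hyp.W_le_X hs)).symm
    · refine le_inf N.R_le ?_
      rw [← h.hyp.cent_VW]
      exact le_inf (N.R_le.trans h.LV) (le_centralizer_iff.1 hWR)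
  have hrF : F.relIndex (zl (S : Subgroup G) P) = Nat.card K := by
    rw [← inf_relIndex_right, inf_comm, hLF]
    have h1 := card_mul_relIndex' N.R_le
    rw [N.card_R, N.card_V] at h1
    exact Nat.eq_of_mul_eq_mul_left Nat.card_pos h1
  have hle : Nat.card K ≤ F.relIndex (V ⊓ B) := by
    rw [← hrF]
    exact relIndex_le_of_le_right (le_inf h.LV hLB) index_ne_zero_of_finite
  -- `B` moves `V`
  have hmv : ¬ B ≤ centralizer (V : Set G) := by
    intro hc
    apply h.mov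
    refine NoFF.Basic.V_le fun x hx => ?_
    have h1 : cj x⁻¹ (zl (S : Subgroup G) P) ≤ B := by
      have h2 := cj_mono x⁻¹ hLB
      rwa [cj_eq_of_mem_normalizer (bh.norm (inv_mem hx))] at h2
    have h2 := cj_mono x (h1.trans (hc.trans (centralizer_le (inf_le_left : EE V F ≤ V))))
    rw [cj_cj_inv, cj_centralizer] at h2
    exact le_centralizer_iff.1 h2
  have hB2 : IsPGroup 2 B := by
    rintro ⟨b, hb⟩
    exact ⟨1, Subtype.ext (by simpa only [_root_.pow_one, _root_.SubmonoidClass.mk_pow, _root_.OneMemClass.coe_one] using hsq b hb)⟩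
  obtain ⟨m, hm, hmS, hmL⟩ := h.prin B (bh.le_W.trans h.WM) hB2 hmv
  have hmV := h.MV hm
  have hEE : EE V (cj m F) = cj m (EE V F) := EE_cj hmV
  have hbad : ¬ zl (S : Subgroup G) P ≤ EE V (cj m F) := by
    intro h1
    rw [hEE] at h1
    apply hmL
    have h2 := cj_mono m⁻¹ h1
    rw [cj_inv_cj] at h2
    have h3 := cj_mono m⁻¹ hmS
    rw [cj_inv_cj] at h3
    have h4 := cj_mono m (hgood m⁻¹ (inv_mem hm) h3 h2)
    rwa [cj_centralizer, cj_cj_inv] at h4
  have hcjI : V ⊓ cj m B = cj m (V ⊓ B) := by rw [cj_inf, cj_eq_of_mem_normalizer hmV]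
  have hrel : (cj m F).relIndex (V ⊓ cj m B) = F.relIndex (V ⊓ B) := by
    rw [hcjI]
    exact relIndex_cj m F (V ⊓ B)
  have hrelE : (EE V (cj m F)).relIndex V = (EE V F).relIndex V := by
    have h1 := relIndex_cj m (EE V F) V
    change (cj m (EE V F)).relIndex (cj m V) = _ at h1
    rwa [cj_eq_of_mem_normalizer hmV, ← hEE] at h1
  obtain ⟨h1, h2⟩ := idx_of N (BH_cj bh hmV) (fun b hb => by
    rw [mem_cj] at hb
    have h1 := hsq _ hb
    rw [pow_two] at h1 ⊢
    have e : b * b = m * (m⁻¹ * b * m * (m⁻¹ * b * m)) * m⁻¹ := by group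
    rw [e, h1]; group) hmS h.LV h.four (by rw [hrel]; exact hle) hbad
  rw [hrel, hrelE] at h2
  rw [hrel] at h1
  refine ⟨?_, h2⟩
  -- `|L F| = |V ∩ B|`
  have h3 : zl (S : Subgroup G) P ⊔ F ≤ V ⊓ B := sup_le (le_inf h.LV hLB) bh.F_le_I
  have hn : zl (S : Subgroup G) P ≤ normalizer (F : Set G) := ab_norm h.hyp.comm h.LV h.hyp.F_le_V
  have h4 := NOne.Flat.Off.card_sup_mul_inf hn
  rw [hLF, N.card_R, N.card_V] at h4
  have h5 := card_mul_relIndex' bh.F_le_I
  rw [h1] at h5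
  have p2 : 0 < Nat.card K := Nat.card_pos
  have h6 : Nat.card ↥(zl (S : Subgroup G) P ⊔ F) = Nat.card ↥(V ⊓ B) := by
    rw [← h5]
    have h7 : Nat.card K * Nat.card ↥(zl (S : Subgroup G) P ⊔ F) = Nat.card K * (Nat.card F * Nat.card K) := by
      calc _ = Nat.card ↥(zl (S : Subgroup G) P ⊔ F) * Nat.card K := mul_comm _ _
        _ = _ := by rw [h4]; ring
    exact Nat.eq_of_mul_eq_mul_left p2 h7
  exact (Subgroup.eq_of_le_of_card_ge h3 h6.ge).ge

/-- **`Wc` for `B_F`.** -/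
theorem toWc [Finite K] [CharP K 2] : Wc S P V M F (bl (zl (S : Subgroup G) P) F (DW S V M F)) N := by
  obtain ⟨bh, hsq⟩ := h.bhW
  have hLB : zl (S : Subgroup G) P ≤ bl (zl (S : Subgroup G) P) F (DW S V M F) := by
    have h1 := le_bl' (L := zl (S : Subgroup G) P) (F := F) h.one_mem_DW
    rwa [cj_one] at h1
  have hgood : ∀ g ∈ M, bl (zl (S : Subgroup G) P) F (DW S V M F) ≤ cj g (S : Subgroup G) →
      cj g (zl (S : Subgroup G) P) ≤ EE V F →
        bl (zl (S : Subgroup G) P) F (DW S V M F) ≤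
          centralizer ((cj g (zl (S : Subgroup G) P) : Subgroup G) : Set G) := by
    intro g hg hB hE
    refine h.cent_of hB hE fun m hm x hx => ?_
    rw [← cj_cj]
    exact ((h.cjE_le_W hx hE).trans hm.2).trans (h.S_norm m)
  obtain ⟨hIL, hidx⟩ := h.index bh hsq hLB hgood
  refine { toAct := h.toAct, four := h.four, PM := h.PM, MV := h.MV, VS := h.VS, bh := bh, sq := hsq, BQ := ?_,
           LB := hLB, IL := hIL, idxV := hidx, good := ?_ }
  · rw [← h.o2_eq]
    exact le_inf (bh.le_W.trans h.WS) (bh.abel.trans (centralizer_le hLB))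
  · intro m hm hmS hmE
    have h2 := cj_mono m⁻¹ hmE
    rw [cj_inv_cj] at h2
    have h3 := cj_mono m⁻¹ hmS
    rw [cj_inv_cj] at h3
    have h4 := cj_mono m (hgood m⁻¹ (inv_mem hm) h3 h2)
    rwa [cj_centralizer, cj_cj_inv] at h4

end Wv

end Cfsg.Agent.Omega.NO3S.SFive.One

end

end

-- merged: Cfsg.Agent.Mrg.Omega.NO3S.SFive.WCNorm
section

section


/-!
# `N_G(T) ≤ N_G(K)` for all `K ≤ T ≤ S`: `K` is weakly closed in `S`

The proof of `Omega/OM/Lev/Wc.lean` with small imports.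
-/

set_option autoImplicit false

namespace Cfsg.Agent.Omega.NO3S.SFive.WCNorm

open Subgroup Cfsg Cfsg.Agent.ZN.ChoiceBase

universe u

variable {G : Type u} [Group G] [Finite G]

theorem lt_inf_norm {P Q : Subgroup G} (hP : IsPGroup 2 P) (hQ : Q < P) : Q < P ⊓ normalizer (Q : Set G) := by
  have : Fact (Nat.Prime 2) := ⟨Nat.prime_two⟩
  have : Group.IsNilpotent P := hP.isNilpotent
  have hnc := Group.normalizerCondition_of_isNilpotent (G := P)
  have h1 : Q.subgroupOf P < ⊤ := by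
    rw [lt_top_iff_ne_top]
    intro h
    rw [Subgroup.subgroupOf_eq_top] at h
    exact absurd h (not_le_of_gt hQ)
  have h2 := hnc _ h1
  obtain ⟨x, hx, hx'⟩ := SetLike.exists_of_lt h2
  refine lt_of_le_of_ne (le_inf hQ.le Subgroup.le_normalizer) ?_
  intro heq
  apply hx'
  rw [Subgroup.mem_subgroupOf, heq]
  refine Subgroup.mem_inf.mpr ⟨x.2, ?_⟩
  rw [Subgroup.mem_normalizer_iff] at hx ⊢
  intro h
  constructor
  · intro hh
    have := (hx ⟨h, hQ.le hh⟩).mp (by simpa [Subgroup.mem_subgroupOf] using hh)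
    simpa only [Subgroup.mem_subgroupOf, _root_.Subgroup.coe_mul, _root_.InvMemClass.coe_inv] using this
  · intro hh
    have hP' : h ∈ P := by
      have h4 : (x : G) * h * (x : G)⁻¹ ∈ P := hQ.le hh
      have h5 := P.mul_mem (P.mul_mem (P.inv_mem x.2) h4) x.2
      simpa [mul_assoc] using h5
    have := (hx ⟨h, hP'⟩).mpr (by simpa only [Subgroup.mem_subgroupOf, _root_.Subgroup.coe_mul, _root_.InvMemClass.coe_inv] using hh)
    simpa [Subgroup.mem_subgroupOf] using this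

variable {S : Sylow 2 G}

theorem mem_norm_of {K : Subgroup G} (hKS : K ≤ (S : Subgroup G))
    (hn : ∀ T : Subgroup G, K ≤ T → T ≤ (S : Subgroup G) → normalizer (T : Set G) ≤ normalizer (K : Set G)) :
    ∀ (n : ℕ) (g : G), K ≤ cj g (S : Subgroup G) →
      Nat.card (S : Subgroup G) - Nat.card ↥((S : Subgroup G) ⊓ cj g (S : Subgroup G)) ≤ n →
        g ∈ normalizer (K : Set G) := by
  have : Fact (Nat.Prime 2) := ⟨Nat.prime_two⟩
  intro n
  induction n with
  | zero =>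
    intro g _ hcard
    have h1 : (S : Subgroup G) ⊓ cj g (S : Subgroup G) = (S : Subgroup G) :=
      Subgroup.eq_of_le_of_card_ge inf_le_left (by omega)
    have h2 : (S : Subgroup G) = cj g (S : Subgroup G) :=
      Subgroup.eq_of_le_of_card_ge (inf_eq_left.1 h1) (by rw [card_cj])
    exact hn _ hKS le_rfl (mem_normalizer_iff_cj.2 h2.symm)
  | succ n ih =>
    intro g hKg hcard
    by_cases hn' : Nat.card (S : Subgroup G) - Nat.card ↥((S : Subgroup G) ⊓ cj g (S : Subgroup G)) ≤ n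
    · exact ih g hKg hn'
    set T : Subgroup G := (S : Subgroup G) ⊓ cj g (S : Subgroup G) with hT
    have hlt : Nat.card T < Nat.card (S : Subgroup G) := by omega
    have hKT : K ≤ T := le_inf hKS hKg
    have hTS : T < (S : Subgroup G) := lt_of_le_of_ne inf_le_left fun h => by rw [h] at hlt; omega
    have hTS' : T < cj g (S : Subgroup G) :=
      lt_of_le_of_ne inf_le_right fun h => by rw [h, card_cj] at hlt; omega
    have hNK : normalizer (T : Set G) ≤ normalizer (K : Set G) := hn T hKT hTS.le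
    set R1 : Subgroup G := (S : Subgroup G) ⊓ normalizer (T : Set G) with hR1
    set R2 : Subgroup G := cj g (S : Subgroup G) ⊓ normalizer (T : Set G) with hR2
    have h1 : T < R1 := lt_inf_norm S.isPGroup' hTS
    have h2 : T < R2 := lt_inf_norm (isPGroup_cj g S.isPGroup') hTS'
    obtain ⟨U, hU, hRU⟩ := ZN.ChoiceSit.exists_syl (S.isPGroup'.to_le (inf_le_left : R1 ≤ (S : Subgroup G)))
      (inf_le_right : R1 ≤ normalizer (T : Set G))
    obtain ⟨U', hU', hRU'⟩ := ZN.ChoiceSit.exists_syl ((isPGroup_cj g S.isPGroup').to_le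
      (inf_le_left : R2 ≤ cj g (S : Subgroup G))) (inf_le_right : R2 ≤ normalizer (T : Set G))
    obtain ⟨m, hm, hmU⟩ := ZN.ChoiceSit.syl_conj hU hU'
    have hmK : m ∈ normalizer (K : Set G) := hNK hm
    obtain ⟨S', hS'⟩ := hU.2.1.exists_le_sylow
    obtain ⟨x, hx⟩ := MulAction.exists_smul_eq G S S'
    have hx2 : (S' : Subgroup G) = cj x (S : Subgroup G) := by
      rw [← hx, Sylow.coe_subgroup_smul]
      rfl
    have hUx : U ≤ cj x (S : Subgroup G) := hS'.trans hx2.le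
    -- `x ∈ N(K)`
    have hxK : x ∈ normalizer (K : Set G) := by
      refine ih x ((hKT.trans h1.le).trans (hRU.trans hUx)) ?_
      have h3 : Nat.card R1 ≤ Nat.card ↥((S : Subgroup G) ⊓ cj x (S : Subgroup G)) :=
        Subgroup.card_le_of_le (le_inf inf_le_left (hRU.trans hUx))
      have h5 : Nat.card T < Nat.card R1 := by
        rcases lt_or_eq_of_le (Subgroup.card_le_of_le h1.le) with h | h
        · exact h
        · exact absurd (Subgroup.eq_of_le_of_card_ge h1.le h.ge) h1.ne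
      omega
    -- `y = (m x)⁻¹ g ∈ N(K)`
    have hmx : m * x ∈ normalizer (K : Set G) := mul_mem hmK hxK
    have hmx' := cj_eq_of_mem_normalizer (inv_mem hmx)
    have hU'x : U' ≤ cj (m * x) (S : Subgroup G) := by
      rw [← hmU, ← cj_cj]
      exact cj_mono m hUx
    have hy : (m * x)⁻¹ * g ∈ normalizer (K : Set G) := by
      refine ih _ ?_ ?_
      · rw [← cj_cj, ← hmx']
        exact cj_mono _ hKg
      · have h3 : cj (m * x)⁻¹ R2 ≤ (S : Subgroup G) ⊓ cj ((m * x)⁻¹ * g) (S : Subgroup G) := by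
          refine le_inf ?_ ?_
          · have := cj_mono (m * x)⁻¹ (hRU'.trans hU'x)
            rwa [cj_inv_cj] at this
          · rw [← cj_cj]
            exact cj_mono _ inf_le_left
        have h4 := Subgroup.card_le_of_le h3
        rw [card_cj] at h4
        have h5 : Nat.card T < Nat.card R2 := by
          rcases lt_or_eq_of_le (Subgroup.card_le_of_le h2.le) with h | h
          · exact h
          · exact absurd (Subgroup.eq_of_le_of_card_ge h2.le h.ge) h2.ne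
        omega
    have := mul_mem hmx hy
    rwa [mul_inv_cancel_left] at this

/-- `N_G(T) ≤ N_G(K)` for all `K ≤ T ≤ S`: `K` is weakly closed in `S`. -/
theorem wc_of_norm {K : Subgroup G} (hKS : K ≤ (S : Subgroup G))
    (hn : ∀ T : Subgroup G, K ≤ T → T ≤ (S : Subgroup G) → normalizer (T : Set G) ≤ normalizer (K : Set G)) :
    NO3b.Wc.WC (S : Subgroup G) K where
  le := hKS
  eq := fun g hg => by
    have h1 : K ≤ cj g⁻¹ (S : Subgroup G) := by
      have := cj_mono g⁻¹ hg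
      rwa [cj_inv_cj] at this
    have h2 := mem_norm_of hKS hn _ g⁻¹ h1 le_rfl
    have h3 := inv_mem h2
    rw [inv_inv] at h3
    exact cj_eq_of_mem_normalizer h3

end Cfsg.Agent.Omega.NO3S.SFive.WCNorm

end

section


/-!
# GammaFF (S5), `k = 1` natural: THEOREM WC1 (helper879 #23006 (1), (2))

* `Wv.UU_le` : `Q ≤ S^n` (`n ∈ M`), `L^{pn} ≤ E` for all `p ∈ P` ⟹ `⟨L, L^{pn} : p ∈ P⟩ ≤ L F` (the family `B_F`,
  `(L^{pn})^x`);
* `Wv.eq_of_good` (LEMMA (1)) : then `L^n = L`;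
* **`Wv.wc`** : `O₂(P)` is weakly closed in `S`.
-/

set_option autoImplicit false
set_option linter.unusedSectionVars false
set_option linter.unusedVariables false

namespace Cfsg.Agent.Omega.NO3S.SFive.One

open Subgroup Cfsg Cfsg.Agent.ZN Cfsg.Agent.ZN.ChoiceBase Cfsg.Agent.Omega.MinPar
open Cfsg.Agent.Omega.NOne.Flat (Hyp EE WW NN)
open Cfsg.Agent.Omega.NOne.NearFF (c c_def)
open Cfsg.Agent.Omega.NO3S.Fld (Crd)
open Cfsg.Agent.Omega.NO3S.BetaFF (Act)
open Cfsg.Agent.Omega.NOThreeL.Low.Key (BH)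
open Cfsg.Agent.Omega.FFThm (StmtM NoOverM OffM ElemM)
open Cfsg.Agent.Omega.NOThreeL.VF (fM fM_le fM_cj fM_of_le fM_le_iff exists_two fM_congr elemM_cj elemM_mono)
open scoped Pointwise

universe u

variable {G : Type u} [Group G] [Finite G]

/-- **The lines trick.** `A` normalises subgroups `l ∈ Ls` of `U` which generate `U` modulo `C_U(A)`-generators, no
subgroup of `A` is an over-offender on some `l`: `f(A) ≤ |U|`. -/
theorem fM_le_of_lines {U A : Subgroup G} (Ls : Set (Subgroup G)) (hLU : ∀ l ∈ Ls, l ≤ U)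
    (hno : ∀ l ∈ Ls, ∀ C ≤ A, Nat.card C * Nat.card ↥(l ⊓ centralizer (C : Set G)) ≤
      Nat.card l * Nat.card ↥(C ⊓ centralizer (l : Set G)))
    (hgen : ∀ C ≤ A, (∀ l ∈ Ls, C ≤ centralizer (l : Set G)) → C ≤ centralizer (U : Set G)) :
    fM U A ≤ Nat.card U := by
  induction hn : Nat.card A using Nat.strong_induction_on generalizing A with
  | _ n ih =>
    by_cases hall : ∀ l ∈ Ls, A ≤ centralizer (l : Set G)
    · exact (fM_of_le (hgen A le_rfl hall)).le
    · push Not at hall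
      obtain ⟨l, hl, hlA⟩ := hall
      have h1 := fM_le (hLU l hl) (hno l hl A le_rfl)
      refine h1.trans (ih _ ?_ (fun l' hl' C hC => hno l' hl' C (hC.trans inf_le_left))
        (fun C hC => hgen C (hC.trans inf_le_left)) rfl)
      rw [← hn]
      refine lt_of_le_of_ne (Subgroup.card_le_of_le inf_le_left) fun h2 => hlA ?_
      exact inf_eq_left.1 (Subgroup.eq_of_le_of_card_ge inf_le_left h2.ge)

namespace Wv

variable {K : Type*} [Field K] {S : Sylow 2 G} {P V M F : Subgroup G}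
  {N : Crd K (S : Subgroup G) P (zl (S : Subgroup G) P)} (h : Wv S P V M F N)
include h

/-- The lines `L^{pn}`. -/
def UU (S : Sylow 2 G) (P : Subgroup G) (n : G) : Subgroup G :=
  zl (S : Subgroup G) P ⊔ ⨆ p : P, cj ((p : G) * n) (zl (S : Subgroup G) P)

omit h in
theorem P_norm_UU (n : G) : P ≤ normalizer (UU S P n : Set G) := by
  intro q hq
  refine mem_normalizer_of_cj_le ?_
  change Subgroup.map _ _ ≤ _
  rw [UU, Subgroup.map_sup]
  refine sup_le_sup (cj_eq_of_mem_normalizer (MinSimple.VModule.le_normalizer_zl _ _ hq)).le ?_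
  rw [Subgroup.map_iSup]
  refine iSup_le fun p => ?_
  have h1 : cj q (cj ((p : G) * n) (zl (S : Subgroup G) P)) = cj ((q * p : G) * n) (zl (S : Subgroup G) P) := by
    rw [cj_cj, mul_assoc]
  change cj q (cj ((p : G) * n) (zl (S : Subgroup G) P)) ≤ _
  rw [h1]
  exact le_iSup (fun p : P => cj ((p : G) * n) (zl (S : Subgroup G) P)) ⟨q * p, mul_mem hq p.2⟩

theorem conj_Q {p : G} (hp : p ∈ P) : cj p (o2 P) = o2 P :=
  cj_eq_of_mem_normalizer (MinSimple.VModule.le_normalizer_o2 P hp)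

/-- No over-offender of `P` on `UU`. -/
theorem noOver_UU (hFF : StmtM.{u}) {n : G} (hQn : o2 P ≤ cj n (S : Subgroup G)) : NoOverM (UU S P n) P := by
  intro A hA hE
  have hPU := P_norm_UU (S := S) (P := P) n
  have hnoL := (h.ff hFF).1
  have hLU : zl (S : Subgroup G) P ≤ UU S P n := le_sup_left
  rw [← fM_le_iff]
  -- a 2-subgroup in `S`
  obtain ⟨A₁, hA₁, hA₁2, hA₁c⟩ := exists_two (hA.trans hPU) hE
  rw [← fM_congr hA₁ hA₁c]
  obtain ⟨g, hg, hgS⟩ := NOThreeL.VF.exists_conj_le S h.SP hA₁2 (hA₁.trans hA)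
  have hgS' : cj g A₁ ≤ (S : Subgroup G) := by
    intro x hx
    rw [mem_cj] at hx
    have h1 := hgS _ hx
    have e : g * (g⁻¹ * x * g) * g⁻¹ = x := by group
    rwa [e] at h1
  rw [← (fM_cj (A := A₁) (hPU hg)).1]
  have hE₁ := elemM_cj (hPU hg) (elemM_mono hE hA₁)
  set A₂ := cj g A₁ with hA₂
  -- the first cut: `C_A(L) ≤ Q`
  have hEL : ElemM (zl (S : Subgroup G) P) A₂ :=
    ⟨fun a ha => centralizer_le hLU (hE₁.sq a ha), fun a ha b hb => centralizer_le hLU (hE₁.comm a ha b hb)⟩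
  refine (fM_le hLU (hnoL A₂ (hgS'.trans h.SP) hEL)).trans ?_
  set A₃ := A₂ ⊓ centralizer (zl (S : Subgroup G) P : Set G) with hA₃
  have hA₃Q : A₃ ≤ o2 P := by
    rw [← h.o2_eq]
    exact inf_le_inf_right _ hgS'
  have hE₃ : ElemM (UU S P n) A₃ := elemM_mono hE₁ inf_le_left
  refine fM_le_of_lines {l | ∃ p : P, l = cj ((p : G) * n) (zl (S : Subgroup G) P)} ?_ ?_ ?_
  · rintro _ ⟨p, rfl⟩
    exact (le_iSup (fun p : P => cj ((p : G) * n) (zl (S : Subgroup G) P)) p).trans le_sup_right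
  · rintro _ ⟨p, rfl⟩ C hC
    have hCS : cj ((p : G) * n)⁻¹ C ≤ (S : Subgroup G) := by
      have h1 : o2 P ≤ cj ((p : G) * n) (S : Subgroup G) := by
        have h2 := cj_mono (p : G) hQn
        rwa [h.conj_Q p.2, cj_cj] at h2
      have h2 := cj_mono ((p : G) * n)⁻¹ ((hC.trans hA₃Q).trans h1)
      rwa [cj_inv_cj] at h2
    have hlU : cj ((p : G) * n) (zl (S : Subgroup G) P) ≤ UU S P n :=
      (le_iSup (fun p : P => cj ((p : G) * n) (zl (S : Subgroup G) P)) p).trans le_sup_right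
    have hEC : ElemM (cj ((p : G) * n) (zl (S : Subgroup G) P)) C :=
      ⟨fun a ha => centralizer_le hlU (hE₃.sq a (hC ha)),
        fun a ha b hb => centralizer_le hlU (hE₃.comm a (hC ha) b (hC hb))⟩
    have hcc : ∀ x, x ∈ centralizer ((cj ((p : G) * n) (zl (S : Subgroup G) P) : Subgroup G) : Set G) →
        ((p : G) * n)⁻¹ * x * ((p : G) * n) ∈ centralizer (zl (S : Subgroup G) P : Set G) := by
      intro x hx
      rw [← cj_centralizer, mem_cj] at hx
      exact hx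
    have hEC' : ElemM (zl (S : Subgroup G) P) (cj ((p : G) * n)⁻¹ C) := by
      refine ⟨fun a ha => ?_, fun a ha b hb => ?_⟩
      · rw [mem_cj, inv_inv] at ha
        have h1 := hcc _ (hEC.sq _ ha)
        have e : ((p : G) * n)⁻¹ * ((p : G) * n * a * ((p : G) * n)⁻¹) ^ 2 * ((p : G) * n) = a ^ 2 := by
          rw [pow_two, pow_two]; group
        rwa [e] at h1
      · rw [mem_cj, inv_inv] at ha hb
        have h1 := hcc _ (hEC.comm _ ha _ hb)
        have e : ((p : G) * n)⁻¹ * (((p : G) * n * a * ((p : G) * n)⁻¹) * ((p : G) * n * b * ((p : G) * n)⁻¹) *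
            ((p : G) * n * a * ((p : G) * n)⁻¹)⁻¹ * ((p : G) * n * b * ((p : G) * n)⁻¹)⁻¹) * ((p : G) * n) =
            a * b * a⁻¹ * b⁻¹ := by group
        rwa [e] at h1
    have h1 := hnoL _ (hCS.trans h.SP) hEC'
    have e1 : Nat.card ↥(zl (S : Subgroup G) P ⊓ centralizer ((cj ((p : G) * n)⁻¹ C : Subgroup G) : Set G)) =
        Nat.card ↥(cj ((p : G) * n) (zl (S : Subgroup G) P) ⊓ centralizer (C : Set G)) := by
      rw [← card_cj ((p : G) * n), cj_inf, cj_centralizer, cj_cj_inv]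
    have e2 : Nat.card ↥(cj ((p : G) * n)⁻¹ C ⊓ centralizer (zl (S : Subgroup G) P : Set G)) =
        Nat.card ↥(C ⊓ centralizer ((cj ((p : G) * n) (zl (S : Subgroup G) P) : Subgroup G) : Set G)) := by
      rw [← card_cj ((p : G) * n), cj_inf, cj_centralizer, cj_cj_inv]
    rw [e1, e2, card_cj] at h1
    rw [card_cj]
    exact h1
  · intro C hC hCl
    rw [le_centralizer_iff]
    refine sup_le ?_ (iSup_le fun p => ?_)
    · exact le_centralizer_iff.1 (hC.trans inf_le_right)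
    · exact le_centralizer_iff.1 (hCl _ ⟨p, rfl⟩)

/-- The chambers of the enlarged family. -/
def DU (S : Sylow 2 G) (P V M F : Subgroup G) (n : G) : Set G := DW S V M F ∪ {g | ∃ p ∈ P, g = p * n}

/-- `⟨L, L^{pn} : p ∈ P⟩ ≤ L F` -/
theorem UU_le [Finite K] [CharP K 2] {n : G} (hn : n ∈ M) (hQn : o2 P ≤ cj n (S : Subgroup G))
    (hE : ∀ p ∈ P, cj (p * n) (zl (S : Subgroup G) P) ≤ EE V F) :
    UU S P n ≤ zl (S : Subgroup G) P ⊔ F := by
  have hc := h.toWc
  have hQp : ∀ p ∈ P, o2 P ≤ cj (p * n) (S : Subgroup G) := by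
    intro p hp
    have h2 := cj_mono p hQn
    rwa [h.conj_Q hp, cj_cj] at h2
  have hED : ∀ m ∈ DU S P V M F n, cj m (zl (S : Subgroup G) P) ≤ EE V F := by
    rintro m (hm | ⟨p, hp, rfl⟩)
    · exact h.goodL m hm.1 hm.2
    · exact hE p hp
  -- `L^m`, `m ∈ DW`, against `L^{xpn}`
  have k1 : ∀ m ∈ DW S V M F, ∀ p ∈ P, ∀ x ∈ centralizer (F : Set G),
      cj (x * (p * n)) (zl (S : Subgroup G) P) ≤ centralizer ((cj m (zl (S : Subgroup G) P) : Subgroup G) : Set G) := by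
    intro m hm p hp x hx
    refine h.noff2 ?_ ?_
    · have h1 : cj (x⁻¹ * m) (zl (S : Subgroup G) P) ≤
          normalizer ((cj (p * n) (zl (S : Subgroup G) P) : Subgroup G) : Set G) :=
        (((le_bl hm (inv_mem hx)).trans hc.BQ).trans (hQp p hp)).trans (h.S_norm _)
      have h2 := cj_mono x h1
      rw [cj_cj, cj_normalizer, cj_cj] at h2
      have e : x * (x⁻¹ * m) = m := by group
      rwa [e] at h2
    · rw [← cj_cj]
      exact ((h.cjE_le_W hx (hE p hp)).trans hm.2).trans (h.S_norm m)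
  -- `L^{xpn} ≤ Q`
  have k2 : ∀ p ∈ P, ∀ x ∈ centralizer (F : Set G), cj (x * (p * n)) (zl (S : Subgroup G) P) ≤ o2 P := by
    intro p hp x hx
    rw [← h.o2_eq]
    refine le_inf ?_ ?_
    · rw [← cj_cj]
      exact (h.cjE_le_W hx (hE p hp)).trans h.WS
    · have h1 := k1 1 h.one_mem_DW p hp x hx
      rwa [cj_one] at h1
  have k3 : ∀ m ∈ DU S P V M F n, ∀ m' ∈ DU S P V M F n, ∀ x ∈ centralizer (F : Set G),
      cj (x * m') (zl (S : Subgroup G) P) ≤ centralizer ((cj m (zl (S : Subgroup G) P) : Subgroup G) : Set G) := by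
    rintro m (hm | ⟨p, hp, rfl⟩) m' (hm' | ⟨p', hp', rfl⟩) x hx
    · exact h.commW hm hm' hx
    · exact k1 m hm p' hp' x hx
    · have h1 := k1 m' hm' p hp x⁻¹ (inv_mem hx)
      rw [le_centralizer_iff] at h1
      have h2 := cj_mono x h1
      rw [cj_cj, cj_centralizer, cj_cj] at h2
      have e : x * (x⁻¹ * (p * n)) = p * n := by group
      rwa [e] at h2
    · refine h.noff2 ?_ (((k2 p' hp' x hx).trans (hQp p hp)).trans (h.S_norm _))
      have h1 := cj_mono x (((k2 p hp x⁻¹ (inv_mem hx)).trans (hQp p' hp')).trans (h.S_norm _))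
      rw [cj_cj, cj_normalizer, cj_cj] at h1
      have e : x * (x⁻¹ * (p * n)) = p * n := by group
      rwa [e] at h1
  obtain ⟨bh, hsq⟩ := bh_of (Δ := DU S P V M F n) h.hyp h.sqL hED k3
  have hBB : bl (zl (S : Subgroup G) P) F (DW S V M F) ≤ bl (zl (S : Subgroup G) P) F (DU S P V M F n) := by
    refine sSup_le ?_
    rintro _ (rfl | ⟨m, hm, x, hx, rfl⟩)
    · exact F_le_bl
    · exact le_bl (Or.inl hm) hx
  have hLB := hc.LB.trans hBB
  have hgood : ∀ g ∈ M, bl (zl (S : Subgroup G) P) F (DU S P V M F n) ≤ cj g (S : Subgroup G) →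
      cj g (zl (S : Subgroup G) P) ≤ EE V F →
        bl (zl (S : Subgroup G) P) F (DU S P V M F n) ≤
          centralizer ((cj g (zl (S : Subgroup G) P) : Subgroup G) : Set G) := by
    intro g hg hB hgE
    -- first `B_F`
    have h1 : bl (zl (S : Subgroup G) P) F (DW S V M F) ≤
        centralizer ((cj g (zl (S : Subgroup G) P) : Subgroup G) : Set G) := by
      refine h.cent_of (hBB.trans hB) hgE fun m hm x hx => ?_
      rw [← cj_cj]
      exact ((h.cjE_le_W hx hgE).trans hm.2).trans (h.S_norm m)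
    refine h.cent_of hB hgE ?_
    rintro m (hm | ⟨p, hp, rfl⟩) x hx
    · rw [← cj_cj]
      exact ((h.cjE_le_W hx hgE).trans hm.2).trans (h.S_norm m)
    · refine (le_trans ?_ (hQp p hp)).trans (h.S_norm _)
      rw [← h.o2_eq]
      refine le_inf ?_ ?_
      · rw [← cj_cj]
        exact (h.cjE_le_W hx hgE).trans h.WS
      · have h2 := (le_bl (L := zl (S : Subgroup G) P) h.one_mem_DW (inv_mem hx)).trans h1
        rw [mul_one, le_centralizer_iff] at h2
        have h3 := cj_mono x h2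
        rwa [cj_cj, cj_centralizer, cj_cj_inv] at h3
  obtain ⟨hIL, -⟩ := h.index bh hsq hLB hgood
  refine le_trans (le_inf ?_ ?_) hIL
  · exact sup_le h.LV (iSup_le fun p => (hE p p.2).trans inf_le_left)
  · exact sup_le hLB (iSup_le fun p => le_bl' (Or.inr ⟨p, p.2, rfl⟩))

/-- **LEMMA (1).** -/
theorem eq_of_good [Finite K] [CharP K 2] (hFF : StmtM.{u}) {n : G} (hn : n ∈ M)
    (hQn : o2 P ≤ cj n (S : Subgroup G)) (hE : ∀ p ∈ P, cj (p * n) (zl (S : Subgroup G) P) ≤ EE V F) :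
    n ∈ normalizer (zl (S : Subgroup G) P : Set G) := by
  have hULF : UU S P n ≤ zl (S : Subgroup G) P ⊔ F := h.UU_le hn hQn hE
  have hUE : UU S P n ≤ EE V F := sup_le h.LE (iSup_le fun p => hE p p.2)
  have hUV : UU S P n ≤ V := hUE.trans inf_le_left
  have hLU : zl (S : Subgroup G) P ≤ UU S P n := le_sup_left
  have s : NOThreeL.VF.Q.Sit P (UU S P n) (zl (S : Subgroup G) P) :=
    { ab := fun x hx y hy => h.hyp.V_comm (hUV hx) (hUV hy)
      sq := fun x hx => h.hyp.sq' (hUV hx)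
      VW := hLU
      nW := P_norm_UU n }
  have off : OffM (UU S P n) (WW V F) :=
    { sq := fun a ha => centralizer_le hUV (h.hyp.elemM_W.sq a ha)
      comm := fun a ha b hb => centralizer_le hUV (h.hyp.elemM_W.comm a ha b hb)
      ne := fun h1 => h.mov (h1.trans (centralizer_le hLU))
      le := FFThm.relIndex_le_iff.2 (h.hyp.off_of_le_all hUE) }
  have hAC : WW V F ⊓ centralizer (zl (S : Subgroup G) P : Set G) ≤ centralizer (UU S P n : Set G) := by
    refine le_trans ?_ (centralizer_le hULF)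
    rintro x ⟨hx, hxL⟩
    rw [mem_centralizer_iff]
    intro z hz
    obtain ⟨l, hl, f, hf, rfl⟩ := sup_split (ab_norm h.hyp.comm h.LV h.hyp.F_le_V) hz
    have h1 : l * x = x * l := mem_centralizer_iff.1 hxL l hl
    have h2 : f * x = x * f := Hyp.F_comm hf (Hyp.W_le_X hx)
    rw [mul_assoc, h2, ← mul_assoc, h1, mul_assoc]
  have hle : UU S P n ≤ zl (S : Subgroup G) P := by
    have hcv := h.cv
    obtain ⟨hno, ⟨K, _, _, _, k, hk, ⟨M⟩⟩ | ⟨k, m, hk, hm, ⟨M⟩⟩⟩ := h.ff hFF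
    · rw [hcv] at M
      exact NOThreeL.VF.Q.nat_le M s S.isPGroup' h.SP le_rfl (hUV.trans h.VS) (h.noOver_UU hFF hQn) hno h.WS off
        h.mov hAC
    · rw [hcv] at M
      exact NOThreeL.VF.Q.S.sym_le M (by omega) s S.isPGroup' h.SP le_rfl (hUV.trans h.VS) (h.noOver_UU hFF hQn) hno
        h.WS off h.mov hAC
  have h1 : cj n (zl (S : Subgroup G) P) ≤ zl (S : Subgroup G) P := by
    have h2 : cj n (zl (S : Subgroup G) P) ≤ UU S P n := by
      have h3 : cj (((1 : P) : G) * n) (zl (S : Subgroup G) P) ≤ UU S P n :=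
        (le_iSup (fun p : P => cj ((p : G) * n) (zl (S : Subgroup G) P)) 1).trans le_sup_right
      rwa [OneMemClass.coe_one, one_mul] at h3
    exact h2.trans hle
  exact mem_normalizer_of_cj_le h1

theorem QS : o2 P ≤ (S : Subgroup G) := h.par.isLoc.o2_le S

/-- **THEOREM WC1**: all `N_G(T)`, `Q ≤ T ≤ S`, normalise `L`. -/
theorem norm_le [Finite K] [CharP K 2] (hFF : StmtM.{u})
    (hM : ∀ T : Subgroup G, o2 P ≤ T → T ≤ (S : Subgroup G) → normalizer (T : Set G) ≤ M)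
    {T : Subgroup G} (h1 : o2 P ≤ T) (h2 : T ≤ (S : Subgroup G)) :
    normalizer (T : Set G) ≤ normalizer (zl (S : Subgroup G) P : Set G) := by
  intro n hn
  have hnM := hM T h1 h2 hn
  have hnT : cj n T = T := cj_eq_of_mem_normalizer hn
  have hTn : T ≤ cj n (S : Subgroup G) := by
    have h3 := cj_mono n h2
    rwa [hnT] at h3
  refine h.eq_of_good hFF hnM (h1.trans hTn) fun p hp => ?_
  by_contra hbad
  refine h.toWc.false hFF (g := p * n) (a := p) (mul_mem (h.PM hp) hnM) hp ?_ ?_ hbad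
  · have h3 := cj_mono p (h1.trans hTn)
    rwa [h.conj_Q hp, cj_cj] at h3
  · have h3 := cj_mono n h1
    rw [hnT] at h3
    have h4 := cj_mono p (h3.trans h2)
    rwa [cj_cj] at h4

/-- `O₂(P)` is weakly closed in `S`. -/
theorem wc [Finite K] [CharP K 2] (hFF : StmtM.{u})
    (hM : ∀ T : Subgroup G, o2 P ≤ T → T ≤ (S : Subgroup G) → normalizer (T : Set G) ≤ M) :
    NO3b.Wc.WC (S : Subgroup G) (o2 P) := by
  refine WCNorm.wc_of_norm h.QS fun T h1 h2 n hn => ?_
  have h3 := h.norm_le hFF hM h1 h2 hn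
  have h4 : T ⊓ centralizer (zl (S : Subgroup G) P : Set G) = o2 P := by
    rw [← h.o2_eq]
    apply le_antisymm (inf_le_inf_right _ h2)
    refine le_inf ?_ inf_le_right
    rw [h.o2_eq]
    exact h1
  rw [mem_normalizer_iff_cj, ← h4, cj_inf, cj_centralizer, cj_eq_of_mem_normalizer hn,
    cj_eq_of_mem_normalizer h3]

end Wv

end Cfsg.Agent.Omega.NO3S.SFive.One

end

end

private theorem dce_702701280f9f : _root_.True := by
  try have : _root_.True := by simp only [_root_.Cfsg.Agent.Omega.NO3S.SFive.One.Wv.UU.eq_1]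
  exact _root_.True.intro
end

-- part: Mrg/Omega/NOThreeL/RWide/ExnK
section
prune_inst 0x900041001420000000000010a00020007000000000230001f160020202069101a004a70148e01e0019102c20000a804000d400598038000020008a0040000020842260c28308100023000140f803180c00000000000000000000000000041000000000000
set_option linter.all false
open scoped Cfsg.Agent.FastGrp

section


/-!
# THEOREM KL*(q) on the level of subgroups

`C` acts on the elementary abelian `M` by conjugation, `T` is a Sylow 2-subgroup of `C`, `Z`, `Y ≤ M` are normalised by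
`N_C(T)`, `T` centralises `Z`, `C` centralises `C_Y(T)`; every `T`-minimal `P ≤ C` centralises `Z`, or its elements of
odd order centralise `Y`; `A ≤ O₂(C_C(Z)) ∩ O₂(C_C(Y) T)` is exact modulo `C_A(⟨Z^C⟩) = C_A(M)`.

* `GQ C T A M Z Y` : this situation;  `GQ.preQ` : `TwoZ.PreQ`;  **`GQ.false_of`** : contradiction (with (ML) and EXT).
-/

set_option autoImplicit false
set_option linter.unusedSectionVars false

namespace Cfsg.Agent.Omega.NOThreeL.RWide

open Subgroup Cfsg Cfsg.Agent.Omega.MinPar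
open Cfsg.Agent.ZN (o2 zc)
open Cfsg.Agent.ClassTwoFusion.Quad Cfsg.Agent.Omega.ML.MinFrame
open Cfsg.Agent.MinSimple.MinParabolic (IsMinPar)
open Cfsg.Agent.Omega.NoFF.Basic (comm_symm comm_mono)
open Cfsg.Agent.Omega.KL.TwoZ (PreQ actX)
open Cfsg.Agent.Omega.KL (Plug.sub_o2 Plug.minPar_map)

universe u v

/-- the input on the level of subgroups of `G` -/
structure GQ {G : Type u} [Group G] (C T A M Z Y : Subgroup G) : Prop where
  CM : C ≤ normalizer (M : Set G)
  sqM : ∀ m ∈ M, m ^ 2 = 1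
  TC : T ≤ C
  two : IsPGroup 2 T
  syl : ¬ 2 ∣ T.relIndex C
  ZM : Z ≤ M
  YM : Y ≤ M
  TZ : T ≤ centralizer (Z : Set G)
  NZ : C ⊓ normalizer (T : Set G) ≤ normalizer (Z : Set G)
  NY : C ⊓ normalizer (T : Set G) ≤ normalizer (Y : Set G)
  cY : C ≤ centralizer ((Y ⊓ centralizer (T : Set G) : Subgroup G) : Set G)
  par : ∀ P : Subgroup G, IsMinPar T P → P ≤ C → P ≤ centralizer (Z : Set G) ∨
    ∀ g ∈ P, Odd (orderOf g) → g ∈ centralizer (Y : Set G)
  AT : A ≤ T
  sqA : ∀ a ∈ A, a ^ 2 = 1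
  AZ : A ≤ o2 (C ⊓ centralizer (Z : Set G))
  AY : A ≤ o2 (C ⊓ centralizer (Y : Set G) ⊔ T)
  mv : ¬ A ≤ centralizer (M : Set G)
  ker : A ⊓ centralizer (XS Z C : Set G) ≤ centralizer (M : Set G)
  le : (centralizer (A : Set G)).relIndex M ≤ (centralizer (M : Set G)).relIndex A
  no : ∀ B : Subgroup G, B ≤ A → (centralizer (M : Set G)).relIndex B ≤ (centralizer (B : Set G)).relIndex M
  K : IsKGroup C

namespace GQ

variable {G : Type u} [Group G] {C T A M Z Y : Subgroup G}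

theorem preQ [Finite G] (h : GQ C T A M Z Y) :
    letI := actX h.CM
    PreQ (T.subgroupOf C) (A.subgroupOf C) (Z.subgroupOf M) (Y.subgroupOf M) := by
  let := actX h.CM
  change PreQ (T.subgroupOf C) (A.subgroupOf C) (Z.subgroupOf M) (Y.subgroupOf M)
  have hAC : A ≤ C := h.AT.trans h.TC
  have hsm : ∀ (c : C) (m : M), ((c • m : M) : G) = c * m * (c : G)⁻¹ := fun _ _ => rfl
  have hfix : ∀ (c : C) (m : M), c • m = m ↔ (m : G) * c = c * m := by
    intro c m
    rw [Subtype.ext_iff, hsm, mul_inv_eq_iff_eq_mul, eq_comm]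
  have hnrm : ∀ (Y : Subgroup G) (c : C), (c : G) ∈ normalizer (Y : Set G) → ∀ m ∈ Y.subgroupOf M,
      c • m ∈ Y.subgroupOf M := by
    intro Y c hc m hm
    refine mem_subgroupOf.2 ?_
    rw [hsm]
    exact (mem_normalizer_iff.1 hc _).1 (mem_subgroupOf.1 hm)
  have hfxr : ∀ Y : Subgroup G, Y ≤ M → fxr C (Y.subgroupOf M) = (centralizer (Y : Set G)).subgroupOf C := by
    intro Y hY
    ext c
    rw [mem_subgroupOf, mem_centralizer_iff]
    constructor
    · intro h y hy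
      exact (hfix c ⟨y, hY hy⟩).1 (h _ (mem_subgroupOf.2 hy))
    · intro h y hy
      exact (hfix c y).2 (h _ (mem_subgroupOf.1 hy))
  have hfxt : fxr C (⊤ : Subgroup M) = (centralizer (M : Set G)).subgroupOf C := by
    rw [← hfxr M le_rfl, subgroupOf_self]
  have hcv : ∀ B : Subgroup G, B ≤ C → cv M (B.subgroupOf C : Set C) = (centralizer (B : Set G)).subgroupOf M := by
    intro B hB
    ext m
    rw [mem_subgroupOf, mem_centralizer_iff]
    constructor
    · intro h b hb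
      exact ((hfix ⟨b, hB hb⟩ m).1 (h _ (mem_subgroupOf.2 hb))).symm
    · intro h b hb
      exact (hfix b m).2 (h b (mem_subgroupOf.1 hb)).symm
  have hnT : ∀ g : C, g ∈ normalizer ((T.subgroupOf C : Subgroup C) : Set C) → (g : G) ∈ C ⊓ normalizer (T : Set G) := by
    intro g hg
    refine mem_inf.2 ⟨g.2, ?_⟩
    rw [mem_normalizer_iff]
    intro t
    constructor
    · intro ht
      exact (mem_normalizer_iff.1 hg ⟨t, h.TC ht⟩).1 ht
    · intro ht
      have h1 : (g : G)⁻¹ * ((g : G) * t * (g : G)⁻¹) * (g : G)⁻¹⁻¹ ∈ T :=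
        (mem_normalizer_iff.1 (inv_mem hg) ⟨(g : G) * t * (g : G)⁻¹, h.TC ht⟩).1 ht
      have e : (g : G)⁻¹ * ((g : G) * t * (g : G)⁻¹) * (g : G)⁻¹⁻¹ = t := by group
      rwa [e] at h1
  refine ⟨?_, ?_, h.syl, ?_, ?_, ?_, ?_, ?_, ?_, ?_, ?_, ?_, ?_, ?_, ?_, h.K⟩
  · intro m
    apply Subtype.ext
    have h1 := h.sqM m m.2
    rw [pow_two] at h1
    exact h1
  · exact h.two.comap_of_injective C.subtype C.subtype_injective
  · intro z hz t ht
    rw [hfix]
    exact mem_centralizer_iff.1 (h.TZ (mem_subgroupOf.1 ht)) z (mem_subgroupOf.1 hz)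
  · exact fun g hg => hnrm _ g (h.NZ (hnT g hg))
  · exact fun g hg => hnrm _ g (h.NY (hnT g hg))
  · intro w hw hwT g
    rw [hfix]
    refine mem_centralizer_iff.1 (h.cY g.2) w ⟨mem_subgroupOf.1 hw, ?_⟩
    change (w : G) ∈ centralizer (T : Set G)
    rw [mem_centralizer_iff]
    intro t ht
    exact ((hfix ⟨t, h.TC ht⟩ w).1 (hwT _ (mem_subgroupOf.2 ht))).symm
  · intro P hP
    rcases h.par _ (Plug.minPar_map h.TC hP) (map_subtype_le P) with h1 | h1
    · left
      intro z hz p hp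
      rw [hfix]
      exact mem_centralizer_iff.1 (h1 (mem_map_of_mem C.subtype hp)) z (mem_subgroupOf.1 hz)
    · right
      intro g hg hog w hw
      rw [hfix]
      exact mem_centralizer_iff.1 (h1 g (mem_map_of_mem C.subtype hg) (by rwa [orderOf_coe])) w (mem_subgroupOf.1 hw)
  · intro a ha
    apply Subtype.ext
    have h1 := h.sqA a (mem_subgroupOf.1 ha)
    rw [pow_two] at h1
    exact h1
  · refine Plug.sub_o2 (S := C ⊓ centralizer (Z : Set G)) (fun c => ?_) h.AZ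
    rw [hfxr _ h.ZM, mem_subgroupOf]
    exact ⟨fun h1 => ⟨c.2, h1⟩, fun h1 => h1.2⟩
  · refine Plug.sub_o2 (S := C ⊓ centralizer (Y : Set G) ⊔ T) (fun c => ?_) h.AY
    have e : (C ⊓ centralizer (Y : Set G)).subgroupOf C = (centralizer (Y : Set G)).subgroupOf C := by
      rw [inf_subgroupOf_left]
    rw [hfxr Y h.YM, ← e, ← subgroupOf_sup inf_le_left h.TC, mem_subgroupOf]
  · intro a ha hc m
    rw [hfix]
    have h1 : (a : G) ∈ centralizer (XS Z C : Set G) := by
      have h2 : XS Z C ≤ centralizer ({(a : G)} : Set G) := by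
        refine XS_le fun c hc' z hz => ?_
        rw [mem_centralizer_iff]
        rintro _ rfl
        have h3 := (hfix a _).1 (hc ⟨c, hc'⟩ ⟨z, h.ZM hz⟩ (mem_subgroupOf.2 hz))
        exact h3.symm
      rw [mem_centralizer_iff]
      intro x hx
      exact (mem_centralizer_iff.1 (h2 hx) a rfl).symm
    exact mem_centralizer_iff.1 (h.ker ⟨mem_subgroupOf.1 ha, h1⟩) m m.2
  · by_contra hcon
    push Not at hcon
    apply h.mv
    intro a ha
    rw [mem_centralizer_iff]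
    intro m hm
    exact (hfix ⟨a, hAC ha⟩ ⟨m, hm⟩).1 (hcon _ (mem_subgroupOf.2 ha) ⟨m, hm⟩)
  · intro B hB
    set B' : Subgroup G := B.map C.subtype with hB'
    have hBB : B'.subgroupOf C = B := comap_map_eq_self_of_injective C.subtype_injective B
    have hB'A : B' ≤ A := by
      rintro _ ⟨b, hb, rfl⟩
      exact mem_subgroupOf.1 (hB hb)
    have h1 := h.no B' hB'A
    rw [hfxt, ← hBB, hcv B' (hB'A.trans hAC), relIndex_subgroupOf (hB'A.trans hAC)]
    exact h1
  · rw [hfxt, hcv A hAC, relIndex_subgroupOf hAC]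
    exact h.le

/-- **THEOREM KL*(q)** on the level of subgroups, with EXT -/
theorem false_of [Finite G] (hM : ML.Final.MLK.{u, u}) (hE : ML.Ex.Two.Ext.{u, u}) (h : GQ C T A M Z Y) : False := by
  let := actX h.CM
  obtain ⟨H, _, _, _, T', A', i⟩ := h.preQ.inp
  exact i.false_of hM hE

end GQ

end Cfsg.Agent.Omega.NOThreeL.RWide

end

section


/-!
# NO-3L, box R: at least three types are impossible (#24089, #23252, #23600)

`D = C_G(Z)`, `O = O₂(D)`, `N_j = ⟨Z_j^(Y_j)⟩`, `X_ij = ⟨Z_j^(C_(Y_j)(V_i))⟩`, `E_ij = ⟨Z^⟨D, LL i, LL j⟩⟩`.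

* `Typed.sit` : the frame `EXN.Sit`;  `Typed.big` : `EXN.Big` (with (ML) and EXT);
* **`Typed.false_of`** : `Typed S Z V` is impossible.
-/

set_option autoImplicit false
set_option linter.unusedSectionVars false

namespace Cfsg.Agent.Omega.NOThreeL.RWide

open Subgroup Cfsg Cfsg.Agent.ZN Cfsg.Agent.Omega.MinPar Cfsg.Agent.Omega.Frame Cfsg.Agent.Omega.FrameNOFF
open Cfsg.Agent.Omega.Node.NO3L
open Cfsg.Agent.ZN.ChoiceBase (cj cj_mono cj_inf cj_centralizer cj_eq_of_mem_normalizer mem_cj mem_normalizer_iff_cj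
  cj_cj_inv cj_inv_cj)
open Cfsg.Agent.Omega.NoFF.Basic (comm_symm comm_mono)
open Cfsg.Agent.Omega.NO3S.EThree Cfsg.Agent.Omega.NO3S.EThree.ExactA
open Cfsg.Agent.Omega.EK3.Rank (NoOn)
open Cfsg.Agent.Omega.ML.Final (MLK)
open Cfsg.Agent.MinSimple.MinParabolic (IsMinPar)
open Cfsg.Agent.Omega.EXN

universe u v

namespace TypB

variable {G : Type u} [Group G] [Finite G] {S : Sylow 2 G} {ι : Type v} {Z V : ι → Subgroup G}

/-- `N_j` -/
abbrev NN (Z : ι → Subgroup G) (j : ι) : Subgroup G := XS (Z j) (YY Z j)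

/-- `X_ij` -/
abbrev XX (Z V : ι → Subgroup G) (i j : ι) : Subgroup G := XS (Z j) (YY Z j ⊓ centralizer (V i : Set G))

/-- `⟨D, LL i, LL j⟩` -/
abbrev WW (S : Subgroup G) (Z : ι → Subgroup G) (i j : ι) : Subgroup G := CZ S ⊔ (LL S Z i ⊔ LL S Z j)

variable (T : TypB (S : Subgroup G) Z V)
include T

theorem locW (i j : ι) : IsLoc (S : Subgroup G) (WW (S : Subgroup G) Z i j) := by
  obtain ⟨l, h1, h2⟩ := T.three i j
  refine T.isLoc_of (l := l) ((le_CZ S).trans le_sup_left) (sup_le (centralizer_le (T.le l)) (sup_le ?_ ?_))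
  · exact (LL_le _ _ _).trans (YY_le_cent h1)
  · exact (LL_le _ _ _).trans (YY_le_cent h2)

theorem longW (i j : ι) : IsLong (S : Subgroup G) (WW (S : Subgroup G) Z i j) := ⟨T.locW i j, le_sup_left⟩

/-- `⟨Z_j^(Y_j)⟩ ≤ U` -/
theorem NN_le {j : ι} {U : Subgroup G} (hZ : Z j ≤ U) (hD : CZ (S : Subgroup G) ≤ normalizer (U : Set G))
    (hL : LL (S : Subgroup G) Z j ≤ normalizer (U : Set G)) : NN Z j ≤ U :=
  XS_le_of hZ ((T.YY_le j).trans (sup_le hD hL))

/-- `LL i` normalises `C_{Y_j}(V_i)` -/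
theorem LL_norm_H {i j : ι} (hij : i ≠ j) :
    LL (S : Subgroup G) Z i ≤ normalizer ((YY Z j ⊓ centralizer (V i : Set G) : Subgroup G) : Set G) := by
  have key : ∀ g ∈ LL (S : Subgroup G) Z i, ∀ r ∈ YY Z j ⊓ centralizer (V i : Set G),
      g * r * g⁻¹ ∈ YY Z j ⊓ centralizer (V i : Set G) := by
    intro g hg r hr
    have h1 : g * r * g⁻¹ ∈ centralizer (V i : Set G) := by
      have h2 := T.LL_norm_V i hg
      rw [mem_normalizer_iff_cj] at h2
      have h3 : g * r * g⁻¹ ∈ cj g (centralizer (V i : Set G)) := by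
        rw [mem_cj]
        have e : g⁻¹ * (g * r * g⁻¹) * g = r := by group
        rw [e]
        exact hr.2
      rwa [cj_centralizer, h2] at h3
    refine ⟨?_, h1⟩
    change g * r * g⁻¹ ∈ YY Z j
    rw [YY, mem_centralizer_iff]
    rintro x ⟨l, hl, hx⟩
    by_cases hli : l = i
    · subst hli
      exact mem_centralizer_iff.1 h1 x (T.ZV l hx)
    · have h2 : x * g = g * x := mem_centralizer_iff.1 (YY_le_cent hli (LL_le _ _ _ hg)) x hx
      have h3 : x * r = r * x := mem_centralizer_iff.1 (YY_le_cent hl hr.1) x hx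
      have h4 : x * g⁻¹ = g⁻¹ * x := by
        rw [eq_inv_mul_iff_mul_eq, ← mul_assoc, ← h2, mul_inv_cancel_right]
      calc x * (g * r * g⁻¹) = (x * g) * r * g⁻¹ := by group
        _ = g * (x * r) * g⁻¹ := by rw [h2]; group
        _ = g * r * (x * g⁻¹) := by rw [h3]; group
        _ = g * r * g⁻¹ * x := by rw [h4]; group
  intro g hg
  rw [mem_normalizer_iff]
  intro r
  refine ⟨key g hg r, fun h => ?_⟩
  have h1 := key g⁻¹ (inv_mem hg) _ h
  have e : g⁻¹ * (g * r * g⁻¹) * g⁻¹⁻¹ = r := by group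
  rwa [e] at h1

/-- `LL i` normalises `X_ij` -/
theorem LL_norm_X {i j : ι} (hij : i ≠ j) :
    LL (S : Subgroup G) Z i ≤ normalizer ((XX Z V i j : Subgroup G) : Set G) := fun _ hg =>
  mem_normalizer_XS (centralizer_le_normalizer _ (YY_le_cent hij.symm (LL_le _ _ _ hg))) (T.LL_norm_H hij hg)

theorem S_norm_H (i j : ι) :
    (S : Subgroup G) ≤ normalizer ((YY Z j ⊓ centralizer (V i : Set G) : Subgroup G) : Set G) := by
  intro s hs
  rw [mem_normalizer_iff_cj, cj_inf, cj_centralizer, cj_eq_of_mem_normalizer (le_normalizer (T.S_le j hs)),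
    cj_eq_of_mem_normalizer (T.SV i hs)]

/-- `C_O(N_i) = O₂(C_{Y_i}(N_i))` is normalised by `Y_i` -/
theorem YY_norm_Q (i : ι) : YY Z i ≤
    normalizer ((o2 (CZ (S : Subgroup G)) ⊓ centralizer (NN Z i : Set G) : Subgroup G) : Set G) := by
  set K := YY Z i ⊓ centralizer (NN Z i : Set G) with hK
  have hKC : K ≤ CZ (S : Subgroup G) := by
    refine T.le_CZ_of fun l => ?_
    by_cases hl : l = i
    · subst hl
      exact inf_le_right.trans (centralizer_le (le_XS _ _))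
    · exact inf_le_left.trans (YY_le_cent hl)
  have hYN : YY Z i ≤ normalizer (NN Z i : Set G) := le_normalizer_XS _ _
  have hYK : YY Z i ≤ normalizer (K : Set G) := by
    intro g hg
    rw [mem_normalizer_iff_cj, hK, cj_inf, cj_centralizer, cj_eq_of_mem_normalizer (le_normalizer hg),
      cj_eq_of_mem_normalizer (hYN hg)]
  have hOC : o2 (CZ (S : Subgroup G)) ≤ CZ (S : Subgroup G) := MinSimple.VModule.o2_le _
  have e : o2 (CZ (S : Subgroup G)) ⊓ centralizer (NN Z i : Set G) = o2 K := by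
    apply le_antisymm
    · refine MinSimple.VModule.le_o2 (inf_le_inf_right _ (hOC.trans (T.CZ_le i)))
        ((MinSimple.VModule.o2_isPGroup _).to_le inf_le_left) ?_
      intro g hg
      rw [mem_normalizer_iff_cj, cj_inf, cj_centralizer,
        cj_eq_of_mem_normalizer (MinSimple.VModule.le_normalizer_o2 _ (hKC hg)), cj_eq_of_mem_normalizer (hYN hg.1)]
    · refine le_inf (MinSimple.VModule.le_o2 ((MinSimple.VModule.o2_le _).trans hKC) (MinSimple.VModule.o2_isPGroup _) ?_)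
        ((MinSimple.VModule.o2_le _).trans inf_le_right)
      intro g hg
      exact Cfsg.Agent.Omega.normalizer_le_normalizer_o2' _ (hYK (T.CZ_le i hg))
  rw [e]
  intro g hg
  exact Cfsg.Agent.Omega.normalizer_le_normalizer_o2' _ (hYK hg)

variable (hc : IsCharacteristicTwoType G) (ml : MLK.{u, u})
  (kg : ∀ R : Subgroup G, IsLoc (S : Subgroup G) R → IsKGroup R) (hS : (S : Subgroup G) ≠ ⊥)
include hc

theorem NN_le_zl (j : ι) : NN Z j ≤ zl (S : Subgroup G) (YY Z j) := T.XS_le_zl le_rfl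

theorem NN_le_O (j : ι) : NN Z j ≤ o2 (CZ (S : Subgroup G)) :=
  (T.NN_le_zl hc j).trans (((T.longY j).zl_le_o2 hc S).trans ((T.longY j).o2_le S))

include ml kg hS

/-- **The frame.** -/
theorem sit : Sit (CZ (S : Subgroup G)) (o2 (CZ (S : Subgroup G))) Z (LL (S : Subgroup G) Z) (NN Z) (XX Z V) where
  OD := MinSimple.VModule.o2_le _
  nO := MinSimple.VModule.le_normalizer_o2 _
  Oz i := (MinSimple.VModule.o2_le _).trans (centralizer_le (T.le i))
  eN i := eab_mono (FFThm.elem_zl hc S (T.locY i)) (T.NN_le_zl hc i)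
  NO i := T.NN_le_O hc i
  nN i := (T.CZ_le i).trans (le_normalizer_XS _ _)
  minN _ _ h1 h2 h3 := T.NN_le h1 h2 h3
  nQ i := (LL_le _ _ _).trans (T.YY_norm_Q i)
  no i := T.noOn hc ml kg hS le_rfl ((T.S_le i).trans le_normalizer)
  XN _ _ _ := XS_mono inf_le_left
  nX _ _ h := T.LL_norm_X h
  noX i j _ := T.noOn hc ml kg hS inf_le_left (T.S_norm_H i j)

end TypB

namespace Typed

open TypB

variable {G : Type u} [Group G] [Finite G] {S : Sylow 2 G} {ι : Type v} {Z V : ι → Subgroup G}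
  (T : Typed (S : Subgroup G) Z V) (hc : IsCharacteristicTwoType G) (ml : MLK.{u, u})
  (kg : ∀ R : Subgroup G, IsLoc (S : Subgroup G) R → IsKGroup R) (hS : (S : Subgroup G) ≠ ⊥)
include T hc ml kg hS

/-- (NO) on `N ≤ E` gives the input of KL*(q) -/
theorem kl (hE : ML.Ex.Two.Ext.{u, u}) {i j : ι} (hij : i ≠ j) {F : Subgroup G} (hF : IsElementaryAbelian 2 F)
    (hFO : F ≤ o2 (CZ (S : Subgroup G))) (hm : MinOff (zl (S : Subgroup G) (WW (S : Subgroup G) Z i j)) F)
    (hX : F ≤ centralizer (XX Z V i j : Set G)) : F ≤ centralizer (NN Z j : Set G) := by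
  by_contra hN
  have Tb := T.typB
  set E := zl (S : Subgroup G) (WW (S : Subgroup G) Z i j) with hEd
  have hYW : YY Z j ≤ WW (S : Subgroup G) Z i j := (Tb.YY_le j).trans (sup_le_sup_left le_sup_right _)
  have hYWi : YY Z i ≤ WW (S : Subgroup G) Z i j := (Tb.YY_le i).trans (sup_le_sup_left le_sup_left _)
  have hNE : NN Z j ≤ E := Tb.XS_le_zl hYW
  have hNEi : NN Z i ≤ E := Tb.XS_le_zl hYWi
  have hWE : WW (S : Subgroup G) Z i j ≤ normalizer (E : Set G) := MinSimple.VModule.le_normalizer_zl _ _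
  have hEe : IsElementaryAbelian 2 E := FFThm.elem_zl hc S (Tb.locW i j)
  have hsit := Tb.sit hc ml kg hS
  obtain ⟨h1, h2, h3, h4, h5⟩ := exact_of hF hFO hm hNE (hsit.no j) hN
  have hFS : F ≤ (S : Subgroup G) := hFO.trans ((isLoc_centralizer_zc S hS).o2_le S)
  refine GQ.false_of (C := YY Z j) (T := (S : Subgroup G)) (A := F) (M := E) (Z := Z j) (Y := V i) ml hE
    { CM := hYW.trans hWE
      sqM := hEe.2
      TC := Tb.S_le j
      two := S.isPGroup'
      syl := MinSimple.Basic.not_dvd_relIndex S (Tb.S_le j)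
      ZM := (le_XS _ _).trans hNE
      YM := (T.VX i).trans hNEi
      TZ := Tb.ZC j
      NZ := fun n hn => (T.nrm j n hn.2 hn.1).1
      NY := fun n hn => (T.nrm j n hn.2 hn.1).2 i
      cY := ?_
      par := ?_
      AT := hFS
      sqA := hF.2
      AZ := ?_
      AY := ?_
      mv := hm.mov
      ker := h1
      le := hm.le
      no := ?_
      K := kg _ (Tb.locY j) }
  · -- the `S`-fixed points of `V_i`
    refine (YY_le_cent hij).trans (centralizer_le ?_)
    intro x hx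
    refine T.cV i ⟨hx.1, MinSimple.VModule.mem_zc.2 ⟨?_, ?_, ?_⟩⟩
    · exact ((T.VX i).trans ((Tb.NN_le_O hc i).trans ((isLoc_centralizer_zc S hS).o2_le S))) hx.1
    · intro s hs
      exact mem_centralizer_iff.1 hx.2 s hs
    · exact hEe.2 x (hNEi (T.VX i hx.1))
  · intro P hP hPY
    have hPp := (Tb.locY j).isPar S hP hPY
    by_cases h : IsParS (S : Subgroup G) P
    · exact Or.inr ((T.par j P h hPY).2 i hij)
    · exact Or.inl ((par_le_CZ S hPp h).trans (centralizer_le (T.le j)))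
  · -- `C_{Y_j}(Z_j) = D`
    have e : YY Z j ⊓ centralizer (Z j : Set G) = CZ (S : Subgroup G) := by
      apply le_antisymm
      · refine Tb.le_CZ_of fun l => ?_
        by_cases hl : l = j
        · subst hl
          exact inf_le_right
        · exact inf_le_left.trans (YY_le_cent hl)
      · exact le_inf (Tb.CZ_le j) (centralizer_le (T.le j))
    rw [e]
    exact hFO
  · -- `C_{Y_j}(V_i) S`
    refine le_o2_of_comm hFO (hFS.trans le_sup_right) ?_
    refine comm_symm ((Tb.zl_le_sup inf_le_left (Tb.S_norm_H i j)).trans (sup_le (comm_symm hX) ?_))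
    exact comm_symm (hFO.trans (MinSimple.VModule.o2_le _))
  · intro B hB
    have hBO := hFO.trans' hB
    have h6 := hsit.no j B (eab_mono hF hB) hBO
    have h7 : (centralizer (E : Set G)).relIndex B ≤ (centralizer (NN Z j : Set G)).relIndex B := by
      rw [← inf_relIndex_left B (centralizer (NN Z j : Set G))]
      exact Sigma.relIndex_le_left ((inf_le_inf_right _ hB).trans h1)
    exact h7.trans (h6.trans (Sigma.relIndex_le_right hNE))

/-- **`EXN.Big`** -/
theorem big (hE : ML.Ex.Two.Ext.{u, u}) : Big (CZ (S : Subgroup G)) (o2 (CZ (S : Subgroup G))) Z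
    (LL (S : Subgroup G) Z) (NN Z) (XX Z V) (fun i j => zl (S : Subgroup G) (WW (S : Subgroup G) Z i j)) where
  toSit := T.typB.sit hc ml kg hS
  eE i j _ := FFThm.elem_zl hc S (T.typB.locW i j)
  EO i j _ := ((T.typB.longW i j).zl_le_o2 hc S).trans ((T.typB.longW i j).o2_le S)
  NE i j _ := T.typB.XS_le_zl ((T.typB.YY_le j).trans (sup_le_sup_left le_sup_right _))
  symm i j := by rw [WW, WW, sup_comm (LL (S : Subgroup G) Z i)]
  DE i j _ := (le_sup_left : _ ≤ WW (S : Subgroup G) Z i j).trans (MinSimple.VModule.le_normalizer_zl _ _)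
  LE i j _ := ((le_sup_left : _ ≤ LL (S : Subgroup G) Z i ⊔ LL (S : Subgroup G) Z j).trans
    (le_sup_right : _ ≤ WW (S : Subgroup G) Z i j)).trans (MinSimple.VModule.le_normalizer_zl _ _)
  minE i j _ U h1 h2 h3 h4 := MinSimple.VModule.zl_le (T.sup.trans (iSup_le h1)) (sup_le h2 (sup_le h3 h4))
  kl i j hij F hF hFO hm hX := T.kl hc ml kg hS hE hij hF hFO hm hX

/-- **At least three types are impossible.** -/
theorem false_of [Finite ι] (hE : ML.Ex.Two.Ext.{u, u}) : False := by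
  have hz := MinSimple.Basic.zc_ne_bot S.isPGroup' hS
  obtain ⟨⟨x, hx⟩, hx1⟩ := (Subgroup.ne_bot_iff_exists_ne_one).1 hz
  have hx1' : x ≠ 1 := fun h => hx1 (Subtype.ext h)
  have hzO : zc (S : Subgroup G) ≤ o2 (CZ (S : Subgroup G)) := by
    have hL : IsLong (S : Subgroup G) (CZ (S : Subgroup G)) := ⟨isLoc_centralizer_zc S hS, le_rfl⟩
    exact zc_le_zl.trans (hL.zl_le_o2 hc S)
  obtain ⟨U, hU1, hUO, hUD, hUL⟩ := (T.big hc ml kg hS hE).exn ⟨x, hzO hx, hx1', MinSimple.VModule.zc_sq _ x hx⟩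
  exact hU1 (T.non U ((MinSimple.VModule.o2_isPGroup _).to_le hUO) fun j => (T.typB.YY_le j).trans (sup_le hUD (hUL j)))

end Typed

end Cfsg.Agent.Omega.NOThreeL.RWide

end

section


/-!
# NO-3L, box R: `Typed` from the types of the parabolics

`TT` : an `N_G(S)`-invariant set of `P ∈ P*(S)`, `⟨C_G(Z), TT⟩` nonlocal, `Z = ∏ Z_i`.

* `Ty S Z V i P` : `P` is of type `i`: it centralises the `Z_l`, `l ≠ i`, `C_{Z_i}(P) = 1`, `V_i = ⟨Z_i^P⟩`, and its elements
  of odd order centralise the `V_l`, `l ≠ i`;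
* `Types S TT Z V` : every `P ∈ TT` has a type; the other `P ∈ P*(S)` with `P ≤ Y_j` normalise `V_j`, and their elements of
  odd order centralise the `V_l`, `l ≠ j`;
* **`Types.typed`** : `Types S TT Z V → Typed S Z V`;  **`Types.false_of`** : contradiction (with (ML) and EXT).
-/

set_option autoImplicit false
set_option linter.unusedSectionVars false

namespace Cfsg.Agent.Omega.NOThreeL.RWide

open Subgroup Cfsg Cfsg.Agent.ZN Cfsg.Agent.Omega.MinPar Cfsg.Agent.Omega.Frame Cfsg.Agent.Omega.FrameNOFF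
open Cfsg.Agent.Omega.Node.NO3L
open Cfsg.Agent.ZN.ChoiceBase (cj cj_mono cj_inf cj_centralizer cj_eq_of_mem_normalizer mem_cj mem_normalizer_iff_cj
  cj_cj_inv cj_inv_cj)
open Cfsg.Agent.Omega.NoFF.Basic (comm_symm comm_mono)
open Cfsg.Agent.Omega.OM.KTwo (exists_mul_of_mem_sup)
open Cfsg.Agent.Omega.ML.Final (MLK)

universe u v

section defs

variable {G : Type u} [Group G] {ι : Type v}

/-- `P` is of type `i` -/
structure Ty (S : Subgroup G) (Z V : ι → Subgroup G) (i : ι) (P : Subgroup G) : Prop where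
  par : IsParS S P
  cent : ∀ l, l ≠ i → P ≤ centralizer (Z l : Set G)
  free : Z i ⊓ centralizer (P : Set G) = ⊥
  gen : XS (Z i) P = V i
  odd : ∀ l, l ≠ i → ∀ g ∈ P, Odd (orderOf g) → g ∈ centralizer (V l : Set G)

/-- at least three types -/
structure Types (S : Subgroup G) (TT : Set (Subgroup G)) (Z V : ι → Subgroup G) : Prop where
  three : ∀ i j : ι, ∃ l, l ≠ i ∧ l ≠ j
  ne : ∀ i, Z i ≠ ⊥
  le : ∀ i, Z i ≤ zc S
  sup : zc S ≤ ⨆ i, Z i
  cV : ∀ i, V i ⊓ zc S ≤ Z i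
  inv : ∀ n ∈ normalizer (S : Set G), ∀ P ∈ TT, cj n P ∈ TT
  uni : ∀ P ∈ TT, ∃ i, Ty S Z V i P
  two : ∀ P, IsParS S P → P ∉ TT → ∀ j, P ≤ YY Z j →
    P ≤ normalizer (V j : Set G) ∧ ∀ i, i ≠ j → ∀ g ∈ P, Odd (orderOf g) → g ∈ centralizer (V i : Set G)
  non : ∀ U : Subgroup G, IsPGroup 2 U → CZ S ≤ normalizer (U : Set G) → (∀ P ∈ TT, P ≤ normalizer (U : Set G)) →
    U = ⊥

theorem Ty.le_YY {S : Subgroup G} {Z V : ι → Subgroup G} {i : ι} {P : Subgroup G} (h : Ty S Z V i P) : P ≤ YY Z i :=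
  RWide.le_YY h.cent

/-- a parabolic of type `i` moves `Z i` -/
theorem Ty.not_le {S : Subgroup G} {Z V : ι → Subgroup G} {i : ι} {P : Subgroup G} (h : Ty S Z V i P) (hi : Z i ≠ ⊥) :
    ¬ P ≤ centralizer (Z i : Set G) := by
  intro h1
  apply hi
  rw [← h.free, eq_comm, inf_eq_left]
  exact comm_symm h1

/-- the type is determined by a `Z_j` which is moved -/
theorem Ty.eq {S : Subgroup G} {Z V : ι → Subgroup G} {i j : ι} {P : Subgroup G} (h : Ty S Z V i P)
    (hj : ¬ P ≤ centralizer (Z j : Set G)) : j = i := by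
  by_contra hne
  exact hj (h.cent j hne)

end defs

namespace Types

variable {G : Type u} [Group G] [Finite G] {S : Sylow 2 G} {ι : Type v} {TT : Set (Subgroup G)} {Z V : ι → Subgroup G}
  (T : Types (S : Subgroup G) TT Z V)
include T

theorem exists_ty (i : ι) : ∃ P ∈ TT, Ty (S : Subgroup G) Z V i P := by
  by_contra hcon
  push Not at hcon
  refine T.ne i (T.non (Z i) (S.isPGroup'.to_le ((T.le i).trans (MinSimple.VModule.zc_le _))) ?_ fun P hP => ?_)
  · exact (centralizer_le (T.le i)).trans (centralizer_le_normalizer _)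
  · obtain ⟨l, hl⟩ := T.uni P hP
    refine (hl.cent i ?_).trans (centralizer_le_normalizer _)
    rintro rfl
    exact hcon P hP hl

/-- the type of a conjugate -/
theorem ty_cj {j : ι} {n : G} (hn : n ∈ normalizer ((S : Subgroup G) : Set G)) (hnY : n ∈ YY Z j) {i : ι}
    {P : Subgroup G} (hPT : P ∈ TT) (hP : Ty (S : Subgroup G) Z V i P) : Ty (S : Subgroup G) Z V i (cj n P) := by
  obtain ⟨i', h'⟩ := T.uni _ (T.inv n hn P hPT)
  have hZn : ∀ l, l ≠ j → cj n (Z l) = Z l := fun l hl =>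
    cj_eq_of_mem_normalizer (centralizer_le_normalizer _ (YY_le_cent hl hnY))
  have key : ∀ l, l ≠ j → ∀ Q : Subgroup G, cj n Q ≤ centralizer (Z l : Set G) ↔ Q ≤ centralizer (Z l : Set G) := by
    intro l hl Q
    have e : centralizer (Z l : Set G) = cj n (centralizer (Z l : Set G)) := by
      rw [cj_centralizer, hZn l hl]
    constructor
    · intro h1
      rw [e] at h1
      have := cj_mono n⁻¹ h1
      rwa [cj_inv_cj, cj_inv_cj] at this
    · intro h1
      rw [e]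
      exact cj_mono n h1
  have e : i' = i := by
    by_cases hij : i = j
    · subst hij
      by_contra hne
      refine h'.not_le (T.ne i') ((key i' hne P).2 (hP.cent i' hne))
    · exact (h'.eq fun h1 => hP.not_le (T.ne i) ((key i hij P).1 h1)).symm
  rwa [e] at h'

/-- the fixed points in `Z` of the parabolics of types `≠ j` -/
theorem mem_of_cent [Finite ι] {j : ι} {z : G} (hz : z ∈ zc (S : Subgroup G))
    (h : ∀ l, l ≠ j → ∃ P, Ty (S : Subgroup G) Z V l P ∧ z ∈ centralizer (P : Set G)) : z ∈ Z j := by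
  classical
  have := Fintype.ofFinite ι
  have hcomm : ∀ {K : Subgroup G}, K ≤ zc (S : Subgroup G) → ∀ {K' : Subgroup G}, K' ≤ zc (S : Subgroup G) →
      K ≤ normalizer (K' : Set G) := by
    intro K hK K' hK'
    refine le_trans ?_ (centralizer_le_normalizer _)
    intro x hx
    rw [mem_centralizer_iff]
    intro y hy
    exact MinSimple.VModule.zc_comm _ y (hK' hy) x (hK hx)
  have key : ∀ s : Finset ι, ∀ z : G, z ∈ (⨆ l ∈ s, Z l : Subgroup G) →
      (∀ l, l ≠ j → ∃ P, Ty (S : Subgroup G) Z V l P ∧ z ∈ centralizer (P : Set G)) → z ∈ Z j := by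
    intro s
    induction s using Finset.induction_on with
    | empty =>
      intro z hz _
      simp only [Finset.notMem_empty, iSup_false, iSup_bot, mem_bot] at hz
      rw [hz]
      exact one_mem _
    | insert a s ha ih =>
      intro z hz hc
      rw [Finset.iSup_insert] at hz
      have hs : (⨆ l ∈ s, Z l : Subgroup G) ≤ zc (S : Subgroup G) := iSup₂_le fun l _ => T.le l
      obtain ⟨x, hx, y, hy, rfl⟩ := exists_mul_of_mem_sup (hcomm hs (T.le a)) hz
      by_cases haj : a = j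
      · subst haj
        refine mul_mem hx (ih y hy fun l hl => ?_)
        obtain ⟨P, hP, hzP⟩ := hc l hl
        refine ⟨P, hP, ?_⟩
        have h1 : x ∈ centralizer (P : Set G) := comm_symm (hP.cent a hl.symm) hx
        have h2 := mul_mem (inv_mem h1) hzP
        rwa [inv_mul_cancel_left] at h2
      · obtain ⟨P, hP, hzP⟩ := hc a haj
        have h1 : (⨆ l ∈ s, Z l : Subgroup G) ≤ centralizer (P : Set G) := by
          refine iSup₂_le fun l hl => comm_symm (hP.cent l ?_)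
          rintro rfl
          exact ha hl
        have h2 : x ∈ Z a ⊓ centralizer (P : Set G) := by
          refine ⟨hx, ?_⟩
          have h3 := mul_mem hzP (inv_mem (h1 hy))
          rwa [mul_inv_cancel_right] at h3
        rw [hP.free, mem_bot] at h2
        subst h2
        rw [one_mul] at hc ⊢
        exact ih y hy hc
  refine key Finset.univ z ?_ h
  have h1 := T.sup hz
  simpa using h1

/-- **`Typed` from the types.** -/
theorem typed [Finite ι] (hS : (S : Subgroup G) ≠ ⊥) : Typed (S : Subgroup G) Z V := by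
  have hgen : ∀ i, ∃ P ∈ TT, Ty (S : Subgroup G) Z V i P := T.exists_ty
  have hZn : ∀ j, ∀ n ∈ normalizer ((S : Subgroup G) : Set G), n ∈ YY Z j → cj n (Z j) ≤ Z j := by
    intro j n hn hnY
    intro z hz
    rw [mem_cj] at hz
    have hzc : z ∈ zc (S : Subgroup G) := by
      have h1 := MinSimple.VModule.normalizer_le_normalizer_zc _ hn
      rw [mem_normalizer_iff_cj] at h1
      rw [← h1, mem_cj]
      exact T.le j hz
    refine T.mem_of_cent hzc fun l hl => ?_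
    obtain ⟨P, hPT, hP⟩ := hgen l
    refine ⟨cj n P, T.ty_cj hn hnY hPT hP, ?_⟩
    rw [← cj_centralizer, mem_cj]
    exact comm_symm (hP.cent j hl.symm) hz
  have hZN : ∀ j, ∀ n ∈ normalizer ((S : Subgroup G) : Set G), n ∈ YY Z j → n ∈ normalizer (Z j : Set G) := by
    intro j n hn hnY
    rw [mem_normalizer_iff_cj]
    refine le_antisymm (hZn j n hn hnY) ?_
    have h1 := cj_mono n (hZn j n⁻¹ (inv_mem hn) (inv_mem hnY))
    rwa [cj_cj_inv] at h1
  refine ⟨T.three, T.ne, T.le, T.sup, ?_, ?_, T.cV, ?_, ?_, ?_⟩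
  · intro i
    obtain ⟨P, -, hP⟩ := hgen i
    rw [← hP.gen]
    exact le_XS _ _
  · intro i
    obtain ⟨P, -, hP⟩ := hgen i
    rw [← hP.gen]
    exact XS_mono hP.le_YY
  · intro j n hn hnY
    refine ⟨hZN j n hn hnY, fun i => ?_⟩
    obtain ⟨P, hPT, hP⟩ := hgen i
    have hP' := T.ty_cj hn hnY hPT hP
    have h1 : n ∈ normalizer (Z i : Set G) := by
      by_cases hij : i = j
      · subst hij
        exact hZN i n hn hnY
      · exact centralizer_le_normalizer _ (YY_le_cent hij hnY)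
    rw [mem_normalizer_iff_cj] at h1 ⊢
    conv_rhs => rw [← hP'.gen]
    rw [← hP.gen]
    have key : ∀ (g : G) (A R : Subgroup G), cj g (XS A R) ≤ XS (cj g A) (cj g R) := by
      intro g A R
      rw [cj, map_le_iff_le_comap]
      refine XS_le fun r hr a ha => ?_
      have h2 : g * r * g⁻¹ ∈ cj g R := by
        rw [mem_cj]
        have e : g⁻¹ * (g * r * g⁻¹) * g = r := by group
        rwa [e]
      have h3 : g * a * g⁻¹ ∈ cj g A := by
        rw [mem_cj]
        have e : g⁻¹ * (g * a * g⁻¹) * g = a := by group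
        rwa [e]
      have h4 := conj_mem_XS h2 h3
      have e : g * r * g⁻¹ * (g * a * g⁻¹) * (g * r * g⁻¹)⁻¹ = g * (r * a * r⁻¹) * g⁻¹ := by group
      rw [e] at h4
      exact h4
    refine le_antisymm ?_ ?_
    · have h2 := key n (Z i) P
      rwa [h1] at h2
    · have h2 := cj_mono n (key n⁻¹ (Z i) (cj n P))
      have h3 : cj n⁻¹ (Z i) = Z i := by
        conv_lhs => rw [← h1]
        rw [cj_inv_cj]
      rwa [h3, cj_inv_cj, cj_cj_inv] at h2
  · intro j P hP hPY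
    by_cases hPT : P ∈ TT
    · obtain ⟨i, hi⟩ := T.uni P hPT
      have e : j = i := by
        by_contra hne
        exact hi.not_le (T.ne i) (hPY.trans (YY_le_cent (Ne.symm hne)))
      subst e
      refine ⟨?_, fun i hij => hi.odd i hij⟩
      rw [← hi.gen]
      exact le_normalizer_XS _ _
    · exact T.two P hP hPT j hPY
  · intro U hU h
    refine T.non U hU ?_ fun P hP => ?_
    · have hz := MinSimple.Basic.zc_ne_bot S.isPGroup' hS
      have hne : Nonempty ι := by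
        by_contra hcon
        rw [not_nonempty_iff] at hcon
        have h1 := T.sup
        rw [iSup_of_empty, le_bot_iff] at h1
        exact hz h1
      obtain ⟨j⟩ := hne
      exact (le_YY fun l _ => centralizer_le (T.le l)).trans (h j)
    · obtain ⟨i, hi⟩ := T.uni P hP
      exact hi.le_YY.trans (h i)

/-- **At least three types are impossible.** -/
theorem false_of [Finite ι] (hc : IsCharacteristicTwoType G) (ml : MLK.{u, u})
    (kg : ∀ R : Subgroup G, IsLoc (S : Subgroup G) R → IsKGroup R) (hS : (S : Subgroup G) ≠ ⊥)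
    (hE : ML.Ex.Two.Ext.{u, u}) : False :=
  (T.typed hS).false_of hc ml kg hS hE

end Types

end Cfsg.Agent.Omega.NOThreeL.RWide

end

private theorem dce_dccd75090427 : _root_.True := by
  try have : _root_.True := by simp only [_root_.Cfsg.Agent.Omega.NOThreeL.RWide.TypB.WW.eq_1]
  exact _root_.True.intro
end

-- part: Mrg/Omega/KL/StarM/Pre
section
prune_inst 0xb00001001422000000000010800020007000000000230001d1600202030791010005a7014ae01e0019102c20000a806002c400598038000020008a0040000020842260c28308100023000140f803180c00000000000000000000000000041000000000000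
set_option linter.all false
open scoped Cfsg.Agent.FastGrp

-- merged: Cfsg.Agent.Mrg.Omega.EXN.OffW
section

/-!
# THEOREM EXN with a weaker socket (#23252, #24831)

As `EXN.Big`, but the socket `kl` (THEOREM KL*) is only asked for the offenders `F ≤ Q i = O ⊓ C(N i)`; these centralise
`V_i ≤ N i`, so the form of KL* with `A ≤ O₂(C(V_i))` (LEMMA MOV) applies.

* `BigW` : the situation;  **`BigW.exn`** : `⟨D, L i⟩` normalises a nontrivial subgroup of `O`.
-/

set_option autoImplicit false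
set_option linter.unusedSectionVars false

namespace Cfsg.Agent.Omega.EXN

open Subgroup Cfsg Cfsg.Agent.ZN Cfsg.Agent.Omega.MinPar
open Cfsg.Agent.Omega.NO3S.EThree Cfsg.Agent.Omega.NO3S.EThree.ExactA Cfsg.Agent.Omega.EK3.Rank
open Cfsg.Agent.ZN.ChoiceBase (AA mm mm_eq mem_AA_iff AA_nonempty card_le_mm cj cj_mem_AA mm_cj mm_mono
  cj_inf cj_centralizer card_cj cj_mono cj_inv_cj cj_cj_inv cj_eq_of_mem_normalizer mem_cj cj_le_iff
  isElementaryAbelian_cj cj_cj)
open Cfsg.Agent.Omega.NoFF.Basic (comm_symm comm_mono)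
open Cfsg.Agent.Omega.NO3S.ML (card_mul_relIndex card_sup_mul_of_comm)

universe u v

variable {G : Type u} [Group G] {ι : Type v} [Finite G]

/-! ### The situation -/

/-- The situation of THEOREM EXN with at least three centres, `kl` only for the offenders which centralise `N i`. -/
structure BigW (D O : Subgroup G) (Z L N : ι → Subgroup G) (X E : ι → ι → Subgroup G) : Prop
    extends Sit D O Z L N X where
  eE : ∀ i j, i ≠ j → IsElementaryAbelian 2 (E i j)
  EO : ∀ i j, i ≠ j → E i j ≤ O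
  NE : ∀ i j, i ≠ j → N j ≤ E i j
  symm : ∀ i j, E i j = E j i
  DE : ∀ i j, i ≠ j → D ≤ normalizer (E i j : Set G)
  LE : ∀ i j, i ≠ j → L i ≤ normalizer (E i j : Set G)
  minE : ∀ i j, i ≠ j → ∀ U : Subgroup G, (∀ l, Z l ≤ U) → D ≤ normalizer (U : Set G) →
    L i ≤ normalizer (U : Set G) → L j ≤ normalizer (U : Set G) → E i j ≤ U
  kl : ∀ i j, i ≠ j → ∀ F : Subgroup G, IsElementaryAbelian 2 F → F ≤ QQ O N i → MinOff (E i j) F →
    F ≤ centralizer (X i j : Set G) → F ≤ centralizer (N j : Set G)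

namespace BigW

variable {D O : Subgroup G} {Z L N : ι → Subgroup G} {X E : ι → ι → Subgroup G} (h : BigW D O Z L N X E)
include h

/-- (*) -/
theorem star {i j : ι} (hij : i ≠ j) {F : Subgroup G} (hF : IsElementaryAbelian 2 F) (hFO : F ≤ QQ O N i)
    (hm : MinOff (E i j) F) (hN : ¬ F ≤ centralizer (N j : Set G)) : ¬ F ≤ centralizer (X i j : Set G) :=
  fun hc => hN (h.kl i j hij F hF hFO hm hc)

/-- `cj g` preserves the minimal offenders in `Q i` which centralise `N j` -/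
theorem cj_cent {i j : ι} (hij : i ≠ j) {F : Subgroup G} (hF : IsElementaryAbelian 2 F) (hFQ : F ≤ QQ O N i)
    (hm : MinOff (E i j) F) (hN : F ≤ centralizer (N j : Set G)) {g : G} (hg : g ∈ L i) :
    IsElementaryAbelian 2 (cj g F) ∧ cj g F ≤ QQ O N i ∧ MinOff (E i j) (cj g F) ∧
      cj g F ≤ centralizer (N j : Set G) := by
  have h1 : IsElementaryAbelian 2 (cj g F) := isElementaryAbelian_cj g hF
  have h2 : cj g F ≤ QQ O N i := by
    have := cj_mono g hFQ
    rwa [cj_eq_of_mem_normalizer (h.nQ i hg)] at this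
  have h3 : MinOff (E i j) (cj g F) := minOff_cj hm (h.LE i j hij hg)
  refine ⟨h1, h2, h3, ?_⟩
  by_contra hc
  apply h.star hij h1 h2 h3 hc
  have h4 : F ≤ centralizer (X i j : Set G) := hN.trans (centralizer_le (h.XN i j hij))
  have h5 := cj_mono g h4
  rwa [cj_centralizer, cj_eq_of_mem_normalizer (h.nX i j hij hg)] at h5

/-- (2) -/
theorem empty {i j : ι} (hij : i ≠ j) {F : Subgroup G} (hF : IsElementaryAbelian 2 F) (hFO : F ≤ O)
    (hm : MinOff (E i j) F) (hi : F ≤ centralizer (N i : Set G)) (hj : F ≤ centralizer (N j : Set G)) : False := by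
  set s : Set (Subgroup G) := {F | IsElementaryAbelian 2 F ∧ F ≤ O ∧ MinOff (E i j) F ∧
    F ≤ centralizer (N i : Set G) ∧ F ≤ centralizer (N j : Set G)} with hs
  have hFs : F ∈ s := ⟨hF, hFO, hm, hi, hj⟩
  have hle : sSup s ≤ O := sSup_le fun B hB => hB.2.1
  have hL : ∀ {i j : ι}, i ≠ j → ∀ g ∈ L i, ∀ A : Subgroup G, (IsElementaryAbelian 2 A ∧ A ≤ O ∧ MinOff (E i j) A ∧
      A ≤ centralizer (N i : Set G) ∧ A ≤ centralizer (N j : Set G)) → (IsElementaryAbelian 2 (cj g A) ∧ cj g A ≤ O ∧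
        MinOff (E i j) (cj g A) ∧ cj g A ≤ centralizer (N i : Set G) ∧ cj g A ≤ centralizer (N j : Set G)) := by
    intro i j hij g hg A hA
    obtain ⟨h1, h2, h3, h4⟩ := h.cj_cent hij hA.1 (le_inf hA.2.1 hA.2.2.2.1) hA.2.2.1 hA.2.2.2.2 hg
    exact ⟨h1, h2.trans inf_le_left, h3, h2.trans inf_le_right, h4⟩
  have h1 : D ≤ normalizer ((sSup s : Subgroup G) : Set G) := by
    refine le_normalizer_sSup fun g hg A hA => ?_
    refine ⟨isElementaryAbelian_cj g hA.1, ?_, minOff_cj hA.2.2.1 (h.DE i j hij hg), ?_, ?_⟩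
    · have := cj_mono g hA.2.1
      rwa [cj_eq_of_mem_normalizer (h.nO hg)] at this
    · have := cj_mono g hA.2.2.2.1
      rwa [cj_centralizer, cj_eq_of_mem_normalizer (h.nN i hg)] at this
    · have := cj_mono g hA.2.2.2.2
      rwa [cj_centralizer, cj_eq_of_mem_normalizer (h.nN j hg)] at this
  have h2 : L i ≤ normalizer ((sSup s : Subgroup G) : Set G) := le_normalizer_sSup fun g hg A hA => hL hij g hg A hA
  have h3 : L j ≤ normalizer ((sSup s : Subgroup G) : Set G) := by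
    refine le_normalizer_sSup fun g hg A hA => ?_
    have hA' := hA.2.2.1
    rw [h.symm i j] at hA'
    obtain ⟨e1, e2, e3, e4, e5⟩ := hL hij.symm g hg A ⟨hA.1, hA.2.1, hA', hA.2.2.2.2, hA.2.2.2.1⟩
    rw [← h.symm i j] at e3
    exact ⟨e1, e2, e3, e5, e4⟩
  have hcn : ∀ {U : Subgroup G}, normalizer (U : Set G) ≤
      normalizer ((centralizer (U : Set G) : Subgroup G) : Set G) := by
    intro U
    refine le_normalizer_of_cj fun g hg => ?_
    rw [cj_centralizer, cj_eq_of_mem_normalizer hg]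
  have h4 := h.minE i j hij (centralizer ((sSup s : Subgroup G) : Set G))
    (fun l => comm_symm (hle.trans (h.Oz l))) (h1.trans hcn) (h2.trans hcn) (h3.trans hcn)
  exact hm.mov ((le_sSup hFs).trans (comm_symm h4))

/-- (3) -/
theorem flat {i j : ι} (hij : i ≠ j) {A : Subgroup G} (hA : A ∈ AA (QQ O N i)) :
    A ⊓ centralizer (X i j : Set G) ≤ centralizer (N j : Set G) := by
  by_contra hc
  have hAO := h.AA_le hA
  have hXE : X i j ≤ E i j := (h.XN i j hij).trans (h.NE i j hij)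
  have h1 : Offd (E i j) (A ⊓ centralizer (X i j : Set G)) := by
    refine offd_inf (hAO.2.1.trans (h.OD.trans (h.DE i j hij))) (le_of_mem (h.eE i j hij) (h.EO i j hij) hAO) hXE
      (h.noX i j hij A hAO.1 hAO.2.1) fun hc' => hc (hc'.trans (centralizer_le (h.NE i j hij)))
  obtain ⟨F, hFB, hF⟩ := h1.exists_min
  have hFA : F ≤ A := hFB.trans inf_le_left
  have hFe : IsElementaryAbelian 2 F := eab_mono hAO.1 hFA
  have hFO : F ≤ O := hFA.trans hAO.2.1
  have h2 := h.kl i j hij F hFe (hFA.trans hA.2.1) hF (hFB.trans inf_le_right)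
  exact h.empty hij hFe hFO hF (hFA.trans (hA.2.1.trans inf_le_right)) h2

/-- **THEOREM EXN.** -/
theorem exn [Finite ι] (hO : ∃ x ∈ O, x ≠ 1 ∧ x ^ 2 = 1) : ∃ U : Subgroup G, U ≠ ⊥ ∧ U ≤ O ∧
    D ≤ normalizer (U : Set G) ∧ ∀ i, L i ≤ normalizer (U : Set G) :=
  h.toSit.exn hO fun _ _ hij _ hA => h.flat hij hA

end BigW

end Cfsg.Agent.Omega.EXN

end

-- merged: Cfsg.Agent.Mrg.Omega.KL.StarM.Pre
section

section


/-!
# `PreM → InpM` (LEMMA MOV, bb #24831)

`C` acts on `M`, not necessarily faithfully, `A` is exact modulo the kernel: `C / C_C(M)` and an atom in the image of `A`.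
-/

set_option autoImplicit false
set_option linter.unusedSectionVars false

namespace Cfsg.Agent.Omega.KL.StarM

open Subgroup Cfsg Cfsg.Agent.Omega.MinPar
open Cfsg.Agent.ZN (o2 zc)
open Cfsg.Agent.ClassTwoFusion.Quad Cfsg.Agent.Omega.ML.MinFrame
open Cfsg.Agent.MinSimple.MinParabolic (IsMinPar)
open Cfsg.Agent.MinSimple.VModule (le_o2 o2_isPGroup o2_le le_normalizer_o2)
open Cfsg.Agent.Omega.KL.Quo (norm_lift)

universe u v

variable {C : Type u} [Group C] [Finite C] {M : Type v} [Group M] [Finite M] [MulDistribMulAction C M]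
  {T A : Subgroup C} {Z Y Y' : Subgroup M}

theorem PreM.inp (h : PreM T A Z Y Y') :
    ∃ (H : Type u) (_ : Group H) (_ : Finite H) (_ : MulDistribMulAction H M) (T' A' : Subgroup H),
      InpM T' A' Z Y Y' := by
  have htriv : ∀ k ∈ fxr C (⊤ : Subgroup M), ∀ m : M, k • m = m := fun k hk m => hk m (mem_top m)
  have hN : (fxr C (⊤ : Subgroup M)).Normal := fxr_normal fun _ _ _ => mem_top _
  set N := fxr C (⊤ : Subgroup M) with hNdef
  let _ : MulDistribMulAction (C ⧸ N) M := quoAct N htriv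
  let π : C →* C ⧸ N := QuotientGroup.mk' N
  have hπ : Function.Surjective π := QuotientGroup.mk'_surjective N
  have he : ∀ (g : C) (v : M), π g • v = g • v := fun _ _ => rfl
  have hker : ∀ k : C, (∀ v : M, k • v = v) → π k = 1 := fun k hk =>
    (QuotientGroup.eq_one_iff k).2 fun v _ => hk v
  have hker2 : ∀ k : C, π k = 1 → ∀ v : M, k • v = v := fun k hk v =>
    (QuotientGroup.eq_one_iff k).1 hk v (mem_top v)
  -- stabilisers
  have hfx : ∀ W : Subgroup M, (fxr C W).map π = fxr (C ⧸ N) W := by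
    intro W
    ext g
    constructor
    · rintro ⟨c, hc, rfl⟩
      exact hc
    · intro hg
      obtain ⟨c, rfl⟩ := hπ g
      exact ⟨c, hg, rfl⟩
  have ho2 : ∀ S : Subgroup C, A ≤ o2 S → A.map π ≤ o2 (S.map π) := by
    intro S hS
    refine (map_mono hS).trans (le_o2 (map_mono (o2_le _)) ((o2_isPGroup _).map π) ?_)
    exact (map_mono (le_normalizer_o2 _)).trans (le_normalizer_map π)
  have hx : A.map π ≤ o2 (fxr (C ⧸ N) Z) := by
    rw [← hfx]
    exact ho2 _ h.AZ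
  have hy : A.map π ≤ o2 (fxr (C ⧸ N) Y) := by
    rw [← hfx]
    exact ho2 _ h.AY
  have hsyl : ¬ 2 ∣ (T.map π).index := fun h2 => h.syl (h2.trans (index_map_dvd T hπ))
  have hKH : IsKGroup (C ⧸ N) := ML.Final.sec_KG.quo C h.KC N
  have hel : ∀ a ∈ A.map π, a * a = 1 := by
    rintro _ ⟨a, ha, rfl⟩
    rw [← map_mul, h.el a ha, map_one]
  -- `A.map π` is faithful on `⟨Z^C⟩`
  have hfa : ∀ g ∈ A.map π, (∀ (c : C ⧸ N), ∀ z ∈ Z, g • c • z = c • z) → g = 1 := by
    rintro _ ⟨a, ha, rfl⟩ hg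
    exact hker a (h.nk a ha fun c z hz => hg (π c) z hz)
  -- (NO)
  have hcv : ∀ B : Subgroup C, cv M (B.map π : Set (C ⧸ N)) = cv M (B : Set C) := by
    intro B
    ext v
    constructor
    · exact fun hv a ha => hv _ ⟨a, ha, rfl⟩
    · rintro hv _ ⟨a, ha, rfl⟩
      exact hv a ha
  have hcard : ∀ B : Subgroup C, Nat.card (B.map π) = N.relIndex B := by
    intro B
    rw [← relIndex_bot_left, ← relIndex_comap, MonoidHom.comap_bot, QuotientGroup.ker_mk']
  have hno : ∀ B : Subgroup (C ⧸ N), B ≤ A.map π → Nat.card B ≤ (cv M (B : Set (C ⧸ N))).index := by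
    intro B hB
    have e : (A ⊓ B.comap π).map π = B := by
      apply le_antisymm
      · rintro _ ⟨a, ha, rfl⟩
        exact ha.2
      · intro g hg
        obtain ⟨a, ha, rfl⟩ := hB hg
        exact ⟨a, ⟨ha, hg⟩, rfl⟩
    rw [← e, hcv, hcard]
    exact h.no _ inf_le_left
  have hex : (cv M (A.map π : Set (C ⧸ N))).index = Nat.card (A.map π) := by
    refine le_antisymm ?_ (hno _ le_rfl)
    rw [hcv, hcard]
    exact h.le
  have hA1 : A.map π ≠ ⊥ := by
    intro h1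
    obtain ⟨a, ha, m, hm⟩ := h.mv
    apply hm
    refine hker2 a ?_ m
    rw [← mem_bot, ← h1]
    exact ⟨a, ha, rfl⟩
  -- an atom
  obtain ⟨B, ⟨hBA, hB1, hBe⟩, hmin⟩ : ∃ B : Subgroup (C ⧸ N), (B ≤ A.map π ∧ B ≠ ⊥ ∧
      (cv M (B : Set (C ⧸ N))).index = Nat.card B) ∧ ∀ B' : Subgroup (C ⧸ N), (B' ≤ A.map π ∧ B' ≠ ⊥ ∧
      (cv M (B' : Set (C ⧸ N))).index = Nat.card B') → B' ≤ B → B' = B := by
    obtain ⟨B, hB⟩ := (Set.toFinite {B : Subgroup (C ⧸ N) | B ≤ A.map π ∧ B ≠ ⊥ ∧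
      (cv M (B : Set (C ⧸ N))).index = Nat.card B}).exists_minimal ⟨A.map π, le_rfl, hA1, hex⟩
    exact ⟨B, hB.prop, fun B' hB' hle => le_antisymm hle (hB.le_of_le hB' hle)⟩
  have htZ : ∀ z ∈ Z, ∀ t ∈ T.map π, t • z = z := by
    rintro z hz _ ⟨t, ht, rfl⟩
    exact h.tZ z hz t ht
  refine ⟨C ⧸ N, inferInstance, inferInstance, inferInstance, T.map π, B, ?_⟩
  refine ⟨h.sq, h.two.map π, hsyl, htZ, ?_, ?_, ?_, h.ZY', h.dis, ?_, ?_, fun a ha => hel a (hBA ha), hBe, ?_, ?_,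
    hBA.trans hx, hBA.trans hy, hKH⟩
  · intro g hg z hz
    obtain ⟨t, ht, n, hn, rfl⟩ := norm_lift π hπ h.two h.syl hg
    rw [he, mul_smul]
    exact h.NZ t (le_normalizer ht) _ (h.NZ n hn z hz)
  · intro g hg z hz
    obtain ⟨t, ht, n, hn, rfl⟩ := norm_lift π hπ h.two h.syl hg
    rw [he, mul_smul]
    exact h.NY t (le_normalizer ht) _ (h.NY n hn z hz)
  · intro g hg z hz
    obtain ⟨t, ht, n, hn, rfl⟩ := norm_lift π hπ h.two h.syl hg
    rw [he, mul_smul]
    exact h.NY' t (le_normalizer ht) _ (h.NY' n hn z hz)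
  · intro w hw hwT g
    obtain ⟨c, rfl⟩ := hπ g
    exact h.cY w hw (fun t ht => hwT (π t) ⟨t, ht, rfl⟩) c
  · intro P hP
    obtain ⟨R, hR, rfl⟩ := Quo.exists_minPar π hπ hP
    rcases h.par R hR with h1 | h1
    · left
      rintro z hz _ ⟨r, hr, rfl⟩
      exact h1 z hz r hr
    · right
      constructor
      · rintro _ ⟨r, hr, rfl⟩ w hw
        exact h1.1 r hr w hw
      · rintro _ ⟨r, hr, rfl⟩ w hw
        exact h1.2 r hr w hw
  · intro B' hB' hB1' hne
    refine lt_of_le_of_ne (hno B' (hB'.trans hBA)) fun h1 => hne ?_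
    exact hmin B' ⟨hB'.trans hBA, hB1', h1.symm⟩ hB'
  · -- `O₂(H)` centralises `⟨Z^H⟩`
    intro hle
    apply hB1
    rw [eq_bot_iff]
    intro b hb
    rw [mem_bot]
    refine hfa b (hBA hb) fun c z hz => ?_
    have h1 : c⁻¹ * b * c ∈ o2 (⊤ : Subgroup (C ⧸ N)) := by
      have := (mem_normalizer_iff.1 (le_normalizer_o2 (⊤ : Subgroup (C ⧸ N)) (mem_top c⁻¹)) b).1 (hle hb)
      rwa [inv_inv] at this
    have h2 : o2 (⊤ : Subgroup (C ⧸ N)) ≤ T.map π :=
      Cfsg.Agent.MinSimple.VModule.o2_le_of_sylow (h.two.map π) (by rwa [relIndex_top_right])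
    have h3 := htZ z hz _ (h2 h1)
    rw [mul_smul, mul_smul, inv_smul_eq_iff] at h3
    exact h3

end Cfsg.Agent.Omega.KL.StarM

end

section


/-!
# NO-3L, box R: at least three types, all K2's in the `Y_j` allowed (#24089 with LEMMA MOV #24831)

* `GM C T A M Z Y Y'` : the input of LEMMA MOV on the level of subgroups of `G` (`C` acts on `M` by conjugation);
  `GM.preM`, **`GM.false_of`** (with `NoInpM`);
* **`TypedM.false_of`** : `TypedM S Z V` is impossible (with (ML) and `NoInpM`).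
-/

set_option autoImplicit false
set_option linter.unusedSectionVars false

namespace Cfsg.Agent.Omega.NOThreeL.RWide

open Subgroup Cfsg Cfsg.Agent.ZN Cfsg.Agent.Omega.MinPar Cfsg.Agent.Omega.Frame Cfsg.Agent.Omega.FrameNOFF
open Cfsg.Agent.ClassTwoFusion.Quad Cfsg.Agent.Omega.ML.MinFrame
open Cfsg.Agent.Omega.Node.NO3L
open Cfsg.Agent.ZN.ChoiceBase (cj cj_mono cj_inf cj_centralizer cj_eq_of_mem_normalizer mem_cj mem_normalizer_iff_cj
  cj_cj_inv cj_inv_cj)
open Cfsg.Agent.Omega.NoFF.Basic (comm_symm comm_mono)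
open Cfsg.Agent.Omega.NO3S.EThree Cfsg.Agent.Omega.NO3S.EThree.ExactA
open Cfsg.Agent.Omega.EK3.Rank (NoOn)
open Cfsg.Agent.Omega.ML.Final (MLK)
open Cfsg.Agent.MinSimple.MinParabolic (IsMinPar)
open Cfsg.Agent.Omega.EXN
open Cfsg.Agent.Omega.KL.TwoZ (actX)
open Cfsg.Agent.Omega.KL (Plug.sub_o2 Plug.minPar_map)
open Cfsg.Agent.Omega.KL.StarM (PreM NoInpM)

universe u v

/-- the input of LEMMA MOV on the level of subgroups of `G` -/
structure GM {G : Type u} [Group G] (C T A M Z Y Y' : Subgroup G) : Prop where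
  CM : C ≤ normalizer (M : Set G)
  sqM : ∀ m ∈ M, m ^ 2 = 1
  TC : T ≤ C
  two : IsPGroup 2 T
  syl : ¬ 2 ∣ T.relIndex C
  YM : Y ≤ M
  YM' : Y' ≤ M
  TZ : T ≤ centralizer (Z : Set G)
  NZ : C ⊓ normalizer (T : Set G) ≤ normalizer (Z : Set G)
  NY : C ⊓ normalizer (T : Set G) ≤ normalizer (Y : Set G)
  NY' : C ⊓ normalizer (T : Set G) ≤ normalizer (Y' : Set G)
  ZY' : Z ≤ Y'
  dis : Y ⊓ Y' = ⊥
  cY : C ≤ centralizer ((Y ⊓ centralizer (T : Set G) : Subgroup G) : Set G)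
  par : ∀ P : Subgroup G, IsMinPar T P → P ≤ C → P ≤ centralizer (Z : Set G) ∨
    (P ≤ normalizer (Y : Set G) ∧ P ≤ normalizer (Y' : Set G))
  AT : A ≤ T
  sqA : ∀ a ∈ A, a ^ 2 = 1
  AZ : A ≤ o2 (C ⊓ centralizer (Z : Set G))
  AY : A ≤ o2 (C ⊓ centralizer (Y : Set G))
  mv : ¬ A ≤ centralizer (M : Set G)
  ker : A ⊓ centralizer (XS Z C : Set G) ≤ centralizer (M : Set G)
  le : (centralizer (A : Set G)).relIndex M ≤ (centralizer (M : Set G)).relIndex A
  no : ∀ B : Subgroup G, B ≤ A → (centralizer (M : Set G)).relIndex B ≤ (centralizer (B : Set G)).relIndex M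
  K : IsKGroup C

namespace GM

variable {G : Type u} [Group G] {C T A M Z Y Y' : Subgroup G}

theorem preM [Finite G] (h : GM C T A M Z Y Y') :
    letI := actX h.CM
    PreM (T.subgroupOf C) (A.subgroupOf C) (Z.subgroupOf M) (Y.subgroupOf M) (Y'.subgroupOf M) := by
  let := actX h.CM
  change PreM (T.subgroupOf C) (A.subgroupOf C) (Z.subgroupOf M) (Y.subgroupOf M) (Y'.subgroupOf M)
  have hAC : A ≤ C := h.AT.trans h.TC
  have hZM : Z ≤ M := h.ZY'.trans h.YM'
  have hsm : ∀ (c : C) (m : M), ((c • m : M) : G) = c * m * (c : G)⁻¹ := fun _ _ => rfl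
  have hfix : ∀ (c : C) (m : M), c • m = m ↔ (m : G) * c = c * m := by
    intro c m
    rw [Subtype.ext_iff, hsm, mul_inv_eq_iff_eq_mul, eq_comm]
  have hnrm : ∀ (Y : Subgroup G) (c : C), (c : G) ∈ normalizer (Y : Set G) → ∀ m ∈ Y.subgroupOf M,
      c • m ∈ Y.subgroupOf M := by
    intro Y c hc m hm
    refine mem_subgroupOf.2 ?_
    rw [hsm]
    exact (mem_normalizer_iff.1 hc _).1 (mem_subgroupOf.1 hm)
  have hfxr : ∀ Y : Subgroup G, Y ≤ M → fxr C (Y.subgroupOf M) = (centralizer (Y : Set G)).subgroupOf C := by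
    intro Y hY
    ext c
    rw [mem_subgroupOf, mem_centralizer_iff]
    constructor
    · intro h y hy
      exact (hfix c ⟨y, hY hy⟩).1 (h _ (mem_subgroupOf.2 hy))
    · intro h y hy
      exact (hfix c y).2 (h _ (mem_subgroupOf.1 hy))
  have hfxt : fxr C (⊤ : Subgroup M) = (centralizer (M : Set G)).subgroupOf C := by
    rw [← hfxr M le_rfl, subgroupOf_self]
  have hcv : ∀ B : Subgroup G, B ≤ C → cv M (B.subgroupOf C : Set C) = (centralizer (B : Set G)).subgroupOf M := by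
    intro B hB
    ext m
    rw [mem_subgroupOf, mem_centralizer_iff]
    constructor
    · intro h b hb
      exact ((hfix ⟨b, hB hb⟩ m).1 (h _ (mem_subgroupOf.2 hb))).symm
    · intro h b hb
      exact (hfix b m).2 (h b (mem_subgroupOf.1 hb)).symm
  have hnT : ∀ g : C, g ∈ normalizer ((T.subgroupOf C : Subgroup C) : Set C) → (g : G) ∈ C ⊓ normalizer (T : Set G) := by
    intro g hg
    refine mem_inf.2 ⟨g.2, ?_⟩
    rw [mem_normalizer_iff]
    intro t
    constructor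
    · intro ht
      exact (mem_normalizer_iff.1 hg ⟨t, h.TC ht⟩).1 ht
    · intro ht
      have h1 : (g : G)⁻¹ * ((g : G) * t * (g : G)⁻¹) * (g : G)⁻¹⁻¹ ∈ T :=
        (mem_normalizer_iff.1 (inv_mem hg) ⟨(g : G) * t * (g : G)⁻¹, h.TC ht⟩).1 ht
      have e : (g : G)⁻¹ * ((g : G) * t * (g : G)⁻¹) * (g : G)⁻¹⁻¹ = t := by group
      rwa [e] at h1
  refine ⟨?_, ?_, h.syl, ?_, ?_, ?_, ?_, ?_, ?_, ?_, ?_, ?_, ?_, ?_, ?_, ?_, ?_, ?_, h.K⟩
  · intro m
    apply Subtype.ext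
    have h1 := h.sqM m m.2
    rw [pow_two] at h1
    exact h1
  · exact h.two.comap_of_injective C.subtype C.subtype_injective
  · intro z hz t ht
    rw [hfix]
    exact mem_centralizer_iff.1 (h.TZ (mem_subgroupOf.1 ht)) z (mem_subgroupOf.1 hz)
  · exact fun g hg => hnrm _ g (h.NZ (hnT g hg))
  · exact fun g hg => hnrm _ g (h.NY (hnT g hg))
  · exact fun g hg => hnrm _ g (h.NY' (hnT g hg))
  · exact fun z hz => mem_subgroupOf.2 (h.ZY' (mem_subgroupOf.1 hz))
  · rw [Subgroup.eq_bot_iff_forall]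
    rintro x ⟨h1, h2⟩
    have h3 : (x : G) ∈ Y ⊓ Y' := ⟨mem_subgroupOf.1 h1, mem_subgroupOf.1 h2⟩
    rw [h.dis, mem_bot] at h3
    exact Subtype.ext h3
  · intro w hw hwT g
    rw [hfix]
    refine mem_centralizer_iff.1 (h.cY g.2) w ⟨mem_subgroupOf.1 hw, ?_⟩
    change (w : G) ∈ centralizer (T : Set G)
    rw [mem_centralizer_iff]
    intro t ht
    exact ((hfix ⟨t, h.TC ht⟩ w).1 (hwT _ (mem_subgroupOf.2 ht))).symm
  · intro P hP
    rcases h.par _ (Plug.minPar_map h.TC hP) (map_subtype_le P) with h1 | h1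
    · left
      intro z hz p hp
      rw [hfix]
      exact mem_centralizer_iff.1 (h1 (mem_map_of_mem C.subtype hp)) z (mem_subgroupOf.1 hz)
    · right
      exact ⟨fun p hp => hnrm _ p (h1.1 (mem_map_of_mem C.subtype hp)),
        fun p hp => hnrm _ p (h1.2 (mem_map_of_mem C.subtype hp))⟩
  · intro a ha
    apply Subtype.ext
    have h1 := h.sqA a (mem_subgroupOf.1 ha)
    rw [pow_two] at h1
    exact h1
  · refine Plug.sub_o2 (S := C ⊓ centralizer (Z : Set G)) (fun c => ?_) h.AZ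
    rw [hfxr _ hZM, mem_subgroupOf]
    exact ⟨fun h1 => ⟨c.2, h1⟩, fun h1 => h1.2⟩
  · refine Plug.sub_o2 (S := C ⊓ centralizer (Y : Set G)) (fun c => ?_) h.AY
    rw [hfxr _ h.YM, mem_subgroupOf]
    exact ⟨fun h1 => ⟨c.2, h1⟩, fun h1 => h1.2⟩
  · intro a ha hc m
    rw [hfix]
    have h1 : (a : G) ∈ centralizer (XS Z C : Set G) := by
      have h2 : XS Z C ≤ centralizer ({(a : G)} : Set G) := by
        refine XS_le fun c hc' z hz => ?_
        rw [mem_centralizer_iff]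
        rintro _ rfl
        have h3 := (hfix a _).1 (hc ⟨c, hc'⟩ ⟨z, hZM hz⟩ (mem_subgroupOf.2 hz))
        exact h3.symm
      rw [mem_centralizer_iff]
      intro x hx
      exact (mem_centralizer_iff.1 (h2 hx) a rfl).symm
    exact mem_centralizer_iff.1 (h.ker ⟨mem_subgroupOf.1 ha, h1⟩) m m.2
  · by_contra hcon
    push Not at hcon
    apply h.mv
    intro a ha
    rw [mem_centralizer_iff]
    intro m hm
    exact (hfix ⟨a, hAC ha⟩ ⟨m, hm⟩).1 (hcon _ (mem_subgroupOf.2 ha) ⟨m, hm⟩)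
  · intro B hB
    set B' : Subgroup G := B.map C.subtype with hB'
    have hBB : B'.subgroupOf C = B := comap_map_eq_self_of_injective C.subtype_injective B
    have hB'A : B' ≤ A := by
      rintro _ ⟨b, hb, rfl⟩
      exact mem_subgroupOf.1 (hB hb)
    have h1 := h.no B' hB'A
    rw [hfxt, ← hBB, hcv B' (hB'A.trans hAC), relIndex_subgroupOf (hB'A.trans hAC)]
    exact h1
  · rw [hfxt, hcv A hAC, relIndex_subgroupOf hAC]
    exact h.le

/-- **KL*(q) with all K2's** on the level of subgroups -/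
theorem false_of [Finite G] (hN : NoInpM.{u, u}) (h : GM C T A M Z Y Y') : False := by
  let := actX h.CM
  obtain ⟨H, _, _, _, T', A', i⟩ := h.preM.inp
  exact hN H M T' A' _ _ _ i

end GM

namespace TypedM

open TypB

variable {G : Type u} [Group G] [Finite G] {S : Sylow 2 G} {ι : Type v} {Z V : ι → Subgroup G}
  (T : TypedM (S : Subgroup G) Z V) (hc : IsCharacteristicTwoType G) (ml : MLK.{u, u})
  (kg : ∀ R : Subgroup G, IsLoc (S : Subgroup G) R → IsKGroup R) (hS : (S : Subgroup G) ≠ ⊥)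
include T hc ml kg hS

theorem kl (hE : NoInpM.{u, u}) {i j : ι} (hij : i ≠ j) {F : Subgroup G} (hF : IsElementaryAbelian 2 F)
    (hFQ : F ≤ o2 (CZ (S : Subgroup G)) ⊓ centralizer (NN Z i : Set G))
    (hm : MinOff (zl (S : Subgroup G) (WW (S : Subgroup G) Z i j)) F)
    (hX : F ≤ centralizer (XX Z V i j : Set G)) : F ≤ centralizer (NN Z j : Set G) := by
  by_contra hN
  have Tb := T.typB
  have hFO : F ≤ o2 (CZ (S : Subgroup G)) := hFQ.trans inf_le_left
  have hFV : F ≤ centralizer (V i : Set G) := (hFQ.trans inf_le_right).trans (centralizer_le (T.VX i))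
  set E := zl (S : Subgroup G) (WW (S : Subgroup G) Z i j) with hEd
  have hYW : YY Z j ≤ WW (S : Subgroup G) Z i j := (Tb.YY_le j).trans (sup_le_sup_left le_sup_right _)
  have hYWi : YY Z i ≤ WW (S : Subgroup G) Z i j := (Tb.YY_le i).trans (sup_le_sup_left le_sup_left _)
  have hNE : NN Z j ≤ E := Tb.XS_le_zl hYW
  have hNEi : NN Z i ≤ E := Tb.XS_le_zl hYWi
  have hWE : WW (S : Subgroup G) Z i j ≤ normalizer (E : Set G) := MinSimple.VModule.le_normalizer_zl _ _
  have hEe : IsElementaryAbelian 2 E := FFThm.elem_zl hc S (Tb.locW i j)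
  have hsit := Tb.sit hc ml kg hS
  obtain ⟨h1, h2, h3, h4, h5⟩ := exact_of hF hFO hm hNE (hsit.no j) hN
  have hFS : F ≤ (S : Subgroup G) := hFO.trans ((isLoc_centralizer_zc S hS).o2_le S)
  refine GM.false_of (C := YY Z j) (T := (S : Subgroup G)) (A := F) (M := E) (Z := Z j) (Y := V i) (Y' := V j) hE
    { CM := hYW.trans hWE
      sqM := hEe.2
      TC := Tb.S_le j
      two := S.isPGroup'
      syl := MinSimple.Basic.not_dvd_relIndex S (Tb.S_le j)
      YM := (T.VX i).trans hNEi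
      YM' := (T.VX j).trans hNE
      TZ := Tb.ZC j
      NZ := fun n hn => (T.nrm j n hn.2 hn.1).1
      NY := fun n hn => (T.nrm j n hn.2 hn.1).2 i
      NY' := fun n hn => (T.nrm j n hn.2 hn.1).2 j
      ZY' := T.ZV j
      dis := T.dis i j hij
      cY := ?_
      par := ?_
      AT := hFS
      sqA := hF.2
      AZ := ?_
      AY := ?_
      mv := hm.mov
      ker := h1
      le := hm.le
      no := ?_
      K := kg _ (Tb.locY j) }
  · -- the `S`-fixed points of `V_i`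
    refine (YY_le_cent hij).trans (centralizer_le ?_)
    intro x hx
    refine T.cV i ⟨hx.1, MinSimple.VModule.mem_zc.2 ⟨?_, ?_, ?_⟩⟩
    · exact ((T.VX i).trans ((Tb.NN_le_O hc i).trans ((isLoc_centralizer_zc S hS).o2_le S))) hx.1
    · intro s hs
      exact mem_centralizer_iff.1 hx.2 s hs
    · exact hEe.2 x (hNEi (T.VX i hx.1))
  · intro P hP hPY
    have hPp := (Tb.locY j).isPar S hP hPY
    by_cases h : IsParS (S : Subgroup G) P
    · exact Or.inr ⟨T.par j P h hPY i, T.par j P h hPY j⟩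
    · exact Or.inl ((par_le_CZ S hPp h).trans (centralizer_le (T.le j)))
  · -- `C_{Y_j}(Z_j) = D`
    have e : YY Z j ⊓ centralizer (Z j : Set G) = CZ (S : Subgroup G) := by
      apply le_antisymm
      · refine Tb.le_CZ_of fun l => ?_
        by_cases hl : l = j
        · subst hl
          exact inf_le_right
        · exact inf_le_left.trans (YY_le_cent hl)
      · exact le_inf (Tb.CZ_le j) (centralizer_le (T.le j))
    rw [e]
    exact hFO
  · -- `O₂(C_{Y_j}(V_i) S) ∩ C(V_i) ≤ O₂(C_{Y_j}(V_i))`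
    set K := YY Z j ⊓ centralizer (V i : Set G) with hK
    have hl : F ≤ o2 (K ⊔ (S : Subgroup G)) := by
      refine le_o2_of_comm hFO (hFS.trans le_sup_right) ?_
      refine comm_symm ((Tb.zl_le_sup inf_le_left (Tb.S_norm_H i j)).trans (sup_le (comm_symm hX) ?_))
      exact comm_symm (hFO.trans (MinSimple.VModule.o2_le _))
    have hFK : F ≤ K := le_inf (hFS.trans (Tb.S_le j)) hFV
    refine (le_inf hl hFK).trans (MinSimple.VModule.le_o2 inf_le_right
      ((MinSimple.VModule.o2_isPGroup _).to_le inf_le_left) ?_)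
    intro g hg
    rw [mem_normalizer_iff_cj, cj_inf,
      cj_eq_of_mem_normalizer (MinSimple.VModule.le_normalizer_o2 _ ((le_sup_left : K ≤ K ⊔ (S : Subgroup G)) hg)),
      cj_eq_of_mem_normalizer (le_normalizer hg)]
  · intro B hB
    have hBO := hFO.trans' hB
    have h6 := hsit.no j B (eab_mono hF hB) hBO
    have h7 : (centralizer (E : Set G)).relIndex B ≤ (centralizer (NN Z j : Set G)).relIndex B := by
      rw [← inf_relIndex_left B (centralizer (NN Z j : Set G))]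
      exact Sigma.relIndex_le_left ((inf_le_inf_right _ hB).trans h1)
    exact h7.trans (h6.trans (Sigma.relIndex_le_right hNE))

/-- **`EXN.BigW`** -/
theorem big (hE : NoInpM.{u, u}) : BigW (CZ (S : Subgroup G)) (o2 (CZ (S : Subgroup G))) Z
    (LL (S : Subgroup G) Z) (NN Z) (XX Z V) (fun i j => zl (S : Subgroup G) (WW (S : Subgroup G) Z i j)) where
  toSit := T.typB.sit hc ml kg hS
  eE i j _ := FFThm.elem_zl hc S (T.typB.locW i j)
  EO i j _ := ((T.typB.longW i j).zl_le_o2 hc S).trans ((T.typB.longW i j).o2_le S)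
  NE i j _ := T.typB.XS_le_zl ((T.typB.YY_le j).trans (sup_le_sup_left le_sup_right _))
  symm i j := by rw [WW, WW, sup_comm (LL (S : Subgroup G) Z i)]
  DE i j _ := (le_sup_left : _ ≤ WW (S : Subgroup G) Z i j).trans (MinSimple.VModule.le_normalizer_zl _ _)
  LE i j _ := ((le_sup_left : _ ≤ LL (S : Subgroup G) Z i ⊔ LL (S : Subgroup G) Z j).trans
    (le_sup_right : _ ≤ WW (S : Subgroup G) Z i j)).trans (MinSimple.VModule.le_normalizer_zl _ _)
  minE i j _ U h1 h2 h3 h4 := MinSimple.VModule.zl_le (T.sup.trans (iSup_le h1)) (sup_le h2 (sup_le h3 h4))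
  kl i j hij F hF hFQ hm hX := T.kl hc ml kg hS hE hij hF hFQ hm hX

/-- **At least three types are impossible.** -/
theorem false_of [Finite ι] (hE : NoInpM.{u, u}) : False := by
  have hz := MinSimple.Basic.zc_ne_bot S.isPGroup' hS
  obtain ⟨⟨x, hx⟩, hx1⟩ := (Subgroup.ne_bot_iff_exists_ne_one).1 hz
  have hx1' : x ≠ 1 := fun h => hx1 (Subtype.ext h)
  have hzO : zc (S : Subgroup G) ≤ o2 (CZ (S : Subgroup G)) := by
    have hL : IsLong (S : Subgroup G) (CZ (S : Subgroup G)) := ⟨isLoc_centralizer_zc S hS, le_rfl⟩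
    exact zc_le_zl.trans (hL.zl_le_o2 hc S)
  obtain ⟨U, hU1, hUO, hUD, hUL⟩ := (T.big hc ml kg hS hE).exn ⟨x, hzO hx, hx1', MinSimple.VModule.zc_sq _ x hx⟩
  exact hU1 (T.non U ((MinSimple.VModule.o2_isPGroup _).to_le hUO) fun j =>
    (T.typB.YY_le j).trans (sup_le hUD (hUL j)))

end TypedM

end Cfsg.Agent.Omega.NOThreeL.RWide

end

end
end

-- part: Mrg/Omega/NOThreeL/RRed/Blk/TypesLine
section
prune_inst 0x80000000002200000000000020000000000000000003000180400200024000002001260000200000180008000000006000d400100008000000000000000000000022000281080000000000001800000000000000000000000000000000000000000000000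
set_option linter.all false
open scoped Cfsg.Agent.FastGrp

-- part: Mrg/Omega/NOThreeL/RRed/NS/Inst
section
/-!
# THEOREM NS (#24102), step (3) : the instance of the frame

`H = P ⊔ P'` acts on `U` (additively: `Nrm.Mod`), `S` Sylow in `H`, `EE = {A ≤ S : Tt U A}`, `J = sSup (EJ S U V)`,
`Y j = YY h j`.

* `Inp` : the input, `Swap` and the normalisation of `U`;
* `Inp.frame` : the frame of `NS.Three`, `Inp.bl` : the subgroups `DD M b`, `LL_b`;
* **`Inp.false`** : (3);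
* **`no_swap`** : (2) + (3).
-/

set_option autoImplicit false
set_option linter.unusedSectionVars false

namespace Cfsg.Agent.Omega.NOThreeL.RRed.NS

open Subgroup Cfsg Cfsg.Agent.ZN
open Cfsg.Agent.ZN.ChoiceBase (cj mem_cj)
open Cfsg.Agent.Omega.FFThm Cfsg.Agent.Lib.SL2Mat
open Cfsg.Agent.Omega.NatPair (ap)
open Cfsg.Agent.Omega.NO3S.ThmB Cfsg.Agent.Omega.NO3S.KeyRad
open Cfsg.Agent.Omega.NOThreeL.RSplit (Nrm)
open scoped Pointwise

universe u

variable {G : Type u} [Group G]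

section nrm

variable {H U : Subgroup G} (Q : Nrm H U)

/-- back to `G` -/
def un (B : AddSubgroup Q.Mod) : Subgroup G where
  carrier := {x | ∃ m ∈ B, Q.val m = x}
  one_mem' := ⟨0, zero_mem _, rfl⟩
  mul_mem' := by
    rintro _ _ ⟨m, hm, rfl⟩ ⟨n, hn, rfl⟩
    exact ⟨m + n, add_mem hm hn, rfl⟩
  inv_mem' := by
    rintro _ ⟨m, hm, rfl⟩
    exact ⟨-m, neg_mem hm, rfl⟩

theorem val_mem_un {B : AddSubgroup Q.Mod} {m : Q.Mod} : Q.val m ∈ un Q B ↔ m ∈ B := by
  constructor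
  · rintro ⟨n, hn, h⟩
    rw [← Nrm.ext h]
    exact hn
  · exact fun h => ⟨m, h, rfl⟩

theorem map_conj (x : H) (A : Subgroup H) :
    (MulAut.conj x • A).map H.subtype = MulAut.conj (x : G) • A.map H.subtype := by
  ext y
  constructor
  · rintro ⟨z, hz, rfl⟩
    have h1 := (mem_conj (x := x) (y := z) (A := A)).1 hz
    rw [mem_conj]
    exact ⟨_, h1, by simp⟩
  · intro hy
    rw [mem_conj] at hy
    obtain ⟨z, hz, h1⟩ := hy
    refine ⟨x * z * x⁻¹, conj_mem' hz, ?_⟩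
    have h2 : (z : G) = (x : G)⁻¹ * y * x := h1
    change (x : G) * z * (x : G)⁻¹ = y
    rw [h2]
    group

theorem brk_eq (A : Subgroup H) : brk Q.Mod A = Q.ad (closure (covs U (A.map H.subtype))) := by
  apply le_antisymm
  · rw [brk, AddSubgroup.closure_le]
    rintro _ ⟨a, ha, v, rfl⟩
    refine Nrm.mem_ad.2 (subset_closure ⟨a, ⟨a, ha, rfl⟩, Q.val v, Q.val_mem v, ?_⟩)
    rw [Nrm.val_sub, Nrm.val_smul]
  · intro m hm
    have h1 : closure (covs U (A.map H.subtype)) ≤ un Q (brk Q.Mod A) := by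
      rw [closure_le]
      rintro _ ⟨_, ⟨a, ha, rfl⟩, u, hu, rfl⟩
      refine ⟨a • Q.of u hu - Q.of u hu, AddSubgroup.subset_closure ⟨a, ha, _, rfl⟩, ?_⟩
      rw [Nrm.val_sub, Nrm.val_smul]
      rfl
    exact (val_mem_un Q).1 (h1 hm)

theorem cov_iff (A : Subgroup H) (m : Q.Mod) :
    (∃ a ∈ A, ∃ v : Q.Mod, a • v - v = m) ↔ Q.val m ∈ covs U (A.map H.subtype) := by
  constructor
  · rintro ⟨a, ha, v, rfl⟩
    refine ⟨a, ⟨a, ha, rfl⟩, Q.val v, Q.val_mem v, ?_⟩
    rw [Nrm.val_sub, Nrm.val_smul]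
  · rintro ⟨_, ⟨a, ha, rfl⟩, u, hu, h⟩
    refine ⟨a, ha, Q.of u hu, Nrm.ext ?_⟩
    rw [Nrm.val_sub, Nrm.val_smul, ← h]
    rfl

theorem ad_inj {B C : Subgroup G} (hB : B ≤ U) (hC : C ≤ U) (h : Q.ad B = Q.ad C) : B = C := by
  have h1 : B ≤ C := by
    have := Nrm.ad_le_iff.1 h.le
    rwa [inf_eq_right.2 hB] at this
  have h2 : C ≤ B := by
    have := Nrm.ad_le_iff.1 h.ge
    rwa [inf_eq_right.2 hC] at this
  exact le_antisymm h1 h2

theorem smul_eq_iff (h : H) (m : Q.Mod) : h • m = m ↔ (h : G) * Q.val m * (h : G)⁻¹ = Q.val m := by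
  rw [Nrm.ext_iff, Nrm.val_smul]

theorem fxd_conj (h : H) (A : Subgroup H) : (fxd (MulAut.conj h • A) : AddSubgroup Q.Mod) = h • fxd A := by
  ext m
  rw [mem_smul', mem_fxd, mem_fxd]
  constructor
  · intro h1 a ha
    have h2 := h1 _ (conj_mem' (x := h) ha)
    rwa [mul_smul, mul_smul, ← eq_inv_smul_iff] at h2
  · intro h1 a ha
    rw [mem_conj] at ha
    have h2 := h1 _ ha
    rw [mul_smul, mul_smul, smul_inv_smul] at h2
    exact smul_left_cancel _ h2

theorem index_smul (h : H) (B : AddSubgroup Q.Mod) : (h • B).index = B.index := by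
  have h1 : h • B = B.map (DistribSMul.toAddMonoidHom Q.Mod h) := rfl
  rw [h1]
  exact AddSubgroup.index_map_of_bijective (MulAction.bijective h) B

theorem index_fxd_conj (h : H) (A : Subgroup H) :
    (fxd (MulAut.conj h • A) : AddSubgroup Q.Mod).index = (fxd A : AddSubgroup Q.Mod).index := by
  rw [fxd_conj, index_smul]

theorem fxd_eq (A : Subgroup H) :
    (fxd A : AddSubgroup Q.Mod) = Q.ad (centralizer ((A.map H.subtype : Subgroup G) : Set G)) := by
  ext m
  rw [mem_fxd, Nrm.mem_ad, mem_centralizer_iff]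
  constructor
  · rintro h1 _ ⟨a, ha, rfl⟩
    have h2 := (smul_eq_iff Q a m).1 (h1 a ha)
    exact mul_inv_eq_iff_eq_mul.1 h2
  · intro h1 a ha
    rw [smul_eq_iff]
    exact mul_inv_eq_iff_eq_mul.2 (h1 a ⟨a, ha, rfl⟩)

theorem index_fxd [Finite G] (A : Subgroup H) :
    (fxd A : AddSubgroup Q.Mod).index = (centralizer ((A.map H.subtype : Subgroup G) : Set G)).relIndex U := by
  set C : Subgroup G := centralizer ((A.map H.subtype : Subgroup G) : Set G) with hC
  have h1 : (fxd A : AddSubgroup Q.Mod) = Q.ad (C ⊓ U) := by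
    rw [fxd_eq]
    exact le_antisymm (Nrm.ad_le_iff.2 fun x hx => ⟨hx.2, hx.1⟩) (Nrm.ad_mono inf_le_left)
  have h2 : Nat.card (Q.ad (C ⊓ U)) * (Q.ad (C ⊓ U)).index = Nat.card Q.Mod := AddSubgroup.card_mul_index _
  have h3 : Nat.card (C ⊓ U : Subgroup G) * (C ⊓ U).relIndex U = Nat.card U := by
    have := Subgroup.relIndex_mul_relIndex (⊥ : Subgroup G) (C ⊓ U) U bot_le inf_le_right
    rwa [relIndex_bot_left, relIndex_bot_left] at this
  have h4 : Nat.card Q.Mod = Nat.card U := rfl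
  rw [h1]
  rw [Nrm.card_ad inf_le_right, h4, ← h3, inf_relIndex_right] at h2
  exact Nat.eq_of_mul_eq_mul_left Nat.card_pos h2

end nrm

theorem conj_eq_cj (x : G) (A : Subgroup G) : MulAut.conj x • A = cj x A := by
  ext y
  rw [mem_conj, mem_cj]

variable {F F' : Type} [Field F] [Field F'] {S P P' V V' D D' U : Subgroup G} {k k' : ℕ}

/-- The input of (3). -/
structure Inp (M : NatKM F S P V D k) (M' : NatKM F' S P' V' D' k') (h : Nb M) (h' : Nb M') (U : Subgroup G)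
    [CharP F 2] [CharP F' 2] {l g : Fin k → F → G} {l' g' : Fin k' → F' → G} (C : ∀ j, Cd M j (l j) (g j))
    (C' : ∀ j, Cd M' j (l' j) (g' j)) : Prop where
  W : Swap M M' h h' U C C'
  U2 : IsElementaryAbelian 2 U
  PU : P ≤ normalizer (U : Set G)
  PU' : P' ≤ normalizer (U : Set G)
  VU : V ≤ U
  VU' : V' ≤ U

namespace Inp

variable [Finite G] [Finite F] [Finite F'] [CharP F 2] [CharP F' 2] {M : NatKM F S P V D k}
  {M' : NatKM F' S P' V' D' k'} {h : Nb M} {h' : Nb M'} {l g : Fin k → F → G} {l' g' : Fin k' → F' → G}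
  {C : ∀ j, Cd M j (l j) (g j)} {C' : ∀ j, Cd M' j (l' j) (g' j)} (X : Inp M M' h h' U C C')
include X

theorem Q : Nrm (P ⊔ P') U where
  ab _ hu _ hv := elem_comm X.U2 hu hv
  nrm := sup_le X.PU X.PU'

theorem SH : S ≤ P ⊔ P' := h.SP'.trans le_sup_left

theorem le_J {A : Subgroup G} (hA : A ≤ S) (t : Tt U A) : A ≤ sSup (EJ S U V) ↔ A ≤ centralizer (V : Set G) := by
  constructor
  · intro h1
    exact h1.trans (sSup_le fun B hB => hB.2.2)
  · intro h1
    exact le_sSup ⟨hA, t, h1⟩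

theorem exb (b : Fin k) : ∃ A ≤ S, Tt U A ∧ ¬ A ≤ sSup (EJ S U V) ∧ One M U A b := by
  obtain ⟨A, hA, t, O⟩ := X.W.ex b
  refine ⟨A, hA, t, ?_, O⟩
  rw [X.le_J hA t]
  exact not_le_of_one O

theorem brk_of {A : Subgroup ↥(P ⊔ P')} (hF : 2 < Nat.card F) (hA : A.map (P ⊔ P').subtype ≤ S) {i : Fin k}
    (O : One M U (A.map (P ⊔ P').subtype) i) : brk X.Q.Mod A = X.Q.ad (YY h i) := by
  rw [brk_eq, YY_eq h (C i) O (hA.trans h.SP') X.VU hF]

theorem Y_inj {b c : Fin k} (hbc : X.Q.ad (YY h b) = X.Q.ad (YY h c)) : b = c :=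
  YY_inj h (C b) (ad_inj X.Q ((YY_le_V h b).trans X.VU) ((YY_le_V h c).trans X.VU) hbc)

/-- `EE` in `P ⊔ P'` -/
def EH (S P P' U : Subgroup G) : Set (Subgroup ↥(P ⊔ P')) :=
  {A | A.map (P ⊔ P').subtype ≤ S ∧ Tt U (A.map (P ⊔ P').subtype)}

theorem map_subgroupOf {A : Subgroup G} (hA : A ≤ S) : (A.subgroupOf (P ⊔ P')).map (P ⊔ P').subtype = A :=
  (subgroupOf_map_subtype _ _).trans (inf_eq_left.2 (hA.trans X.SH))

theorem not_le_J {A : Subgroup ↥(P ⊔ P')} : A ≤ (sSup (EJ S U V)).subgroupOf (P ⊔ P') ↔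
    A.map (P ⊔ P').subtype ≤ sSup (EJ S U V) := by
  rw [map_le_iff_le_comap]
  rfl

/-- **the frame** -/
theorem frame (hF : 2 < Nat.card F) (T : Sylow 2 ↥(P ⊔ P')) (hT : (T : Subgroup ↥(P ⊔ P')).map (P ⊔ P').subtype = S) :
    Frame T ((sSup (EJ S U V)).subgroupOf (P ⊔ P')) (EH S P P' U) (fun j : Fin k => X.Q.ad (YY h j)) where
  JN := Subgroup.normal_subgroupOf_of_le_normalizer (sup_le X.W.nP X.W.nP')
  EES A hA a ha := by
    have h1 : (a : G) ∈ (T : Subgroup ↥(P ⊔ P')).map (P ⊔ P').subtype := by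
      rw [hT]
      exact hA.1 ⟨a, ha, rfl⟩
    obtain ⟨b, hb, hba⟩ := h1
    rw [← Subtype.ext hba]
    exact hb
  EEc A hA x h1 := by
    have h2 : (MulAut.conj x • A).map (P ⊔ P').subtype ≤ S := by
      rw [← hT]
      exact map_mono h1
    refine ⟨h2, ?_⟩
    rw [map_conj, conj_eq_cj]
    exact hA.2.cj (X.Q.nrm x.2)
  typ A hA hJ := by
    rw [X.not_le_J, X.le_J hA.1 hA.2] at hJ
    obtain ⟨i, O⟩ := hA.2.one h X.U2 X.VU hA.1 hJ
    exact ⟨i, X.brk_of hF hA.1 O⟩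
  ex b := by
    obtain ⟨A, hA, t, hJ, O⟩ := X.exb b
    have h1 := X.map_subgroupOf hA
    refine ⟨A.subgroupOf (P ⊔ P'), ?_, ?_, X.brk_of hF ?_ ?_⟩
    · change (A.subgroupOf (P ⊔ P')).map (P ⊔ P').subtype ≤ S ∧ Tt U ((A.subgroupOf (P ⊔ P')).map (P ⊔ P').subtype)
      rw [h1]; exact ⟨hA, t⟩
    · rw [X.not_le_J, h1]
      exact hJ
    · rw [h1]; exact hA
    · rw [h1]; exact O
  cent A hA c y hy a ha := by
    rw [smul_eq_iff, mul_inv_eq_iff_eq_mul]
    have h0 : (a : G) ∈ A.map (P ⊔ P').subtype := ⟨a, ha, rfl⟩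
    by_cases hJ : A.map (P ⊔ P').subtype ≤ centralizer (V : Set G)
    · exact (mem_centralizer_iff.1 (hJ h0) _ (YY_le_V h c hy)).symm
    · obtain ⟨i, O⟩ := hA.2.one h X.U2 X.VU hA.1 hJ
      exact cent_YY h O (hA.1.trans h.SP') h0 hy
  inj b c hbc := X.Y_inj hbc

theorem not_le' {A : Subgroup G} (hA : A ≤ S) (t : Tt U A) {b : Fin k} (O : One M U A b) :
    ∃ b', One M' U A b' := by
  refine t.one h' X.U2 X.VU' hA fun h1 => ?_
  exact not_le_of_one O ((X.W.iff A hA t).2 h1)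

theorem card_DD (b : Fin k) : Nat.card (DD M b) = Nat.card F := by
  obtain ⟨A, hA, t, -, O⟩ := X.exb b
  obtain ⟨b', O'⟩ := X.not_le' hA t O
  exact (X.W.swap A hA t b b' O O').2.1

/-- the subgroups of the block `b` -/
theorem bl (hF : 2 < Nat.card F) (T : Sylow 2 ↥(P ⊔ P')) (hT : (T : Subgroup ↥(P ⊔ P')).map (P ⊔ P').subtype = S)
    (b : Fin k) : Bl T ((sSup (EJ S U V)).subgroupOf (P ⊔ P')) (EH S P P' U) (fun j : Fin k => X.Q.ad (YY h j)) b
      (X.Q.ad (DD M b)) (X.Q.ad ((C b).LL h)) where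
  DY := Nrm.ad_mono (DD_le_YY h b)
  lY := Nrm.ad_mono ((C b).LL_le h)
  Dl := by
    rw [eq_bot_iff]
    intro m hm
    have h1 : X.Q.val m ∈ DD M b ⊓ (C b).LL h := ⟨hm.1, hm.2⟩
    rw [(C b).DD_inf_LL h, Subgroup.mem_bot] at h1
    exact AddSubgroup.mem_bot.2 (Nrm.eq_zero_iff.2 h1)
  SD s hs hY := by
    have hsS : (s : G) ∈ S := by
      rw [← hT]
      exact ⟨s, hs, rfl⟩
    refine smul_eq_of_le fun x hx => ?_
    rw [mem_smul'] at hx
    have h1 : x ∈ X.Q.ad (YY h b) := by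
      rw [← hY, mem_smul']
      exact DD_le_YY h b hx
    have h2 : X.Q.val (s⁻¹ • x) ∈ D := hx.2
    have h3 := (mem_normalizer_iff.1 (h.DP' (h.SP' hsS)) _).1 h2
    rw [← Nrm.val_smul, smul_inv_smul] at h3
    exact ⟨h1.1, h3⟩
  cov A hA hJ hbr m hm := by
    rw [X.not_le_J, X.le_J hA.1 hA.2] at hJ
    obtain ⟨i, O⟩ := hA.2.one h X.U2 X.VU hA.1 hJ
    have h1 := X.brk_of hF hA.1 O
    obtain rfl := X.Y_inj (h1.symm.trans hbr)
    rw [cov_iff, cov_big h (C i) O (hA.1.trans h.SP') X.VU (X.card_DD i) hm, Nrm.eq_zero_iff]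
    rfl

/-- **THEOREM NS (3).** -/
theorem false (hF : 2 < Nat.card F) (T : Sylow 2 ↥(P ⊔ P')) (hT : (T : Subgroup ↥(P ⊔ P')).map (P ⊔ P').subtype = S)
    {x : G} (hx : x ∈ ⨆ j, DD M j) (hx1 : x ≠ 1) (hxS : ∀ s ∈ S, s * x = x * s) : False := by
  obtain ⟨b, y, hy, hy1, r, hr, rfl⟩ := exists_comp h hx hx1
  obtain ⟨A, hA, t, hJ, O⟩ := X.exb b
  obtain ⟨b', O'⟩ := X.not_le' hA t O
  obtain ⟨hYY, hcD, hD', hL'⟩ := X.W.swap A hA t b b' O O'
  have hAP : A ≤ P := hA.trans h.SP'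
  have hAP' : A ≤ P' := hA.trans h'.SP'
  obtain ⟨p, hp, hpA⟩ := exists_p M b
  obtain ⟨p', hp', hpA'⟩ := exists_p M' b'
  have hmA := X.map_subgroupOf hA
  let pH : ↥(P ⊔ P') := ⟨p, mem_sup_left hp⟩
  let pH' : ↥(P ⊔ P') := ⟨p', mem_sup_right hp'⟩
  let AH : Subgroup ↥(P ⊔ P') := A.subgroupOf (P ⊔ P')
  have hyU : y ∈ U := X.VU (blk_le h b hy.1)
  have m₁ : (MulAut.conj pH • AH).map (P ⊔ P').subtype = MulAut.conj p • A := by rw [map_conj, hmA]
  have m₂ : (MulAut.conj pH' • AH).map (P ⊔ P').subtype = MulAut.conj p' • A := by rw [map_conj, hmA]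
  have hUn : ∀ x ∈ P ⊔ P', ∀ u ∈ U, x * u * x⁻¹ ∈ U := fun x hx u hu => (mem_normalizer_iff.1 (X.Q.nrm hx) u).1 hu
  have i₀ : (fxd AH : AddSubgroup X.Q.Mod).index ≤ Nat.card F := by
    rw [index_fxd, hmA]
    exact relIndex_le h O hAP
  have F0 := X.frame hF T hT
  have hbA : brk X.Q.Mod AH = X.Q.ad (YY h b) := X.brk_of hF (by rw [hmA]; exact hA) (by rw [hmA]; exact O)
  refine F0.false_of (X.bl hF T hT b) (x := X.Q.of y hyU) (A := AH) (A₁ := MulAut.conj pH • AH)
    (A₂ := MulAut.conj pH' • AH) (V := X.Q.ad (blk M b)) (q := Nat.card F) ?_ ?_ hbA ?_ ?_ hy ?_ ?_ i₀ ?_ ?_ ?_ ?_ ?_ ?_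
    ?_ ?_
  · change AH.map (P ⊔ P').subtype ≤ S ∧ Tt U (AH.map (P ⊔ P').subtype)
    rw [hmA]
    exact ⟨hA, t⟩
  · rw [X.not_le_J]
    rw [hmA]
    exact hJ
  · -- `A^p ≤ G_b`
    intro a ha c hc z hz
    have h1 : (a : G) ∈ MulAut.conj p • A := by rw [← m₁]; exact ⟨a, ha, rfl⟩
    exact (smul_eq_iff X.Q a z).2 (cent_conj h O hAP hp hpA h1 hc hz.1)
  · -- `A^p' ≤ G_b`
    intro a ha c hc z hz
    have h1 : (a : G) ∈ MulAut.conj p' • A := by rw [← m₂]; exact ⟨a, ha, rfl⟩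
    obtain ⟨Ac, hAc, tc, -, Oc⟩ := X.exb c
    obtain ⟨c', Oc'⟩ := X.not_le' hAc tc Oc
    have h2 := (X.W.swap Ac hAc tc c c' Oc Oc').1
    have h3 : c' ≠ b' := by
      rintro rfl
      rw [← hYY] at h2
      exact hc (YY_inj h (C c) h2)
    have h4 : X.Q.val z ∈ YY h' c' := h2 ▸ hz
    exact (smul_eq_iff X.Q a z).2 (cent_conj h' O' hAP' hp' hpA' h1 h3 h4.1)
  · intro h0
    exact hy1 (Nrm.eq_zero_iff.1 h0)
  · -- `T_b` fixes `y`
    intro s hs
    rw [smul_eq_iff, Nrm.val_of, mul_inv_eq_iff_eq_mul]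
    have hsS : (s : G) ∈ S := by
      rw [← hT]
      exact ⟨s, (mem_inf.1 hs).1, rfl⟩
    have h1 : (⨆ c : {c // c ≠ b}, DD M c) ≤ centralizer ({(s : G)} : Set G) := by
      refine iSup_le fun c z hz => ?_
      rw [mem_centralizer_singleton_iff]
      have hzU : z ∈ U := X.VU (blk_le h c hz.1)
      have h2 := (mem_inf.1 hs).2 c c.2 (X.Q.of z hzU) (DD_le_YY h c hz)
      rw [smul_eq_iff, Nrm.val_of, mul_inv_eq_iff_eq_mul] at h2
      exact h2.symm
    have h2 := mem_centralizer_singleton_iff.1 (h1 hr)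
    have h3 := hxS s hsS
    calc (s : G) * y = (s * (y * r)) * r⁻¹ := by group
      _ = (y * r * s) * r⁻¹ := by rw [h3]
      _ = y * (r * s) * r⁻¹ := by group
      _ = y * (s * r) * r⁻¹ := by rw [h2]
      _ = y * s := by group
  · rw [index_fxd_conj]; exact i₀
  · rw [index_fxd_conj]; exact i₀
  · rw [Nrm.card_ad ((blk_le h b).trans X.VU), card_blk h, hcD]
    exact le_of_eq (pow_succ _ _)
  · exact Nrm.ad_mono (YY_le h b)
  · -- `fE`
    intro v hv h1 h2
    refine mem_DD_of_fixed h O hAP hp hpA hv (fun a ha => ?_) fun a ha => ?_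
    · rw [← hmA] at ha
      obtain ⟨a, ha, rfl⟩ := ha
      exact (smul_eq_iff X.Q a v).1 (h1 a ha)
    · rw [← m₁] at ha
      obtain ⟨a, ha, rfl⟩ := ha
      exact (smul_eq_iff X.Q a v).1 (h2 a ha)
  · -- `Ef`
    intro d hd a ha
    have h1 : (a : G) ∈ MulAut.conj p • A := by rw [← m₁]; exact ⟨a, ha, rfl⟩
    exact (smul_eq_iff X.Q a d).2 (fix_D h O hAP hp hpA hd.2 h1)
  · -- `tr`
    intro v hv
    obtain ⟨g₀, hg₀, h1⟩ := exists_YY h O hAP hp hpA hv
    rw [← m₁, ← hmA, ← Subgroup.map_sup] at hg₀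
    obtain ⟨g₁, hg₁, rfl⟩ := hg₀
    exact ⟨g₁, hg₁, h1⟩
  · -- `mv`
    intro d hd hd0
    have h1 : X.Q.val d ∈ (C' b').LL h' := by rw [hL']; exact hd
    obtain ⟨s, hs⟩ := h1
    have hs0 : s ≠ 0 := by
      rintro rfl
      rw [(C' b').l_zero] at hs
      exact hd0 (Nrm.eq_zero_iff.2 hs.symm)
    obtain ⟨a, ha, h2⟩ := exists_not_mem_YY h' O' hAP' hp' hpA' (C' b') hs0
    rw [← m₂] at ha
    obtain ⟨a, ha, rfl⟩ := ha
    refine ⟨a, ha, fun h3 => h2 ?_⟩
    rw [← hYY, hs]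
    exact DD_le_YY h b h3

end Inp

/-- **THEOREM NS**, `P` and `P'` natural: (2) and (3). -/
theorem no_swap [Finite G] [Finite F] [Finite F'] [CharP F 2] [CharP F' 2] {M : NatKM F S P V D k}
    {M' : NatKM F' S P' V' D' k'} (h : Nb M) (h' : Nb M') (hS : ChoiceSit.Syl S (P ⊔ P')) (hF : 2 < Nat.card F)
    (gd : Gd S P U V) (gd' : Gd S P' U V') {A₀ : Subgroup G} (hA₀S : A₀ ≤ S) (t₀ : Tt U A₀)
    (hne₀ : ¬ A₀ ≤ centralizer (V : Set G)) {A' : Subgroup G} (hA'S : A' ≤ S) (t' : Tt U A')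
    (hne' : ¬ A' ≤ centralizer (V' : Set G)) {x : G} (hx : x ∈ ⨆ j, DD M j) (hxS : ∀ s ∈ S, s * x = x * s) {y : G}
    (hy : y ∈ P') (hyx : y * x ≠ x * y) : False := by
  have hne₀' := gd'.moves h hF gd.VU gd.UN hA'S t' hne' hx hxS hy hyx hA₀S t₀ hne₀
  obtain ⟨i, O⟩ := t₀.one h gd.U2 gd.VU hA₀S hne₀
  obtain ⟨i', O'⟩ := t₀.one h' gd'.U2 gd'.VU hA₀S hne₀'
  have hF' : 2 < Nat.card F' := lt_of_lt_of_le hF (card_le_of_one h' O O' (hA₀S.trans h'.SP') gd.VU)
  choose l g C using exists_cd h hF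
  choose l' g' C' using exists_cd h' hF'
  obtain ⟨T, hT⟩ := ChoiceSit.syl_iff.1 hS
  have X : Inp M M' h h' U C C' :=
    { W := two h h' C C' hS.2.1 hF gd gd' hA₀S t₀ hne₀ hA'S t' hne' hx hxS hy hyx
      U2 := gd.U2
      PU := gd.UN
      PU' := gd'.UN
      VU := gd.VU
      VU' := gd'.VU }
  refine X.false hF T hT hx ?_ hxS
  rintro rfl
  exact hyx (by rw [mul_one, one_mul])

end Cfsg.Agent.Omega.NOThreeL.RRed.NS
end

-- part: Mrg/Omega/NOThreeL/RRed/Blk/TypesNat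
section
section


/-!
# NO-3L, box R: THEOREM TYPES (helper797, #24779): the natural blocks as `TypesGam.Bk`

`M : NatKM F S P V D k`, `h : Nb M`, `2 < |F|`, `DD M j = 1` (split), `One M U A j`, `P ≤ H ≤ N(U)`, `U` abelian,
`Q : Nrm H U`, `Q.Mod` = `U` additively.

* `blk_ext` : elements of `blk M j` are determined by the `j`-th coordinate;
* **`exists_bk`** : `Bk e f C up lo`, `e(F) = Y_j = [U, A]`, `e(F) ⊕ f(F) = blk M j`, `C = C_U(⟨A, A^p⟩)`, `up t ∈ A`, every
  element of `A` acts as some `up t`;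
* `Bk.map`, `Bk.conj` : transport by `X → X'` and by conjugation.
-/

set_option autoImplicit false
set_option linter.unusedSectionVars false

namespace Cfsg.Agent.Omega.NOThreeL.RRed.Blk.TypesNat

open Subgroup Cfsg Cfsg.Agent.ZN
open Cfsg.Agent.Omega.FFThm Cfsg.Agent.Lib.SL2Mat
open Cfsg.Agent.Omega.NatPair (ap)
open Cfsg.Agent.Omega.NO3S.ThmB Cfsg.Agent.Omega.NO3S.KeyRad
open Cfsg.Agent.Omega.NOThreeL.RSplit (Nrm)
open Cfsg.Agent.Omega.NOThreeL.RRed.NS
open Cfsg.Agent.Omega.NOThreeL.RRed.Blk.TypesGam (Bk rt)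
open scoped Pointwise

universe u

variable {G : Type u} [Group G] {F : Type} [Field F] {S P V D U H : Subgroup G} {k : ℕ}

section basic

variable {M : NatKM F S P V D k} (h : Nb M) [CharP F 2] {j : Fin k}
include h

/-- elements of a split block are determined by their coordinate -/
theorem blk_ext (hD : DD M j = ⊥) {v w : G} (hv : v ∈ blk M j) (hw : w ∈ blk M j) (e : M.e v j = M.e w j) : v = w := by
  have h1 : v * w⁻¹ ∈ DD M j := by
    rw [mem_DD h (mul_mem hv (inv_mem hw)), h.e_div (blk_le h j hv) (blk_le h j hw), Pi.add_apply, e]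
    funext i
    exact CharTwo.add_self_eq_zero _
  rw [hD, Subgroup.mem_bot] at h1
  exact mul_inv_eq_one.1 h1

theorem e_mul {v w : G} (hv : v ∈ blk M j) (hw : w ∈ blk M j) : M.e (v * w) j = M.e v j + M.e w j := by
  rw [M.mul _ (blk_le h j hv) _ (blk_le h j hw), Pi.add_apply]

end basic

/-! ### the module -/

section ad

variable [Finite G] (Q : Nrm H U)

theorem ad_inf (B C : Subgroup G) : Q.ad B ⊓ Q.ad C = Q.ad (B ⊓ C) := rfl

/-- a complement -/
theorem sup_top {W C : AddSubgroup Q.Mod} {q : ℕ} (h0 : W ⊓ C = ⊥) (hi : C.index ≤ q) (hW : q ≤ Nat.card W) :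
    W ⊔ C = ⊤ := by
  rw [← AddSubgroup.index_eq_one]
  have h1 : C.relIndex (W ⊔ C) = Nat.card W := by
    rw [AddSubgroup.relIndex_sup_right]
    have h2 : C.relIndex W = (C ⊓ W).relIndex W := (AddSubgroup.inf_relIndex_right _ _).symm
    rw [h2, inf_comm, h0, AddSubgroup.relIndex_bot_left]
  have h2 : C.relIndex (W ⊔ C) * (W ⊔ C).index = C.index := AddSubgroup.relIndex_mul_index le_sup_right
  rw [h1] at h2
  have h3 : 0 < Nat.card W := Nat.card_pos
  have h4 : (W ⊔ C).index ≠ 0 := AddSubgroup.index_ne_zero_of_finite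
  have h5 : Nat.card W * (W ⊔ C).index ≤ Nat.card W * 1 := by
    rw [h2, mul_one]
    exact hi.trans hW
  have h6 := Nat.le_of_mul_le_mul_left h5 h3
  omega

end ad

/-- **The natural block as a `Bk`.** -/
theorem exists_bk [Finite G] [Finite F] [CharP F 2] {M : NatKM F S P V D k} (h : Nb M) (hF : 2 < Nat.card F)
    (Q : Nrm H U) (hPH : P ≤ H) (hVU : V ≤ U) {A : Subgroup G} {j : Fin k} (O : One M U A j) (hAP : A ≤ P)
    (hD : DD M j = ⊥) :
    ∃ (e f : F →+ Q.Mod) (up lo : F → H) (p : G), p ∈ P ∧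
      Bk e f (Q.ad (centralizer ((A ⊔ MulAut.conj p • A : Subgroup G) : Set G))) up lo ∧
      (∀ t, (up t : G) ∈ A) ∧ (∀ t, (lo t : G) ∈ MulAut.conj p • A) ∧
      (∀ a (ha : a ∈ A), ∃ t, ∀ m : Q.Mod, (⟨a, hPH (hAP ha)⟩ : H) • m = up t • m) ∧
      e.range = Q.ad (YY h j) ∧ e.range ⊔ f.range = Q.ad (blk M j) := by
  obtain ⟨l, g, C⟩ := exists_cd h hF j
  have hg : ∀ x, g x = 1 := fun x => by
    have h1 := C.gDD h x
    rw [hD, Subgroup.mem_bot] at h1
    exact h1
  obtain ⟨p, hp, hpA⟩ := exists_p M j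
  have hfm : ∀ t, p * l t * p⁻¹ ∈ blk M j := fun t => conj_blk h hp hpA (C.lm t)
  have hlU : ∀ t, l t ∈ U := fun t => hVU (C.lV h t)
  have hbU : ∀ {w}, w ∈ blk M j → w ∈ U := fun hw => hVU (blk_le h j hw)
  have hfe : ∀ t, M.e (p * l t * p⁻¹) j = ![0, t] := fun t => by
    rw [e_conj_blk h hpA (C.lm t), C.le]
    refine vec_eq ?_ ?_
    · rw [Cfsg.Agent.Omega.NatPair.ap_zero']
      simp [wl]
    · rw [Cfsg.Agent.Omega.NatPair.ap_one']
      simp [wl, CharTwo.neg_eq]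
  let e : F →+ Q.Mod := AddMonoidHom.mk' (fun s => Q.of (l s) (hlU s)) fun s t => Nrm.ext (C.la s t)
  let f : F →+ Q.Mod := AddMonoidHom.mk' (fun s => Q.of (p * l s * p⁻¹) (hbU (hfm s))) fun s t => Nrm.ext (by
    rw [Nrm.val_of, Nrm.val_add, Nrm.val_of, Nrm.val_of, C.la]
    group)
  have hev : ∀ s, Q.val (e s) = l s := fun _ => rfl
  have hfv : ∀ s, Q.val (f s) = p * l s * p⁻¹ := fun _ => rfl
  have hef : ∀ x y, Q.val (e x + f y) ∈ blk M j ∧ M.e (Q.val (e x + f y)) j = ![x, y] := fun x y => by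
    rw [Nrm.val_add, hev, hfv]
    refine ⟨mul_mem (C.lm x) (hfm y), ?_⟩
    rw [e_mul h (C.lm x) (hfm y), C.le, hfe]
    refine vec_eq ?_ ?_ <;> simp
  -- root elements
  choose a ha haA using O.all
  have hal := all_conj h O hAP hp hpA
  choose b hb hbA using hal
  have hbP : ∀ t, b t ∈ P := fun t => conj_le_P hAP hp (hb t)
  set E : Subgroup G := A ⊔ MulAut.conj p • A with hE
  have hEP : E ≤ P := sup_le hAP (conj_le_P hAP hp)
  -- the fixed points of `E`
  have hfix : ∀ m : Q.Mod, m ∈ Q.ad (centralizer (E : Set G)) ↔ ∀ x ∈ E, x * Q.val m * x⁻¹ = Q.val m := by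
    intro m
    rw [Nrm.mem_ad, mem_centralizer_iff]
    exact forall₂_congr fun x _ => mul_inv_eq_iff_eq_mul.symm
  have h0 : Q.ad (blk M j) ⊓ Q.ad (centralizer (E : Set G)) = ⊥ := by
    rw [eq_bot_iff]
    rintro m ⟨h1, h2⟩
    have h3 := (hfix m).1 h2
    have h4 : Q.val m ∈ DD M j := mem_DD_of_fixed h O hAP hp hpA h1 (fun x hx => h3 x (mem_sup_left hx))
      fun x hx => h3 x (mem_sup_right hx)
    rw [hD, Subgroup.mem_bot] at h4
    exact AddSubgroup.mem_bot.2 (Nrm.eq_zero_iff.2 h4)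
  have hmA : (A.subgroupOf H).map H.subtype = A :=
    (subgroupOf_map_subtype _ _).trans (inf_eq_left.2 (hAP.trans hPH))
  have hcE : Q.ad (centralizer (E : Set G)) =
      (fxd (A.subgroupOf H) : AddSubgroup Q.Mod) ⊓ fxd (MulAut.conj (⟨p, hPH hp⟩ : H) • A.subgroupOf H) := by
    rw [fxd_eq, fxd_eq, map_conj, hmA, ad_inf, hE]
    congr 1
    ext x
    rw [mem_inf, mem_centralizer_iff, mem_centralizer_iff, mem_centralizer_iff]
    constructor
    · exact fun h1 => ⟨fun y hy => h1 y (mem_sup_left hy), fun y hy => h1 y (mem_sup_right hy)⟩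
    · rintro ⟨h1, h2⟩ y hy
      have h3 : A ⊔ MulAut.conj p • A ≤ centralizer ({x} : Set G) :=
        sup_le (fun z hz => mem_centralizer_singleton_iff.2 (h1 z hz))
          fun z hz => mem_centralizer_singleton_iff.2 (h2 z hz)
      exact mem_centralizer_singleton_iff.1 (h3 hy)
  have hi : (Q.ad (centralizer (E : Set G))).index ≤ Nat.card F ^ 2 := by
    rw [hcE, pow_two]
    refine AddSubgroup.index_inf_le.trans (Nat.mul_le_mul ?_ ?_)
    · rw [index_fxd, hmA]
      exact relIndex_le h O hAP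
    · rw [index_fxd_conj, index_fxd, hmA]
      exact relIndex_le h O hAP
  have hcard : Nat.card (Q.ad (blk M j)) = Nat.card F ^ 2 := by
    rw [Nrm.card_ad ((blk_le h j).trans hVU), card_blk h, hD, Subgroup.card_bot, mul_one]
  have htop := sup_top Q h0 hi hcard.ge
  have hmem : ∀ m : Q.Mod, m ∈ Q.ad (blk M j) → ∃ x y, m = e x + f y := by
    intro m hm
    refine ⟨M.e (Q.val m) j 0, M.e (Q.val m) j 1, Nrm.ext ?_⟩
    refine blk_ext h hD hm (hef _ _).1 ?_
    rw [(hef _ _).2]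
    refine vec_eq ?_ ?_ <;> simp
  have hcomb : ∀ (x : H) (B : Matrix.SpecialLinearGroup (Fin 2) F) (hB : ActsSL M.e V D (x : G) (sg j B)) (hx : (x : G) ∈ P)
      (s t s' t' : F), ap B ![s, t] = ![s', t'] → x • (e s + f t) = e s' + f t' := by
    intro x B hB hx s t s' t' hap
    refine Nrm.ext ?_
    rw [Nrm.val_smul]
    refine blk_ext h hD (conj_blk h hx hB (hef s t).1) (hef s' t').1 ?_
    rw [e_conj_blk h hB (hef s t).1, (hef s t).2, (hef s' t').2, hap]
  refine ⟨e, f, fun t => ⟨a t, hPH (hAP (ha t))⟩, fun t => ⟨b t, hPH (hbP t)⟩, p, hp, ?_, ha, hb, ?_, ?_, ?_⟩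
  · refine
      { dec := fun v => ?_
        ind := fun x y hxy => ?_
        up_e := fun t x => ?_
        up_f := fun t x => ?_
        up_c := fun t c hc => ?_
        lo_e := fun t x => ?_
        lo_f := fun t x => ?_
        lo_c := fun t c hc => ?_ }
    · have h1 : v ∈ Q.ad (blk M j) ⊔ Q.ad (centralizer (E : Set G)) := by rw [htop]; exact AddSubgroup.mem_top _
      obtain ⟨w, hw, c, hc, rfl⟩ := AddSubgroup.mem_sup.1 h1
      obtain ⟨x, y, rfl⟩ := hmem w hw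
      exact ⟨x, y, c, hc, rfl⟩
    · have h1 : e x + f y ∈ Q.ad (blk M j) ⊓ Q.ad (centralizer (E : Set G)) := ⟨(hef x y).1, hxy⟩
      rw [h0, AddSubgroup.mem_bot] at h1
      have h2 := (hef x y).2
      rw [h1, Nrm.val_zero, Nb.e_one (M := M)] at h2
      exact ⟨(congrFun h2 0).symm, (congrFun h2 1).symm⟩
    · have h1 := hcomb ⟨a t, hPH (hAP (ha t))⟩ (up t) (haA t) (hAP (ha t)) x 0 x 0
        (by refine vec_eq ?_ ?_ <;> simp [ap_up_0, ap_up_1])
      rwa [map_zero, add_zero] at h1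
    · have h1 := hcomb ⟨a t, hPH (hAP (ha t))⟩ (up t) (haA t) (hAP (ha t)) 0 x (t * x) x
        (by refine vec_eq ?_ ?_ <;> simp [ap_up_0, ap_up_1])
      rw [map_zero, zero_add] at h1
      rw [h1, add_comm]
    · exact (smul_eq_iff Q _ c).2 ((hfix c).1 hc _ (mem_sup_left (ha t)))
    · have h1 := hcomb ⟨b t, hPH (hbP t)⟩ (lo t) (hbA t) (hbP t) x 0 x (t * x)
        (by refine vec_eq ?_ ?_ <;> simp [ap_lo_0, ap_lo_1])
      rwa [map_zero, add_zero] at h1
    · have h1 := hcomb ⟨b t, hPH (hbP t)⟩ (lo t) (hbA t) (hbP t) 0 x 0 x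
        (by refine vec_eq ?_ ?_ <;> simp [ap_lo_0, ap_lo_1])
      rwa [map_zero, zero_add] at h1
    · exact (smul_eq_iff Q _ c).2 ((hfix c).1 hc _ (mem_sup_right (hb t)))
  · -- `A` acts as the `up t`
    intro x hx
    obtain ⟨β, hβ⟩ := O.act x hx
    refine ⟨β, fun m => ?_⟩
    have h1 : m ∈ Q.ad (blk M j) ⊔ Q.ad (centralizer (E : Set G)) := by rw [htop]; exact AddSubgroup.mem_top _
    obtain ⟨w, hw, c, hc, rfl⟩ := AddSubgroup.mem_sup.1 h1
    rw [smul_add, smul_add]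
    congr 1
    · refine Nrm.ext ?_
      rw [Nrm.val_smul, Nrm.val_smul]
      exact h.same (hAP hx) (hAP (ha β)) hβ (haA β) (blk_le h j hw)
    · rw [(smul_eq_iff Q _ c).2 ((hfix c).1 hc _ (mem_sup_left hx)),
        (smul_eq_iff Q _ c).2 ((hfix c).1 hc _ (mem_sup_left (ha β)))]
  · ext m
    constructor
    · rintro ⟨s, rfl⟩
      exact C.lY h s
    · intro hm
      obtain ⟨s, x, hsx⟩ := C.exists_eq h hm
      refine ⟨s, Nrm.ext ?_⟩
      rw [hsx, hg, mul_one]
      rfl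
  · apply le_antisymm
    · refine sup_le ?_ ?_
      · rintro _ ⟨s, rfl⟩
        exact C.lm s
      · rintro _ ⟨s, rfl⟩
        exact hfm s
    · intro m hm
      obtain ⟨x, y, rfl⟩ := hmem m hm
      exact add_mem (AddSubgroup.mem_sup_left ⟨x, rfl⟩) (AddSubgroup.mem_sup_right ⟨y, rfl⟩)

end Cfsg.Agent.Omega.NOThreeL.RRed.Blk.TypesNat

end

section


/-!
# NO-3L, box R: natural blocks with `D_b ≠ 1` (helper855, #26560, (L2))

`M : NatKM F S P V D k`, `h : Nb M`, `2 < |F|`, `One M U A j`, `P ≤ H ≤ N(U)`, `U` abelian, `Q : Nrm H U`,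
`Q.Mod` = `U` additively, `g` = the coordinates of `DD M j`.

* **`exists_bkD`** : `BkD e f del C up lo`, `C = C_U(⟨A, A^p⟩)`, `e(F) ⊕ del(F) = Y_j = [U, A]`,
  `e(F) ⊕ f(F) ⊕ del(F) = blk M j`, `del(F) = DD M j`, `up t ∈ A`, `lo t ∈ A^p`, every element of `A` acts as some `up t`.
-/

set_option autoImplicit false
set_option linter.unusedSectionVars false

namespace Cfsg.Agent.Omega.NOThreeL.RRed.Blk.BkDOf

open Subgroup Cfsg Cfsg.Agent.ZN
open Cfsg.Agent.Omega.FFThm Cfsg.Agent.Lib.SL2Mat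
open Cfsg.Agent.Omega.NatPair (ap)
open Cfsg.Agent.Omega.NO3S.ThmB Cfsg.Agent.Omega.NO3S.KeyRad
open Cfsg.Agent.Omega.NOThreeL.RSplit (Nrm)
open Cfsg.Agent.Omega.NOThreeL.RRed.NS
open Cfsg.Agent.Omega.NOThreeL.RRed.Blk.TypesNat (sup_top)
open scoped Pointwise

universe u v w

/-- a natural block with `D_b = del(F)` -/
structure BkD {X : Type u} {V : Type v} [Group X] [AddCommGroup V] [DistribMulAction X V] {F : Type w} [Field F]
    (e f del : F →+ V) (C : AddSubgroup V) (up lo : F → X) : Prop where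
  dec : ∀ v : V, ∃ x y, ∃ c ∈ C, v = e x + f y + c
  ind : ∀ x y, e x + f y ∈ C → x = 0 ∧ y = 0
  dC : ∀ s, del s ∈ C
  up_e : ∀ t x, up t • e x = e x
  up_f : ∀ t x, up t • f x = f x + e (t * x) + del (t * x ^ 2)
  up_c : ∀ t, ∀ c ∈ C, up t • c = c
  lo_e : ∀ t x, lo t • e x = e x + f (t * x) + del (t * x ^ 2)
  lo_f : ∀ t x, lo t • f x = f x
  lo_c : ∀ t, ∀ c ∈ C, lo t • c = c

variable {G : Type u} [Group G] {F : Type} [Field F] {S P V D U H : Subgroup G} {k : ℕ}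

/-- the coordinates of `p v p⁻¹`, `p` the Weyl element -/
theorem e_wl [CharP F 2] {M : NatKM F S P V D k} (h : Nb M) {j : Fin k} {p : G}
    (hpA : ActsSL M.e V D p (sg j (wl F))) {v : G} (hv : v ∈ blk M j) :
    M.e (p * v * p⁻¹) j = ![M.e v j 1, M.e v j 0] := by
  rw [e_conj_blk h hpA hv]
  refine vec_eq ?_ ?_
  · rw [Cfsg.Agent.Omega.NatPair.ap_zero']
    simp [wl]
  · rw [Cfsg.Agent.Omega.NatPair.ap_one']
    simp [wl, CharTwo.neg_eq]

/-- **The natural block with a radical as a `BkD`.** -/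
theorem exists_bkD [Finite G] [Finite F] [CharP F 2] {M : NatKM F S P V D k} (h : Nb M) (hF : 2 < Nat.card F)
    (Q : Nrm H U) (hPH : P ≤ H) (hVU : V ≤ U) {A : Subgroup G} {j : Fin k} (O : One M U A j) (hAP : A ≤ P) :
    ∃ (e f del : F →+ Q.Mod) (up lo : F → H) (p : G), p ∈ P ∧
      BkD e f del (Q.ad (centralizer ((A ⊔ MulAut.conj p • A : Subgroup G) : Set G))) up lo ∧
      (∀ t, (up t : G) ∈ A) ∧ (∀ t, (lo t : G) ∈ MulAut.conj p • A) ∧
      (∀ a (ha : a ∈ A), ∃ t, ∀ m : Q.Mod, (⟨a, hPH (hAP ha)⟩ : H) • m = up t • m) ∧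
      e.range ⊔ del.range = Q.ad (YY h j) ∧ e.range ⊔ f.range ⊔ del.range = Q.ad (blk M j) ∧
      del.range = Q.ad (DD M j) := by
  obtain ⟨l, g, C⟩ := exists_cd h hF j
  obtain ⟨p, hp, hpA⟩ := exists_p M j
  have hfm : ∀ t, p * l t * p⁻¹ ∈ blk M j := fun t => conj_blk h hp hpA (C.lm t)
  have hlU : ∀ t, l t ∈ U := fun t => hVU (C.lV h t)
  have hbU : ∀ {w}, w ∈ blk M j → w ∈ U := fun hw => hVU (blk_le h j hw)
  have hfe : ∀ t, M.e (p * l t * p⁻¹) j = ![0, t] := fun t => by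
    rw [e_wl h hpA (C.lm t), C.le]
    rfl
  let e : F →+ Q.Mod := AddMonoidHom.mk' (fun s => Q.of (l s) (hlU s)) fun s t => Nrm.ext (C.la s t)
  let f : F →+ Q.Mod := AddMonoidHom.mk' (fun s => Q.of (p * l s * p⁻¹) (hbU (hfm s))) fun s t => Nrm.ext (by
    rw [Nrm.val_of, Nrm.val_add, Nrm.val_of, Nrm.val_of, C.la]
    group)
  let del : F →+ Q.Mod := AddMonoidHom.mk' (fun s => Q.of (g s) (hbU (C.gm s))) fun s t => Nrm.ext (C.ga s t)
  have hev : ∀ s, Q.val (e s) = l s := fun _ => rfl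
  have hfv : ∀ s, Q.val (f s) = p * l s * p⁻¹ := fun _ => rfl
  have hdv : ∀ s, Q.val (del s) = g s := fun _ => rfl
  have hef : ∀ x y, Q.val (e x + f y) ∈ blk M j ∧ M.e (Q.val (e x + f y)) j = ![x, y] := fun x y => by
    rw [Nrm.val_add, hev, hfv]
    refine ⟨mul_mem (C.lm x) (hfm y), ?_⟩
    rw [TypesNat.e_mul h (C.lm x) (hfm y), C.le, hfe]
    refine vec_eq ?_ ?_ <;> simp
  -- root elements
  choose a ha haA using O.all
  have haP : ∀ t, a t ∈ P := fun t => hAP (ha t)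
  set E : Subgroup G := A ⊔ MulAut.conj p • A with hE
  have hEP : E ≤ P := sup_le hAP (conj_le_P hAP hp)
  have hbA : ∀ t, p * a t * p⁻¹ ∈ MulAut.conj p • A := fun t => by
    rw [mem_conj_iff]
    have e1 : p⁻¹ * (p * a t * p⁻¹) * p = a t := by group
    rw [e1]
    exact ha t
  have hbP : ∀ t, p * a t * p⁻¹ ∈ P := fun t => conj_le_P hAP hp (hbA t)
  -- the fixed points of `E`
  have hfix : ∀ m : Q.Mod, m ∈ Q.ad (centralizer (E : Set G)) ↔ ∀ x ∈ E, x * Q.val m * x⁻¹ = Q.val m := by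
    intro m
    rw [Nrm.mem_ad, mem_centralizer_iff]
    exact forall₂_congr fun x _ => mul_inv_eq_iff_eq_mul.symm
  have hDE : ∀ m : Q.Mod, Q.val m ∈ DD M j → m ∈ Q.ad (centralizer (E : Set G)) := by
    intro m hm
    have h1 : E ≤ centralizer ({Q.val m} : Set G) := by
      refine sup_le (fun x hx => ?_) fun x hx => ?_
      · rw [mem_centralizer_singleton_iff]
        exact cent_YY h O hAP hx (DD_le_YY h j hm)
      · rw [mem_centralizer_singleton_iff]
        exact mul_inv_eq_iff_eq_mul.1 (fix_D h O hAP hp hpA hm.2 hx)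
    exact (hfix m).2 fun x hx => mul_inv_eq_iff_eq_mul.2 (mem_centralizer_singleton_iff.1 (h1 hx))
  have hDm : ∀ m : Q.Mod, m ∈ Q.ad (centralizer (E : Set G)) → Q.val m ∈ blk M j → Q.val m ∈ DD M j := by
    intro m h2 h1
    have h3 := (hfix m).1 h2
    exact mem_DD_of_fixed h O hAP hp hpA h1 (fun x hx => h3 x (mem_sup_left hx)) fun x hx => h3 x (mem_sup_right hx)
  have hind : ∀ x y, e x + f y ∈ Q.ad (centralizer (E : Set G)) → x = 0 ∧ y = 0 := by
    intro x y hxy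
    have h1 := (mem_DD h (hef x y).1).1 (hDm _ hxy (hef x y).1)
    rw [(hef x y).2] at h1
    exact ⟨congrFun h1 0, congrFun h1 1⟩
  have hmA : (A.subgroupOf H).map H.subtype = A :=
    (subgroupOf_map_subtype _ _).trans (inf_eq_left.2 (hAP.trans hPH))
  have hcE : Q.ad (centralizer (E : Set G)) =
      (fxd (A.subgroupOf H) : AddSubgroup Q.Mod) ⊓ fxd (MulAut.conj (⟨p, hPH hp⟩ : H) • A.subgroupOf H) := by
    rw [fxd_eq, fxd_eq, map_conj, hmA, TypesNat.ad_inf, hE]
    congr 1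
    ext x
    rw [mem_inf, mem_centralizer_iff, mem_centralizer_iff, mem_centralizer_iff]
    constructor
    · exact fun h1 => ⟨fun y hy => h1 y (mem_sup_left hy), fun y hy => h1 y (mem_sup_right hy)⟩
    · rintro ⟨h1, h2⟩ y hy
      have h3 : A ⊔ MulAut.conj p • A ≤ centralizer ({x} : Set G) :=
        sup_le (fun z hz => mem_centralizer_singleton_iff.2 (h1 z hz))
          fun z hz => mem_centralizer_singleton_iff.2 (h2 z hz)
      exact mem_centralizer_singleton_iff.1 (h3 hy)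
  have hi : (Q.ad (centralizer (E : Set G))).index ≤ Nat.card F ^ 2 := by
    rw [hcE, pow_two]
    refine AddSubgroup.index_inf_le.trans (Nat.mul_le_mul ?_ ?_)
    · rw [index_fxd, hmA]
      exact relIndex_le h O hAP
    · rw [index_fxd_conj, index_fxd, hmA]
      exact relIndex_le h O hAP
  -- `W = e(F) ⊕ f(F)`
  have hinj : Function.Injective (fun x : F × F => e x.1 + f x.2) := by
    intro x y hxy
    have h1 := congrArg (fun m => M.e (Q.val m) j) hxy
    simp only [(hef _ _).2] at h1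
    exact Prod.ext (congrFun h1 0) (congrFun h1 1)
  have hmemW : ∀ m : Q.Mod, m ∈ e.range ⊔ f.range ↔ ∃ x y, e x + f y = m := by
    intro m
    rw [AddSubgroup.mem_sup]
    constructor
    · rintro ⟨_, ⟨x, rfl⟩, _, ⟨y, rfl⟩, h1⟩
      exact ⟨x, y, h1⟩
    · rintro ⟨x, y, h1⟩
      exact ⟨_, ⟨x, rfl⟩, _, ⟨y, rfl⟩, h1⟩
  have hcard : Nat.card (e.range ⊔ f.range : AddSubgroup Q.Mod) = Nat.card F ^ 2 := by
    rw [pow_two, ← Nat.card_prod]
    refine (Nat.card_congr (Equiv.ofBijective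
      (fun x : F × F => (⟨e x.1 + f x.2, (hmemW _).2 ⟨_, _, rfl⟩⟩ : (e.range ⊔ f.range : AddSubgroup Q.Mod))) ⟨?_, ?_⟩)).symm
    · intro x y hxy
      exact hinj (congrArg Subtype.val hxy)
    · rintro ⟨m, hm⟩
      obtain ⟨x, y, h1⟩ := (hmemW m).1 hm
      exact ⟨(x, y), Subtype.ext h1⟩
  have h0 : (e.range ⊔ f.range) ⊓ Q.ad (centralizer (E : Set G)) = ⊥ := by
    rw [eq_bot_iff]
    rintro m ⟨h1, h2⟩
    obtain ⟨x, y, rfl⟩ := (hmemW m).1 h1
    obtain ⟨rfl, rfl⟩ := hind x y h2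
    rw [map_zero, map_zero, add_zero]
    exact AddSubgroup.mem_bot.2 rfl
  have htop := sup_top Q h0 hi hcard.ge
  have hdec : ∀ v : Q.Mod, ∃ x y, ∃ c ∈ Q.ad (centralizer (E : Set G)), v = e x + f y + c := by
    intro v
    have h1 : v ∈ (e.range ⊔ f.range) ⊔ Q.ad (centralizer (E : Set G)) := by rw [htop]; exact AddSubgroup.mem_top _
    obtain ⟨w, hw, c, hc, rfl⟩ := AddSubgroup.mem_sup.1 h1
    obtain ⟨x, y, rfl⟩ := (hmemW w).1 hw
    exact ⟨x, y, c, hc, rfl⟩
  -- `a t` on `blk M j`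
  have hcm : ∀ t, ∀ v ∈ blk M j, a t * v * (a t)⁻¹ = l (t * M.e v j 1) * g (t * M.e v j 1 ^ 2) * v := by
    intro t v hv
    rw [← C.cm (a t) (haP t) t (haA t) v (blk_le h j hv)]
    group
  -- commutation inside `V`
  have hcc : ∀ {x y : G}, x ∈ V → y ∈ V → x * y = y * x := fun hx hy => h.cm hx hy
  refine ⟨e, f, del, fun t => ⟨a t, hPH (haP t)⟩, fun t => ⟨p * a t * p⁻¹, hPH (hbP t)⟩, p, hp, ?_, ha, hbA, ?_, ?_, ?_, ?_⟩
  · refine
      { dec := hdec
        ind := hind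
        dC := fun s => hDE _ (C.gDD h s)
        up_e := fun t x => ?_
        up_f := fun t x => ?_
        up_c := fun t c hc => ?_
        lo_e := fun t x => ?_
        lo_f := fun t x => ?_
        lo_c := fun t c hc => ?_ }
    · refine Nrm.ext ?_
      rw [Nrm.val_smul]
      change a t * l x * (a t)⁻¹ = l x
      rw [hcm t _ (C.lm x), C.le]
      simp [C.l_zero, C.g_zero]
    · refine Nrm.ext ?_
      rw [Nrm.val_smul, Nrm.val_add, Nrm.val_add]
      change a t * (p * l x * p⁻¹) * (a t)⁻¹ = p * l x * p⁻¹ * l (t * x) * g (t * x ^ 2)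
      rw [hcm t _ (hfm x), hfe]
      change l (t * x) * g (t * x ^ 2) * (p * l x * p⁻¹) = _
      rw [hcc (mul_mem (C.lV h _) (C.gV h _)) (blk_le h j (hfm x))]
      group
    · exact (smul_eq_iff Q _ c).2 ((hfix c).1 hc _ (mem_sup_left (ha t)))
    · refine Nrm.ext ?_
      rw [Nrm.val_smul, Nrm.val_add, Nrm.val_add]
      change p * a t * p⁻¹ * l x * (p * a t * p⁻¹)⁻¹ = l x * (p * l (t * x) * p⁻¹) * g (t * x ^ 2)
      have hpi : ActsSL M.e V D p⁻¹ (sg j (wl F)⁻¹) := by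
        have h1 := h.acts_inv hp hpA
        have h2 : (sg j (wl F))⁻¹ = (sg j (wl F)⁻¹ : Fin k → _) :=
          inv_eq_of_mul_eq_one_right (by rw [← sg_mul, mul_inv_cancel, sg_one])
        rwa [h2] at h1
      have hv : p⁻¹ * l x * p ∈ blk M j := by
        have h1 := conj_blk h (inv_mem hp) hpi (C.lm x)
        rwa [inv_inv] at h1
      have hv1 : M.e (p⁻¹ * l x * p) j 1 = x := by
        have h1 := e_wl h hpA hv
        have e1 : p * (p⁻¹ * l x * p) * p⁻¹ = l x := by group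
        rw [e1, C.le] at h1
        exact (congrFun h1 0).symm
      have h2 := hcm t _ hv
      rw [hv1] at h2
      have h3 : p * g (t * x ^ 2) * p⁻¹ = g (t * x ^ 2) := by
        rw [hpA.2 _ (C.gD (t * x ^ 2)), mul_inv_cancel_right]
      calc p * a t * p⁻¹ * l x * (p * a t * p⁻¹)⁻¹
          = p * (a t * (p⁻¹ * l x * p) * (a t)⁻¹) * p⁻¹ := by group
        _ = p * (l (t * x) * g (t * x ^ 2) * (p⁻¹ * l x * p)) * p⁻¹ := by rw [h2]
        _ = (p * l (t * x) * p⁻¹) * (p * g (t * x ^ 2) * p⁻¹) * l x := by group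
        _ = (p * l (t * x) * p⁻¹) * g (t * x ^ 2) * l x := by rw [h3]
        _ = l x * ((p * l (t * x) * p⁻¹) * g (t * x ^ 2)) :=
          hcc (mul_mem (blk_le h j (hfm _)) (C.gV h _)) (C.lV h _)
        _ = _ := by group
    · refine Nrm.ext ?_
      rw [Nrm.val_smul]
      change p * a t * p⁻¹ * (p * l x * p⁻¹) * (p * a t * p⁻¹)⁻¹ = p * l x * p⁻¹
      have h2 := hcm t _ (C.lm x)
      rw [C.le] at h2
      have h3 : a t * l x * (a t)⁻¹ = l x := by
        rw [h2]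
        simp [C.l_zero, C.g_zero]
      calc p * a t * p⁻¹ * (p * l x * p⁻¹) * (p * a t * p⁻¹)⁻¹ = p * (a t * l x * (a t)⁻¹) * p⁻¹ := by group
        _ = _ := by rw [h3]
    · exact (smul_eq_iff Q _ c).2 ((hfix c).1 hc _ (mem_sup_right (hbA t)))
  · -- `A` acts as the `up t`
    intro x hx
    obtain ⟨β, hβ⟩ := O.act x hx
    refine ⟨β, fun m => ?_⟩
    obtain ⟨x', y', c, hc, rfl⟩ := hdec m
    have e1 : (⟨x, hPH (hAP hx)⟩ : H) • (e x' + f y') = (⟨a β, hPH (haP β)⟩ : H) • (e x' + f y') := by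
      refine Nrm.ext ?_
      rw [Nrm.val_smul, Nrm.val_smul]
      exact h.same (hAP hx) (haP β) hβ (haA β) (blk_le h j (hef x' y').1)
    have e2 : (⟨x, hPH (hAP hx)⟩ : H) • c = (⟨a β, hPH (haP β)⟩ : H) • c := by
      rw [(smul_eq_iff Q _ c).2 ((hfix c).1 hc _ (mem_sup_left hx)),
        (smul_eq_iff Q _ c).2 ((hfix c).1 hc _ (mem_sup_left (ha β)))]
    calc (⟨x, hPH (hAP hx)⟩ : H) • (e x' + f y' + c)
        = (⟨x, hPH (hAP hx)⟩ : H) • (e x' + f y') + (⟨x, hPH (hAP hx)⟩ : H) • c := smul_add _ _ _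
      _ = (⟨a β, hPH (haP β)⟩ : H) • (e x' + f y') + (⟨a β, hPH (haP β)⟩ : H) • c := by rw [e1, e2]
      _ = (⟨a β, hPH (haP β)⟩ : H) • (e x' + f y' + c) := (smul_add _ _ _).symm
  · apply le_antisymm
    · refine sup_le ?_ ?_
      · rintro _ ⟨s, rfl⟩
        exact C.lY h s
      · rintro _ ⟨s, rfl⟩
        exact C.gY h s
    · intro m hm
      obtain ⟨s, x, hsx⟩ := C.exists_eq h hm
      have h1 : m = e s + del x := Nrm.ext (by rw [hsx]; rfl)
      rw [h1]
      exact add_mem (AddSubgroup.mem_sup_left ⟨s, rfl⟩) (AddSubgroup.mem_sup_right ⟨x, rfl⟩)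
  · apply le_antisymm
    · refine sup_le (sup_le ?_ ?_) ?_
      · rintro _ ⟨s, rfl⟩
        exact C.lm s
      · rintro _ ⟨s, rfl⟩
        exact hfm s
      · rintro _ ⟨s, rfl⟩
        exact C.gm s
    · intro m hm
      obtain ⟨x, y, c, hc, rfl⟩ := hdec m
      have h1 : Q.val c ∈ blk M j := by
        have h2 : Q.val (e x + f y + c) ∈ blk M j := hm
        rw [Nrm.val_add] at h2
        exact (mul_mem_cancel_left (hef x y).1).1 h2
      obtain ⟨s, hs⟩ := C.gs _ h1 (hDm c hc h1).2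
      have h3 : c = del s := Nrm.ext hs.symm
      rw [h3]
      exact add_mem (AddSubgroup.mem_sup_left ((hmemW _).2 ⟨x, y, rfl⟩)) (AddSubgroup.mem_sup_right ⟨s, rfl⟩)
  · ext m
    constructor
    · rintro ⟨s, rfl⟩
      exact C.gDD h s
    · intro hm
      obtain ⟨s, hs⟩ := C.gs _ hm.1 hm.2
      exact ⟨s, Nrm.ext hs⟩

end Cfsg.Agent.Omega.NOThreeL.RRed.Blk.BkDOf

end
end

-- part: Mrg/Omega/NOThreeL/RRed/Blk/TypesLine
section
section


/-!
# NO-3L, box R: THEOREM TYPES (helper797, #24779): a natural block depends only on its line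

* `XH Q` : the group induced by `H` on `U`, `ph Q : H →* XH Q`; `no_XH` : no over-offender;
* `map`, `cj` : transport of `TypesGam.Bk`;
* **`IsNB Q A R N C`** : `A ≤ H` acts on `U` as the root group of the natural block `N` (`|F| ≥ 4`), `R = [U, A]`, `U = N × C`;
* `IsNB.conj` : conjugation by `g ∈ H`;
* **`IsNB.eq`** : `N`, `C` and the group induced by `A` depend only on the line `R`;
* **`isNB_of`** : the blocks of a natural module (`One M U A j`, `DD M j = 1`).
-/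

set_option autoImplicit false
set_option linter.unusedSectionVars false

namespace Cfsg.Agent.Omega.NOThreeL.RRed.Blk.TypesNat

open Subgroup Cfsg Cfsg.Agent.ZN
open Cfsg.Agent.Omega.FFThm Cfsg.Agent.Lib.SL2Mat
open Cfsg.Agent.Omega.NatPair (ap)
open Cfsg.Agent.Omega.NO3S.ThmB Cfsg.Agent.Omega.NO3S.KeyRad
open Cfsg.Agent.Omega.NOThreeL.RSplit (Nrm)
open Cfsg.Agent.Omega.NOThreeL.RRed.NS hiding rt
open Cfsg.Agent.Omega.NOThreeL.RRed.Blk.TypesGam (Bk rt NO)
open scoped Pointwise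

universe u v w w'

/-! ### the faithful group -/

section XH

variable {G : Type u} [Group G] {H U : Subgroup G} (Q : Nrm H U)

/-- the group induced by `H` on `U` -/
def XH : Subgroup (AddMonoid.End Q.Mod)ˣ := (DistribMulAction.toAddMonoidEnd H Q.Mod).toHomUnits.range

/-- the homomorphism -/
def ph : H →* XH Q := (DistribMulAction.toAddMonoidEnd H Q.Mod).toHomUnits.rangeRestrict

theorem ph_smul (x : H) (m : Q.Mod) : ph Q x • m = x • m := rfl

theorem XH_faith (x : XH Q) (hx : ∀ v : Q.Mod, x • v = v) : x = 1 :=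
  Subtype.ext (Units.ext (AddMonoidHom.ext fun v => hx v))

theorem ph_eq {x y : H} : ph Q x = ph Q y ↔ ∀ m : Q.Mod, x • m = y • m := by
  constructor
  · intro h m
    rw [← ph_smul, ← ph_smul, h]
  · intro h
    exact Subtype.ext (Units.ext (AddMonoidHom.ext fun v => h v))

theorem ph_surj : Function.Surjective (ph Q) :=
  (DistribMulAction.toAddMonoidEnd H Q.Mod).toHomUnits.rangeRestrict_surjective

instance [Finite G] : Finite (XH Q) := Finite.of_surjective (ph Q) (ph_surj Q)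

theorem mem_ker {x : H} : x ∈ (ph Q).ker ↔ (x : G) ∈ centralizer (U : Set G) := by
  rw [MonoidHom.mem_ker, ← map_one (ph Q), ph_eq, mem_centralizer_iff]
  constructor
  · intro h u hu
    have h1 := h (Q.of u hu)
    rw [one_smul, smul_eq_iff, Nrm.val_of, mul_inv_eq_iff_eq_mul] at h1
    exact h1.symm
  · intro h m
    rw [one_smul, smul_eq_iff, mul_inv_eq_iff_eq_mul]
    exact (h _ (Q.val_mem m)).symm

theorem no_XH [Finite G] (hno : NoOverM U H) : NO (XH Q) Q.Mod := by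
  intro W hWc hW2
  have hsur := ph_surj Q
  set B : Subgroup H := W.comap (ph Q) with hB
  set A : Subgroup G := B.map H.subtype with hA
  have hAH : A ≤ H := by
    rintro _ ⟨y, -, rfl⟩
    exact y.2
  have hE : ElemM U A := by
    refine ⟨?_, ?_⟩
    · rintro _ ⟨x, hx, rfl⟩
      have h1 : ph Q (x ^ 2) = 1 := by
        rw [pow_two, map_mul]
        exact hW2 _ hx
      exact (mem_ker Q).1 h1
    · rintro _ ⟨x, hx, rfl⟩ _ ⟨y, hy, rfl⟩
      have h1 : ph Q (x * y * x⁻¹ * y⁻¹) = 1 := by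
        rw [map_mul, map_mul, map_mul, map_inv, map_inv, hWc _ hx _ hy]
        group
      exact (mem_ker Q).1 h1
  have h1 := hno A hAH hE
  -- orders
  have c1 : Nat.card A = Nat.card B :=
    (Nat.card_congr (Subgroup.equivMapOfInjective B H.subtype H.subtype_injective).toEquiv).symm
  have c2 : Nat.card B = Nat.card (ph Q).ker * Nat.card W := by
    have h2 := Subgroup.relIndex_mul_relIndex (⊥ : Subgroup H) (ph Q).ker B bot_le (fun x hx => by
      rw [hB, mem_comap, MonoidHom.mem_ker.1 hx]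
      exact one_mem _)
    rw [relIndex_bot_left, relIndex_bot_left, Subgroup.relIndex_ker, hB, Subgroup.map_comap_eq_self_of_surjective hsur] at h2
    exact h2.symm
  have c3 : Nat.card ↥(A ⊓ centralizer (U : Set G)) = Nat.card (ph Q).ker := by
    have h2 : A ⊓ centralizer (U : Set G) = (ph Q).ker.map H.subtype := by
      ext x
      constructor
      · rintro ⟨⟨y, hy, rfl⟩, hx⟩
        exact ⟨y, (mem_ker Q).2 hx, rfl⟩
      · rintro ⟨y, hy, rfl⟩
        refine ⟨⟨y, ?_, rfl⟩, (mem_ker Q).1 hy⟩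
        change ph Q y ∈ W
        rw [MonoidHom.mem_ker.1 hy]
        exact one_mem _
    rw [h2]
    exact (Nat.card_congr (Subgroup.equivMapOfInjective _ H.subtype H.subtype_injective).toEquiv).symm
  have c4 : Nat.card ↥(U ⊓ centralizer (A : Set G)) = Nat.card (fxd W : AddSubgroup Q.Mod) := by
    rw [← Nrm.card_ad (A := Q) (inf_le_left : U ⊓ centralizer (A : Set G) ≤ U)]
    have h2 : Q.ad (U ⊓ centralizer (A : Set G)) = (fxd W : AddSubgroup Q.Mod) := by
      ext m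
      rw [Nrm.mem_ad, mem_inf, mem_centralizer_iff]
      constructor
      · rintro ⟨-, h3⟩ x hx
        obtain ⟨y, rfl⟩ := hsur x
        rw [ph_smul, smul_eq_iff, mul_inv_eq_iff_eq_mul]
        exact h3 y ⟨y, hx, rfl⟩
      · intro h3
        refine ⟨Q.val_mem m, ?_⟩
        rintro _ ⟨y, hy, rfl⟩
        have h4 := h3 (ph Q y) hy
        rw [ph_smul, smul_eq_iff, mul_inv_eq_iff_eq_mul] at h4
        exact h4
    rw [h2]
  have c5 := AddSubgroup.card_mul_index (fxd W : AddSubgroup Q.Mod)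
  have c6 : Nat.card Q.Mod = Nat.card U := rfl
  rw [c1, c2, c3, c4, ← c6, ← c5] at h1
  have p1 : 0 < Nat.card (ph Q).ker := Nat.card_pos
  have p2 : 0 < Nat.card (fxd W : AddSubgroup Q.Mod) := Nat.card_pos
  refine Nat.le_of_mul_le_mul_left (c := Nat.card (ph Q).ker * Nat.card (fxd W : AddSubgroup Q.Mod)) ?_ (Nat.mul_pos p1 p2)
  calc _ = Nat.card (ph Q).ker * Nat.card W * Nat.card (fxd W : AddSubgroup Q.Mod) := by ring
    _ ≤ _ := h1
    _ = _ := by ring

end XH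

/-! ### transport of `Bk` -/

section tr

variable {X : Type u} {X' : Type v} {V : Type w} [Group X] [Group X'] [AddCommGroup V] [DistribMulAction X V]
  [DistribMulAction X' V] {F : Type w'} [Field F] {e f : F →+ V} {C : AddSubgroup V} {up lo : F → X}

theorem map (h : Bk e f C up lo) (φ : X →* X') (hφ : ∀ (x : X) (v : V), φ x • v = x • v) :
    Bk e f C (fun t => φ (up t)) (fun t => φ (lo t)) where
  dec := h.dec
  ind := h.ind
  up_e t x := by rw [hφ, h.up_e]
  up_f t x := by rw [hφ, h.up_f]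
  up_c t c hc := by rw [hφ, h.up_c t c hc]
  lo_e t x := by rw [hφ, h.lo_e]
  lo_f t x := by rw [hφ, h.lo_f]
  lo_c t c hc := by rw [hφ, h.lo_c t c hc]

/-- `g e` -/
def gm (g : X) (e : F →+ V) : F →+ V := (DistribSMul.toAddMonoidHom V g).comp e

theorem gm_apply (g : X) (e : F →+ V) (x : F) : gm g e x = g • e x := rfl

theorem gm_range (g : X) (e : F →+ V) : (gm g e).range = g • e.range := by
  ext v
  constructor
  · rintro ⟨x, rfl⟩
    exact ⟨e x, ⟨x, rfl⟩, rfl⟩
  · rintro ⟨_, ⟨x, rfl⟩, rfl⟩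
    exact ⟨x, rfl⟩

/-- conjugation -/
theorem cj (h : Bk e f C up lo) (g : X) :
    Bk (gm g e) (gm g f) (g • C) (fun t => g * up t * g⁻¹) (fun t => g * lo t * g⁻¹) where
  dec v := by
    obtain ⟨x, y, c, hc, hv⟩ := h.dec (g⁻¹ • v)
    refine ⟨x, y, g • c, ⟨c, hc, rfl⟩, ?_⟩
    rw [gm_apply, gm_apply, ← smul_add, ← smul_add, ← hv, smul_inv_smul]
  ind x y hxy := by
    refine h.ind x y ?_
    rw [gm_apply, gm_apply, ← smul_add, mem_smul', inv_smul_smul] at hxy
    exact hxy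
  up_e t x := by rw [gm_apply, mul_smul, mul_smul, inv_smul_smul, h.up_e]
  up_f t x := by rw [gm_apply, mul_smul, mul_smul, inv_smul_smul, h.up_f, smul_add]; rfl
  up_c t c hc := by
    rw [mem_smul'] at hc
    rw [mul_smul, mul_smul, h.up_c t _ hc, smul_inv_smul]
  lo_e t x := by rw [gm_apply, mul_smul, mul_smul, inv_smul_smul, h.lo_e, smul_add]; rfl
  lo_f t x := by rw [gm_apply, mul_smul, mul_smul, inv_smul_smul, h.lo_f]
  lo_c t c hc := by
    rw [mem_smul'] at hc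
    rw [mul_smul, mul_smul, h.lo_c t _ hc, smul_inv_smul]

end tr

/-! ### natural blocks in `G` -/

section nb

variable {G : Type u} [Group G] {H U : Subgroup G}

/-- `A` acts on `U` as the root group of the natural block `N`, `R = [U, A]`, `U = N × C`. -/
structure NB (Q : Nrm H U) (A R N C : Subgroup G) {F : Type} [Field F] (e f : F →+ Q.Mod) (up lo : F → H) : Prop where
  bk : Bk e f (Q.ad C) up lo
  upA : ∀ t, (up t : G) ∈ A
  Aup : ∀ a : H, (a : G) ∈ A → ∃ t, ∀ m : Q.Mod, a • m = up t • m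
  AH : A ≤ H
  eR : e.range = Q.ad R
  eN : e.range ⊔ f.range = Q.ad N
  RU : R ≤ U
  NU : N ≤ U
  CU : C ≤ U

namespace NB

variable {Q : Nrm H U} {A R N C : Subgroup G} {F : Type} [Field F] {e f : F →+ Q.Mod} {up lo : F → H}
  (h : NB Q A R N C e f up lo)
include h

/-- conjugation by `g ∈ H` -/
theorem conj (g : H) : NB Q (MulAut.conj (g : G) • A) (MulAut.conj (g : G) • R) (MulAut.conj (g : G) • N)
    (MulAut.conj (g : G) • C) (gm g e) (gm g f) (fun t => g * up t * g⁻¹) (fun t => g * lo t * g⁻¹) where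
  bk := by
    have h1 := cj h.bk g
    rwa [Nrm.smul_ad] at h1
  upA t := by
    have := conj_mem' (x := (g : G)) (h.upA t)
    exact this
  Aup a ha := by
    have h1 : ((g⁻¹ * a * g : H) : G) ∈ A := mem_conj.1 ha
    obtain ⟨t, ht⟩ := h.Aup _ h1
    refine ⟨t, fun m => ?_⟩
    have h2 := ht (g⁻¹ • m)
    rw [mul_smul, mul_smul, smul_inv_smul] at h2
    rw [mul_smul, mul_smul, ← h2, smul_inv_smul]
  AH := by
    intro x hx
    have h1 := h.AH (mem_conj.1 hx)
    have e1 : x = g * ((g : G)⁻¹ * x * g) * (g : G)⁻¹ := by group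
    rw [e1]
    exact mul_mem (mul_mem g.2 h1) (inv_mem g.2)
  eR := by rw [gm_range, h.eR, Nrm.smul_ad]
  eN := by
    rw [gm_range, gm_range, ← Nrm.smul_ad, ← h.eN]
    ext v
    constructor
    · intro hv
      obtain ⟨a, ha, b, hb, rfl⟩ := AddSubgroup.mem_sup.1 hv
      rw [mem_smul', smul_add]
      exact add_mem (AddSubgroup.mem_sup_left (mem_smul'.1 ha)) (AddSubgroup.mem_sup_right (mem_smul'.1 hb))
    · intro hv
      rw [mem_smul'] at hv
      obtain ⟨a, ha, b, hb, hab⟩ := AddSubgroup.mem_sup.1 hv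
      have e1 : v = g • a + g • b := by rw [← smul_add, hab, smul_inv_smul]
      rw [e1]
      refine add_mem (AddSubgroup.mem_sup_left ?_) (AddSubgroup.mem_sup_right ?_)
      · rw [mem_smul', inv_smul_smul]; exact ha
      · rw [mem_smul', inv_smul_smul]; exact hb
  RU := by
    rintro _ ⟨x, hx, rfl⟩
    exact Q.nrm' g.2 (h.RU hx)
  NU := by
    rintro _ ⟨x, hx, rfl⟩
    exact Q.nrm' g.2 (h.NU hx)
  CU := by
    rintro _ ⟨x, hx, rfl⟩
    exact Q.nrm' g.2 (h.CU hx)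

/-- a root element moves every vector by an element of the line -/
theorem sub_mem (t : F) (v : Q.Mod) : ∃ x, up t • v = v + e x := by
  obtain ⟨x, y, c, hc, rfl⟩ := h.bk.dec v
  refine ⟨t * y, ?_⟩
  rw [smul_add, smul_add, h.bk.up_e, h.bk.up_f, h.bk.up_c t c hc]
  abel

/-- the root groups of two blocks with the same line coincide on `U` -/
theorem le_rt [Finite G] [Finite F] (hU2 : IsElementaryAbelian 2 U) (hno : NoOverM U H) (hF : 4 ≤ Nat.card F) {A' N' C' : Subgroup G}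
    {F' : Type} [Field F'] {e' f' : F' →+ Q.Mod} {up' lo' : F' → H} (h' : NB Q A' R N' C' e' f' up' lo') (t : F') :
    ph Q (up' t) ∈ rt (fun t => ph Q (up t)) := by
  have h2 : ∀ v : Q.Mod, v + v = 0 := fun v => Nrm.ext (by
    rw [Nrm.val_add, Nrm.val_zero]
    have := hU2.2 _ (Q.val_mem v)
    rwa [pow_two] at this)
  refine Bk.gam (map h.bk (ph Q) (ph_smul Q)) h2 (fun x hx => XH_faith Q x hx) (no_XH Q hno) hF ?_ ?_ ?_
  · intro z
    have h3 : e z ∈ e'.range := by rw [h'.eR, ← h.eR]; exact ⟨z, rfl⟩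
    obtain ⟨y, hy⟩ := h3
    rw [ph_smul, ← hy, h'.bk.up_e]
  · intro c _
    obtain ⟨x, hx⟩ := h'.sub_mem t c
    have h3 : e' x ∈ e.range := by rw [h.eR, ← h'.eR]; exact ⟨x, rfl⟩
    obtain ⟨y, hy⟩ := h3
    exact ⟨y, by rw [ph_smul, hx, hy]⟩
  · intro z
    obtain ⟨x, hx⟩ := h'.sub_mem t (f z)
    have h3 : e' x ∈ e.range := by rw [h.eR, ← h'.eR]; exact ⟨x, rfl⟩
    obtain ⟨y, hy⟩ := h3
    exact ⟨y, 0, AddSubgroup.zero_mem _, by rw [ph_smul, hx, hy, add_zero]⟩

theorem rt_eq [Finite G] [Finite F] (hU2 : IsElementaryAbelian 2 U) (hno : NoOverM U H) (hF : 4 ≤ Nat.card F)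
    {A' N' C' : Subgroup G} {F' : Type} [Field F'] [Finite F'] (hF' : 4 ≤ Nat.card F') {e' f' : F' →+ Q.Mod} {up' lo' : F' → H}
    (h' : NB Q A' R N' C' e' f' up' lo') :
    rt (fun t => ph Q (up t)) = rt (fun t => ph Q (up' t)) := by
  apply le_antisymm
  · rw [rt, closure_le]
    rintro _ ⟨t, rfl⟩
    exact h'.le_rt hU2 hno hF' h t
  · rw [rt, closure_le]
    rintro _ ⟨t, rfl⟩
    exact h.le_rt hU2 hno hF h' t

/-- **A natural block depends only on its line.** -/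
theorem eq [Finite G] [Finite F] (hU2 : IsElementaryAbelian 2 U) (hno : NoOverM U H) (hF : 4 ≤ Nat.card F)
    {A' N' C' : Subgroup G} {F' : Type} [Field F'] [Finite F'] (hF' : 4 ≤ Nat.card F') {e' f' : F' →+ Q.Mod}
    {up' lo' : F' → H} (h' : NB Q A' R N' C' e' f' up' lo') :
    N = N' ∧ C = C' ∧ (∀ a ∈ A, ∃ a' ∈ A', ∀ u ∈ U, a * u * a⁻¹ = a' * u * a'⁻¹) := by
  have h2 : ∀ v : Q.Mod, v + v = 0 := fun v => Nrm.ext (by
    rw [Nrm.val_add, Nrm.val_zero]
    have := hU2.2 _ (Q.val_mem v)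
    rwa [pow_two] at this)
  have hrt := h.rt_eq hU2 hno hF hF' h'
  obtain ⟨h3, -, h5⟩ := Bk.eq (map h.bk (ph Q) (ph_smul Q)) (map h'.bk (ph Q) (ph_smul Q)) h2
    (fun x hx => XH_faith Q x hx) (no_XH Q hno) hF hrt
  rw [h.eN, h'.eN] at h5
  refine ⟨ad_inj Q h.NU h'.NU h5, ad_inj Q h.CU h'.CU h3, fun a ha => ?_⟩
  obtain ⟨t, ht⟩ := h.Aup ⟨a, h.AH ha⟩ ha
  have h6 : ph Q (up t) ∈ rt (fun t => ph Q (up' t)) := hrt ▸ subset_closure ⟨t, rfl⟩
  obtain ⟨t', ht'⟩ := ((map h'.bk (ph Q) (ph_smul Q)).mem_rt h2 (fun x hx => XH_faith Q x hx)).1 h6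
  refine ⟨up' t', h'.upA t', fun u hu => ?_⟩
  have h7 := (ph_eq Q).1 ht' (Q.of u hu)
  rw [← ht] at h7
  exact (Nrm.ext_iff.1 h7).symm

end NB

/-- `A` acts on `U` as the root group of a natural block `N` over a field with at least four elements, `R = [U, A]`,
`U = N × C`. -/
def IsNB (Q : Nrm H U) (A R N C : Subgroup G) : Prop :=
  ∃ (F : Type) (_ : Field F) (_ : Finite F) (_ : CharP F 2) (e f : F →+ Q.Mod) (up lo : F → H),
    4 ≤ Nat.card F ∧ NB Q A R N C e f up lo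

theorem IsNB.conj {Q : Nrm H U} {A R N C : Subgroup G} (h : IsNB Q A R N C) {g : G} (hg : g ∈ H) :
    IsNB Q (MulAut.conj g • A) (MulAut.conj g • R) (MulAut.conj g • N) (MulAut.conj g • C) := by
  obtain ⟨F, i1, i2, i3, e, f, up, lo, hF, h⟩ := h
  exact ⟨F, i1, i2, i3, _, _, _, _, hF, h.conj ⟨g, hg⟩⟩

/-- **A natural block depends only on its line.** -/
theorem IsNB.eq [Finite G] {Q : Nrm H U} {A R N C A' N' C' : Subgroup G} (h : IsNB Q A R N C) (h' : IsNB Q A' R N' C')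
    (hU2 : IsElementaryAbelian 2 U) (hno : NoOverM U H) :
    N = N' ∧ C = C' ∧ (∀ a ∈ A, ∃ a' ∈ A', ∀ u ∈ U, a * u * a⁻¹ = a' * u * a'⁻¹) := by
  obtain ⟨F, i1, i2, i3, e, f, up, lo, hF, h⟩ := h
  obtain ⟨F', j1, j2, j3, e', f', up', lo', hF', h'⟩ := h'
  exact h.eq hU2 hno hF hF' h'

/-- **The blocks of a natural module.** -/
theorem isNB_of [Finite G] {F : Type} [Field F] [Finite F] [CharP F 2] {S P V D : Subgroup G} {k : ℕ}
    {M : NatKM F S P V D k} (h : Nb M) (hF : 2 < Nat.card F) (Q : Nrm H U) (hPH : P ≤ H) (hVU : V ≤ U)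
    {A : Subgroup G} {j : Fin k} (O : One M U A j) (hAP : A ≤ P) (hD : DD M j = ⊥) :
    ∃ p ∈ P, IsNB Q A (YY h j) (blk M j) (U ⊓ centralizer ((A ⊔ MulAut.conj p • A : Subgroup G) : Set G)) := by
  obtain ⟨e, f, up, lo, p, hp, hb, h1, -, h3, h4, h5⟩ := exists_bk h hF Q hPH hVU O hAP hD
  have hF4 : 4 ≤ Nat.card F := by
    by_contra hcon
    have h6 : Nat.card F = 3 := by omega
    have h7 : (3 : ℕ) • (1 : F) = 0 := by rw [← h6]; exact card_nsmul_eq_zero'
    have h8 : (2 : ℕ) • (1 : F) = 0 := by rw [two_nsmul]; exact CharTwo.add_self_eq_zero 1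
    have h9 : (3 : ℕ) • (1 : F) = (2 : ℕ) • (1 : F) + 1 := succ_nsmul _ _
    rw [h7, h8, zero_add] at h9
    exact zero_ne_one h9
  refine ⟨p, hp, F, inferInstance, inferInstance, inferInstance, e, f, up, lo, hF4, ?_⟩
  have hC : Q.ad (U ⊓ centralizer ((A ⊔ MulAut.conj p • A : Subgroup G) : Set G)) =
      Q.ad (centralizer ((A ⊔ MulAut.conj p • A : Subgroup G) : Set G)) :=
    le_antisymm (Nrm.ad_mono inf_le_right) fun m hm => ⟨Q.val_mem m, hm⟩
  exact
    { bk := by rw [hC]; exact hb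
      upA := h1
      Aup := fun a ha => h3 a ha
      AH := hAP.trans hPH
      eR := h4
      eN := h5
      RU := (YY_le_V h j).trans hVU
      NU := (blk_le h j).trans hVU
      CU := inf_le_left }

end nb

end Cfsg.Agent.Omega.NOThreeL.RRed.Blk.TypesNat

end

section


/-!
# NO-3L, box R: natural blocks under `N_G(U) ∩ N_G(H)`

* `tau Q hU` : conjugation by `n ∈ N(U)` on `Q.Mod`; `sig Q hU hH` : conjugation by `n ∈ N(U) ∩ N(H)` on `XH Q`;
* `NB.tr`, `NB.uniq` (module level: `Asm.NB`);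
* `IsNB.conjN` : conjugation of `IsNB` by `n ∈ N(U) ∩ N(H)`;
* **`IsNB.perm`** : a set of root groups closed under conjugation by `n`: `n` permutes the blocks and the lines.
-/

set_option autoImplicit false
set_option linter.unusedSectionVars false

namespace Cfsg.Agent.Omega.NOThreeL.RRed.Blk.TypesNat

open Subgroup Cfsg Cfsg.Agent.ZN
open Cfsg.Agent.Omega.FFThm Cfsg.Agent.Lib.SL2Mat
open Cfsg.Agent.Omega.NO3S.ThmB Cfsg.Agent.Omega.NO3S.KeyRad
open Cfsg.Agent.Omega.NOThreeL.RSplit (Nrm)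
open Cfsg.Agent.Omega.NOThreeL.RRed.NS hiding rt
open Cfsg.Agent.Omega.NOThreeL.RRed.Blk.TypesGam (Bk rt NO)
open scoped Pointwise

universe u v w w'

/-! ### module level -/

section ml

variable {X : Type u} {V : Type w} [Group X] [AddCommGroup V] [DistribMulAction X V]

/-- transport by a pair of automorphisms -/
theorem Bk_tr {F : Type w'} [Field F] {e f : F →+ V} {C : AddSubgroup V} {up lo : F → X} (h : Bk e f C up lo)
    (τ : V ≃+ V) (σ : X ≃* X) (hτ : ∀ (x : X) (v : V), τ (x • v) = σ x • τ v) :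
    Bk (τ.toAddMonoidHom.comp e) (τ.toAddMonoidHom.comp f) (C.map τ.toAddMonoidHom) (fun t => σ (up t))
      (fun t => σ (lo t)) where
  dec v := by
    obtain ⟨x, y, c, hc, hv⟩ := h.dec (τ.symm v)
    refine ⟨x, y, τ c, ⟨c, hc, rfl⟩, ?_⟩
    change v = τ (e x) + τ (f y) + τ c
    rw [← map_add, ← map_add, ← hv, τ.apply_symm_apply]
  ind x y hxy := by
    obtain ⟨c, hc, h1⟩ := hxy
    have h2 : τ c = τ (e x + f y) := by
      rw [map_add]
      exact h1
    exact h.ind x y (τ.injective h2 ▸ hc)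
  up_e t x := by
    change σ (up t) • τ (e x) = τ (e x)
    rw [← hτ, h.up_e]
  up_f t x := by
    change σ (up t) • τ (f x) = τ (f x) + τ (e (t * x))
    rw [← hτ, h.up_f, map_add]
  up_c t c hc := by
    obtain ⟨c, hc, rfl⟩ := hc
    change σ (up t) • τ c = τ c
    rw [← hτ, h.up_c t c hc]
  lo_e t x := by
    change σ (lo t) • τ (e x) = τ (e x) + τ (f (t * x))
    rw [← hτ, h.lo_e, map_add]
  lo_f t x := by
    change σ (lo t) • τ (f x) = τ (f x)
    rw [← hτ, h.lo_f]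
  lo_c t c hc := by
    obtain ⟨c, hc, rfl⟩ := hc
    change σ (lo t) • τ c = τ c
    rw [← hτ, h.lo_c t c hc]

theorem map_rt {F : Type w'} {up : F → X} (σ : X ≃* X) : rt (fun t => σ (up t)) = (rt up).map σ.toMonoidHom := by
  rw [rt, rt, MonoidHom.map_closure]
  congr 1
  ext y
  constructor
  · rintro ⟨t, rfl⟩
    exact ⟨up t, ⟨t, rfl⟩, rfl⟩
  · rintro ⟨_, ⟨t, rfl⟩, rfl⟩
    exact ⟨t, rfl⟩

/-- transport of `Asm.NB` -/
theorem NB_tr {D : Subgroup X} {N C : AddSubgroup V} (h : Asm.NB D N C) (τ : V ≃+ V) (σ : X ≃* X)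
    (hτ : ∀ (x : X) (v : V), τ (x • v) = σ x • τ v) :
    Asm.NB (D.map σ.toMonoidHom) (N.map τ.toAddMonoidHom) (C.map τ.toAddMonoidHom) := by
  obtain ⟨F, i1, i2, e, f, up, lo, hb, rfl, rfl⟩ := h.ex
  refine ⟨F, i1, i2, _, _, _, _, Bk_tr hb τ σ hτ, map_rt σ, ?_⟩
  rw [AddSubgroup.map_sup]
  congr 1
  · exact AddMonoidHom.range_comp _ _
  · exact AddMonoidHom.range_comp _ _

/-- uniqueness -/
theorem NB_uniq [Finite X] [Finite V] {D : Subgroup X} {N C N' C' : AddSubgroup V} (h : Asm.NB D N C) (h' : Asm.NB D N' C')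
    (h2 : ∀ v : V, v + v = 0) (hf : ∀ x : X, (∀ v : V, x • v = v) → x = 1) (hno : NO X V) (h4 : 4 ≤ Nat.card D) :
    N = N' ∧ C = C' := by
  obtain ⟨F, i1, i2, e, f, up, lo, hb, hD, rfl⟩ := h.ex
  obtain ⟨F', j1, j2, e', f', up', lo', hb', hD', rfl⟩ := h'.ex
  have h4' : 4 ≤ Nat.card F := by
    rw [← hb.card_rt h2 hf, hD]
    exact h4
  obtain ⟨h5, -, h7⟩ := Bk.eq hb hb' h2 hf hno h4' (hD.trans hD'.symm)
  exact ⟨h7, h5⟩

end ml

/-! ### conjugation by `n` -/

section tau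

variable {G : Type u} [Group G] {H U : Subgroup G} (Q : Nrm H U) {n : G}

/-- conjugation by `n ∈ N(U)` on `U` -/
def tau (hU : n ∈ normalizer (U : Set G)) : Q.Mod ≃+ Q.Mod where
  toFun m := Q.of (n * Q.val m * n⁻¹) ((mem_normalizer_iff.1 hU _).1 (Q.val_mem m))
  invFun m := Q.of (n⁻¹ * Q.val m * n) (by
    have := (mem_normalizer_iff.1 (inv_mem hU) _).1 (Q.val_mem m)
    rwa [inv_inv] at this)
  left_inv m := Nrm.ext (by rw [Nrm.val_of, Nrm.val_of]; group)
  right_inv m := Nrm.ext (by rw [Nrm.val_of, Nrm.val_of]; group)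
  map_add' a b := Nrm.ext (by rw [Nrm.val_of, Nrm.val_add, Nrm.val_add, Nrm.val_of, Nrm.val_of]; group)

theorem val_tau (hU : n ∈ normalizer (U : Set G)) (m : Q.Mod) : Q.val (tau Q hU m) = n * Q.val m * n⁻¹ := rfl

theorem map_tau (hU : n ∈ normalizer (U : Set G)) (B : Subgroup G) :
    (Q.ad B).map (tau Q hU).toAddMonoidHom = Q.ad (MulAut.conj n • B) := by
  ext m
  constructor
  · rintro ⟨m, hm, rfl⟩
    exact conj_mem' (Nrm.mem_ad.1 hm)
  · intro hm
    refine ⟨(tau Q hU).symm m, ?_, (tau Q hU).apply_symm_apply m⟩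
    exact mem_conj.1 (Nrm.mem_ad.1 hm)

/-- `n h n⁻¹` -/
def cjH (hH : n ∈ normalizer (H : Set G)) (h : H) : H := ⟨n * h * n⁻¹, (mem_normalizer_iff.1 hH _).1 h.2⟩

theorem tau_smul (hU : n ∈ normalizer (U : Set G)) (hH : n ∈ normalizer (H : Set G)) (h : H) (m : Q.Mod) :
    tau Q hU (h • m) = cjH hH h • tau Q hU m := Nrm.ext (by
  rw [val_tau, Nrm.val_smul, Nrm.val_smul, val_tau]
  change _ = n * h * n⁻¹ * (n * Q.val m * n⁻¹) * (n * h * n⁻¹)⁻¹
  group)

/-- `tau` as a unit -/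
def tauU (hU : n ∈ normalizer (U : Set G)) : (AddMonoid.End Q.Mod)ˣ where
  val := (tau Q hU).toAddMonoidHom
  inv := (tau Q hU).symm.toAddMonoidHom
  val_inv := AddMonoidHom.ext fun m => (tau Q hU).apply_symm_apply m
  inv_val := AddMonoidHom.ext fun m => (tau Q hU).symm_apply_apply m

theorem tauU_conj (hU : n ∈ normalizer (U : Set G)) (hH : n ∈ normalizer (H : Set G)) (h : H) :
    tauU Q hU * (ph Q h : (AddMonoid.End Q.Mod)ˣ) * (tauU Q hU)⁻¹ = ph Q (cjH hH h) := by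
  refine Units.ext (AddMonoidHom.ext fun m => ?_)
  change tau Q hU (h • (tau Q hU).symm m) = cjH hH h • m
  rw [tau_smul Q hU hH, (tau Q hU).apply_symm_apply]

/-- conjugation by `n ∈ N(U) ∩ N(H)` on `XH Q` -/
noncomputable def sig (hU : n ∈ normalizer (U : Set G)) (hH : n ∈ normalizer (H : Set G)) : XH Q ≃* XH Q :=
  MulEquiv.ofBijective
    ({ toFun := fun x => ⟨tauU Q hU * x * (tauU Q hU)⁻¹, by
        obtain ⟨h, rfl⟩ := ph_surj Q x
        rw [tauU_conj Q hU hH]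
        exact (ph Q _).2⟩
       map_one' := Subtype.ext (by simp)
       map_mul' := fun x y => Subtype.ext (by simp [mul_assoc]) } : XH Q →* XH Q) (by
      constructor
      · intro x y hxy
        have h1 : tauU Q hU * (x : (AddMonoid.End Q.Mod)ˣ) * (tauU Q hU)⁻¹ = tauU Q hU * y * (tauU Q hU)⁻¹ :=
          congrArg Subtype.val hxy
        exact Subtype.ext (mul_left_cancel (mul_right_cancel h1))
      · intro x
        obtain ⟨h, rfl⟩ := ph_surj Q x
        have hH' := inv_mem hH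
        refine ⟨ph Q (cjH hH' h), Subtype.ext ?_⟩
        change tauU Q hU * (ph Q (cjH hH' h) : (AddMonoid.End Q.Mod)ˣ) * (tauU Q hU)⁻¹ = ph Q h
        rw [tauU_conj Q hU hH]
        congr 2
        apply Subtype.ext
        change n * (n⁻¹ * h * n⁻¹⁻¹) * n⁻¹ = h
        group)

theorem sig_ph (hU : n ∈ normalizer (U : Set G)) (hH : n ∈ normalizer (H : Set G)) (h : H) :
    sig Q hU hH (ph Q h) = ph Q (cjH hH h) := Subtype.ext (tauU_conj Q hU hH h)

theorem tau_sig (hU : n ∈ normalizer (U : Set G)) (hH : n ∈ normalizer (H : Set G)) (x : XH Q) (v : Q.Mod) :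
    tau Q hU (x • v) = sig Q hU hH x • tau Q hU v := by
  obtain ⟨h, rfl⟩ := ph_surj Q x
  rw [sig_ph, ph_smul, ph_smul, tau_smul Q hU hH]

/-- the image in `XH Q` -/
theorem map_sig (hU : n ∈ normalizer (U : Set G)) (hH : n ∈ normalizer (H : Set G)) (A : Subgroup G) (hA : A ≤ H) :
    ((A.subgroupOf H).map (ph Q)).map (sig Q hU hH).toMonoidHom =
      ((MulAut.conj n • A).subgroupOf H).map (ph Q) := by
  ext y
  constructor
  · rintro ⟨_, ⟨h, hh, rfl⟩, rfl⟩
    refine ⟨cjH hH h, ?_, (sig_ph Q hU hH h).symm⟩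
    exact mem_subgroupOf.2 (conj_mem' (mem_subgroupOf.1 hh))
  · rintro ⟨h, hh, rfl⟩
    have h1 : n⁻¹ * (h : G) * n ∈ A := mem_conj.1 (mem_subgroupOf.1 hh)
    refine ⟨ph Q ⟨_, hA h1⟩, ⟨⟨_, hA h1⟩, mem_subgroupOf.2 h1, rfl⟩, ?_⟩
    change sig Q hU hH (ph Q ⟨_, hA h1⟩) = ph Q h
    rw [sig_ph]
    congr 1
    apply Subtype.ext
    change n * (n⁻¹ * (h : G) * n) * n⁻¹ = h
    group

end tau

/-! ### `IsNB` -/

section isnb

variable {G : Type u} [Group G] {H U : Subgroup G} {Q : Nrm H U} {n : G}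

theorem conj_le_U {B : Subgroup G} (hU : n ∈ normalizer (U : Set G)) (hB : B ≤ U) : MulAut.conj n • B ≤ U := by
  rintro _ ⟨x, hx, rfl⟩
  exact (mem_normalizer_iff.1 hU _).1 (hB hx)

theorem NB.conjN {A R N C : Subgroup G} {F : Type} [Field F] {e f : F →+ Q.Mod} {up lo : F → H}
    (h : NB Q A R N C e f up lo) (hU : n ∈ normalizer (U : Set G)) (hH : n ∈ normalizer (H : Set G)) :
    NB Q (MulAut.conj n • A) (MulAut.conj n • R) (MulAut.conj n • N) (MulAut.conj n • C)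
      ((tau Q hU).toAddMonoidHom.comp e) ((tau Q hU).toAddMonoidHom.comp f) (fun t => cjH hH (up t))
      (fun t => cjH hH (lo t)) where
  bk := by
    have hinj : Function.Injective (cjH hH) := by
      intro x y hxy
      have h1 : n * (x : G) * n⁻¹ = n * y * n⁻¹ := congrArg Subtype.val hxy
      exact Subtype.ext (mul_left_cancel (mul_right_cancel h1))
    have hsur : Function.Surjective (cjH hH) := by
      intro x
      refine ⟨cjH (inv_mem hH) x, Subtype.ext ?_⟩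
      change n * (n⁻¹ * x * n⁻¹⁻¹) * n⁻¹ = x
      group
    let σ : H ≃* H := MulEquiv.ofBijective
      ({ toFun := cjH hH
         map_one' := Subtype.ext (by change n * 1 * n⁻¹ = 1; group)
         map_mul' := fun x y => Subtype.ext (by
          change n * (x * y) * n⁻¹ = n * x * n⁻¹ * (n * y * n⁻¹)
          group) } : H →* H) ⟨hinj, hsur⟩
    have h1 := Bk_tr h.bk (tau Q hU) σ fun x v => tau_smul Q hU hH x v
    rw [map_tau] at h1
    exact h1
  upA t := conj_mem' (h.upA t)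
  Aup a ha := by
    have h0 : n⁻¹ * (a : G) * n ∈ A := mem_conj.1 ha
    obtain ⟨t, ht⟩ := h.Aup ⟨_, h.AH h0⟩ h0
    refine ⟨t, fun m => ?_⟩
    have h2 := congrArg (tau Q hU) (ht ((tau Q hU).symm m))
    rw [tau_smul Q hU hH, tau_smul Q hU hH, (tau Q hU).apply_symm_apply] at h2
    have h3 : cjH hH ⟨_, h.AH h0⟩ = a := by
      apply Subtype.ext
      change n * (n⁻¹ * (a : G) * n) * n⁻¹ = a
      group
    rwa [h3] at h2
  AH := by
    intro x hx
    have h1 := (mem_normalizer_iff.1 hH _).1 (h.AH (mem_conj.1 hx))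
    have e1 : n * (n⁻¹ * x * n) * n⁻¹ = x := by group
    rwa [e1] at h1
  eR := by rw [AddMonoidHom.range_comp, h.eR, map_tau]
  eN := by rw [AddMonoidHom.range_comp, AddMonoidHom.range_comp, ← AddSubgroup.map_sup, h.eN, map_tau]
  RU := conj_le_U hU h.RU
  NU := conj_le_U hU h.NU
  CU := conj_le_U hU h.CU

theorem IsNB.conjN {A R N C : Subgroup G} (h : IsNB Q A R N C) (hU : n ∈ normalizer (U : Set G))
    (hH : n ∈ normalizer (H : Set G)) :
    IsNB Q (MulAut.conj n • A) (MulAut.conj n • R) (MulAut.conj n • N) (MulAut.conj n • C) := by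
  obtain ⟨F, i1, i2, i3, e, f, up, lo, hF, h⟩ := h
  exact ⟨F, i1, i2, i3, _, _, _, _, hF, h.conjN hU hH⟩

/-- the line is `[U, A]` -/
theorem IsNB.line [Finite G] {A R N C : Subgroup G} (h : IsNB Q A R N C) : closure (covs U A) = R := by
  obtain ⟨F, i1, i2, i3, e, f, up, lo, hF, h⟩ := h
  apply le_antisymm
  · rw [closure_le]
    rintro _ ⟨a, ha, u, hu, rfl⟩
    obtain ⟨t, ht⟩ := h.Aup ⟨a, h.AH ha⟩ ha
    obtain ⟨x, hx⟩ := h.sub_mem t (Q.of u hu)
    have h1 : (⟨a, h.AH ha⟩ : H) • Q.of u hu - Q.of u hu ∈ Q.ad R := by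
      rw [ht, hx, add_sub_cancel_left, ← h.eR]
      exact ⟨x, rfl⟩
    rw [Nrm.mem_ad, Nrm.val_sub, Nrm.val_smul, Nrm.val_of] at h1
    exact h1
  · intro r hr
    have h1 : Q.of r (h.RU hr) ∈ e.range := by rw [h.eR]; exact hr
    obtain ⟨x, hx⟩ := h1
    have h2 := h.bk.up_f x 1
    rw [mul_one, hx] at h2
    have h3 : up x • f 1 - f 1 = Q.of r (h.RU hr) := by rw [h2]; abel
    have h4 := congrArg Q.val h3
    rw [Nrm.val_sub, Nrm.val_smul, Nrm.val_of] at h4
    rw [← h4]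
    exact subset_closure ⟨_, h.upA x, _, Q.val_mem _, rfl⟩

/-- **conjugate root groups have conjugate blocks** -/
theorem IsNB.perm [Finite G] {A R N C A' R' N' C' : Subgroup G} (h : IsNB Q A R N C) (h' : IsNB Q A' R' N' C')
    (hU2 : IsElementaryAbelian 2 U) (hno : NoOverM U H) (hU : n ∈ normalizer (U : Set G))
    (hH : n ∈ normalizer (H : Set G)) (hA : MulAut.conj n • A = A') :
    MulAut.conj n • R = R' ∧ MulAut.conj n • N = N' ∧ MulAut.conj n • C = C' := by
  have h1 := h.conjN hU hH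
  rw [hA] at h1
  have h2 : MulAut.conj n • R = R' := h1.line.symm.trans h'.line
  rw [h2] at h1
  obtain ⟨h3, h4, -⟩ := h1.eq h' hU2 hno
  exact ⟨h2, h3, h4⟩

end isnb

end Cfsg.Agent.Omega.NOThreeL.RRed.Blk.TypesNat

end
end

private theorem dce_45da1f70d223 : _root_.True := by
  try have : _root_.True := by simp only [_root_.Cfsg.Agent.Omega.NOThreeL.RRed.Blk.TypesNat.tauU.congr_simp]
  exact _root_.True.intro
end

-- part: Mrg/Omega/NO3b/BasePt/Pre
section
prune_inst 0x901001000422000000000010800020207000000000030001d16002020a0790012005a60148f01c0019101cb0600a806002dc00598038000020008a0040040020842360e2833c1c0033000140f803180c00000000000000000000000000041000000000000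
set_option linter.all false
open scoped Cfsg.Agent.FastGrp


/-!
# The base point: from the module `MU V` to the group

`V` abelian, `h : H ≤ N_G(V)`, `Γ = XX h` the group induced by `H` on `V`, `W = MU hc = V`, `Y ≤ Γ`.

* `preR h Y = {g ∈ H : pr h g ∈ Y}`; `mem_preR`, `im_inf_preR : im h (A ⊓ preR h Y) = im h A ⊓ Y`;
* `mem_fx_pre` : `w ∈ fx W (im h A ⊓ Y) ↔ val w ∈ C(A ⊓ preR h Y)`;
* `odd_im` : `¬ 2 ∣ (im h A).relIndex (im h X)` if `¬ 2 ∣ A.relIndex X`;
* `minPar_im` : `im h P` is not generated by two proper subgroups over `im h S` (`IsMinPar S P`);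
* `norm_preR` : `m ∈ N_G(preR h Y)` if `m ∈ H` and `pr h m` normalises `Y`;
* `s1_of_fam` : `C_S(Z₁) ≤ R` from `PThree.two_mem`.
-/

set_option autoImplicit false
set_option linter.unusedSectionVars false

namespace Cfsg.Agent.Omega.NO3b.BasePt

open Subgroup Cfsg
open Cfsg.Agent.ZN (o2 zc zl)
open Cfsg.Agent.Omega.NO3b.Exit.Bridge
open Cfsg.Agent.Omega.FFBr (XX pr im mem_im card_im coe_pr_smul pr_eq_one pr_surjective)
open Cfsg.Agent.Omega.FF.Basic (fx)
open Cfsg.Agent.Omega.NO3b.ClosedPow (NN mem_NN cm)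
open Cfsg.Agent.Omega.NOThreeL.EndFive (Zo)
open Cfsg.Agent.MinSimple.MinParabolic (IsMinPar)
open scoped Pointwise

universe u

variable {G : Type u} [Group G]

section pre

variable {V H : Subgroup G} (h : H ≤ normalizer (V : Set G))

/-- `{g ∈ H : pr h g ∈ Y}` -/
def preR (Y : Subgroup (XX h)) : Subgroup G := (Y.comap (pr h)).map H.subtype

variable {h} {Y : Subgroup (XX h)}

theorem mem_preR {g : G} : g ∈ preR h Y ↔ ∃ hg : g ∈ H, pr h ⟨g, hg⟩ ∈ Y := by
  constructor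
  · rintro ⟨x, hx, rfl⟩
    exact ⟨x.2, hx⟩
  · rintro ⟨hg, hx⟩
    exact ⟨⟨g, hg⟩, hx, rfl⟩

theorem preR_le : preR h Y ≤ H := fun _ hg => (mem_preR.1 hg).1

theorem mem_preR' {g : H} : (g : G) ∈ preR h Y ↔ pr h g ∈ Y :=
  mem_preR.trans ⟨fun ⟨_, h1⟩ => h1, fun h1 => ⟨g.2, h1⟩⟩

theorem inf_cent_le_preR : H ⊓ centralizer (V : Set G) ≤ preR h Y := fun c hc =>
  mem_preR.2 ⟨hc.1, by rw [(pr_eq_one h).2 hc.2]; exact one_mem _⟩

theorem im_inf_preR {A : Subgroup G} : im h (A ⊓ preR h Y) = im h A ⊓ Y := by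
  ext x
  rw [mem_im, mem_inf, mem_im]
  constructor
  · rintro ⟨g, hg, rfl⟩
    exact ⟨⟨g, hg.1, rfl⟩, mem_preR'.1 hg.2⟩
  · rintro ⟨⟨g, hg, rfl⟩, hx⟩
    exact ⟨g, ⟨hg, mem_preR'.2 hx⟩, rfl⟩

theorem mem_im_of {A : Subgroup G} {g : G} (hg : g ∈ H) (hA : g ∈ A) : pr h ⟨g, hg⟩ ∈ im h A :=
  mem_im.2 ⟨⟨g, hg⟩, hA, rfl⟩

theorem im_mono {A A' : Subgroup G} (hA : A ≤ A') : im h A ≤ im h A' := by
  intro x hx
  obtain ⟨g, hg, rfl⟩ := mem_im.1 hx
  exact mem_im.2 ⟨g, hA hg, rfl⟩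

theorem isPGroup_im {A : Subgroup G} (hA : IsPGroup 2 A) : IsPGroup 2 (im h A) :=
  (hA.comap_of_injective _ (subtype_injective H)).map _

theorem mem_fx_pre {hc : V ≤ centralizer (V : Set G)} {A : Subgroup G} {w : MU hc} :
    w ∈ fx (MU hc) (im h A ⊓ Y) ↔ val w ∈ centralizer ((A ⊓ preR h Y : Subgroup G) : Set G) := by
  rw [← im_inf_preR, mem_fx_im h (inf_le_right.trans preR_le)]

/-- `m` normalises `preR h Y` -/
theorem norm_preR {m : G} (hm : m ∈ H) (h1 : ∀ y ∈ Y, pr h ⟨m, hm⟩ * y * (pr h ⟨m, hm⟩)⁻¹ ∈ Y)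
    (h2 : ∀ y ∈ Y, (pr h ⟨m, hm⟩)⁻¹ * y * pr h ⟨m, hm⟩ ∈ Y) : m ∈ normalizer (preR h Y : Set G) := by
  rw [mem_normalizer_iff]
  intro g
  constructor
  · intro hg
    obtain ⟨hgH, hg⟩ := mem_preR.1 hg
    have h3 := h1 _ hg
    rw [← map_mul, ← map_inv, ← map_mul] at h3
    exact mem_preR.2 ⟨H.mul_mem (H.mul_mem hm hgH) (H.inv_mem hm), h3⟩
  · intro hg
    obtain ⟨hgH, hg⟩ := mem_preR.1 hg
    have h3 := h2 _ hg
    rw [← map_inv, ← map_mul, ← map_mul] at h3
    have hgH' : g ∈ H := by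
      have h4 := H.mul_mem (H.mul_mem (H.inv_mem hm) hgH) hm
      have e : m⁻¹ * (m * g * m⁻¹) * m = g := by group
      rwa [e] at h4
    refine mem_preR.2 ⟨hgH', ?_⟩
    have e : (⟨m, hm⟩ : H)⁻¹ * ⟨m * g * m⁻¹, hgH⟩ * ⟨m, hm⟩ = ⟨g, hgH'⟩ := Subtype.ext (by
      show m⁻¹ * (m * g * m⁻¹) * m = g
      group)
    rwa [e] at h3

variable [Finite G]

/-- odd index goes to the image -/
theorem odd_im {A X : Subgroup G} (hA : A ≤ X) (hX : X ≤ H) (ho : ¬ 2 ∣ A.relIndex X) :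
    ¬ 2 ∣ (im h A).relIndex (im h X) := by
  intro h1
  apply ho
  have h2 : (A.subgroupOf H).relIndex (X.subgroupOf H) = A.relIndex X := relIndex_subgroupOf hX
  rw [← h2]
  refine h1.trans ?_
  have h3 := index_map_dvd (H := (A.subgroupOf H).subgroupOf (X.subgroupOf H))
    ((pr h).subgroupMap_surjective (X.subgroupOf H))
  have h4 : ((A.subgroupOf H).subgroupOf (X.subgroupOf H)).map ((pr h).subgroupMap (X.subgroupOf H)) =
      ((A.subgroupOf H).map (pr h)).subgroupOf ((X.subgroupOf H).map (pr h)) := by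
    ext y
    rw [mem_subgroupOf]
    constructor
    · rintro ⟨x, hx, rfl⟩
      exact ⟨(x : H), hx, rfl⟩
    · rintro ⟨a, ha, hay⟩
      exact ⟨⟨a, hA ha⟩, ha, Subtype.ext hay⟩
  rw [h4] at h3
  exact h3

/-- `im h P` is not generated by two proper subgroups over `im h S` -/
theorem minPar_im {S P : Subgroup G} (hP : IsMinPar S P) (hPH : P ≤ H) (Q₁ Q₂ : Subgroup (XX h))
    (h1 : im h S ≤ Q₁) (h2 : im h S ≤ Q₂) (h12 : Q₁ ⊔ Q₂ = im h P) : Q₁ = im h P ∨ Q₂ = im h P := by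
  obtain ⟨K, hK, hmax⟩ := hP.exists_max
  by_contra hcon
  push Not at hcon
  have key : ∀ Q : Subgroup (XX h), im h S ≤ Q → Q ≤ im h P → Q ≠ im h P → P ⊓ preR h Q ≤ K := by
    intro Q hS hQ hne
    refine hmax _ (le_inf hP.le fun s hs => mem_preR.2 ⟨hPH (hP.le hs), hS (mem_im_of _ hs)⟩) ?_
    refine lt_of_le_of_ne inf_le_left fun e => hne ?_
    have h3 := congrArg (im h) e
    rw [im_inf_preR] at h3
    rw [← h3, inf_eq_right.2 hQ]
  have k1 := key Q₁ h1 (h12 ▸ le_sup_left) hcon.1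
  have k2 := key Q₂ h2 (h12 ▸ le_sup_right) hcon.2
  have h3 : im h P ≤ im h K := by
    rw [← h12]
    refine sup_le ?_ ?_
    · have h4 := im_mono (h := h) k1
      rwa [im_inf_preR, inf_eq_right.2 (h12 ▸ le_sup_left)] at h4
    · have h4 := im_mono (h := h) k2
      rwa [im_inf_preR, inf_eq_right.2 (h12 ▸ le_sup_right)] at h4
  apply hK.not_ge
  intro p hp
  obtain ⟨k, hk, hkp⟩ := mem_im.1 (h3 (mem_im_of (hPH hp) hp))
  have h5 : p * (k : G)⁻¹ ∈ H ⊓ centralizer (V : Set G) := by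
    refine ⟨H.mul_mem (hPH hp) (H.inv_mem k.2), ?_⟩
    have h6 : pr h (⟨p, hPH hp⟩ * k⁻¹) = 1 := by rw [map_mul, map_inv, hkp, mul_inv_cancel]
    exact (pr_eq_one h).1 h6
  have h7 : p * (k : G)⁻¹ ∈ K := k1 ⟨P.mul_mem hp (P.inv_mem (hK.le hk)), inf_cent_le_preR h5⟩
  have h8 := K.mul_mem h7 hk
  rwa [inv_mul_cancel_right] at h8

end pre

section base

variable {V H S : Subgroup G} {h : H ≤ normalizer (V : Set G)} {hc : V ≤ centralizer (V : Set G)}
  {Y : Subgroup (XX h)}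

/-- `Z₁ = C_V(S ∩ R)`, in the module -/
theorem mem_Zo_pre {v : G} : v ∈ Zo S (preR h Y) V ↔ ∃ hv : v ∈ V, mk hc hv ∈ fx (MU hc) (im h S ⊓ Y) := by
  constructor
  · rintro ⟨hv, h1⟩
    exact ⟨hv, mem_fx_pre.2 h1⟩
  · rintro ⟨hv, h1⟩
    exact ⟨hv, mem_fx_pre.1 h1⟩

theorem val_mem_Zo {w : MU hc} : val w ∈ Zo S (preR h Y) V ↔ w ∈ fx (MU hc) (im h S ⊓ Y) :=
  mem_Zo_pre.trans ⟨fun ⟨_, h1⟩ => h1, fun h1 => ⟨val_mem w, h1⟩⟩

/-- `V₂ = {v ∈ V : [v, S ∩ R] ≤ Z₁}`, in the module -/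
theorem val_mem_V2 (hSV : S ≤ normalizer (V : Set G)) {w : MU hc} :
    val w ∈ NN V (S ⊓ preR h Y) (centralizer ((S ⊓ preR h Y : Subgroup G) : Set G)) ↔
      ∀ d ∈ im h S ⊓ Y, d • w - w ∈ fx (MU hc) (im h S ⊓ Y) := by
  rw [mem_NN hc (inf_le_left.trans hSV)]
  constructor
  · rintro ⟨-, h1⟩ d hd
    rw [← im_inf_preR] at hd
    obtain ⟨g, hg, rfl⟩ := mem_im.1 hd
    rw [mem_fx_pre, val_sub, val_smul]
    exact h1 g hg
  · intro h1
    refine ⟨val_mem w, fun b hb => ?_⟩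
    have hbH := preR_le hb.2
    have h2 := h1 (pr h ⟨b, hbH⟩) (by rw [← im_inf_preR]; exact mem_im_of hbH hb)
    rw [mem_fx_pre, val_sub, val_smul] at h2
    exact h2

theorem not_cent_im {P Z : Subgroup G} (hPH : P ≤ H) (hZV : Z ≤ V) (hZS : Z ≤ centralizer (S : Set G))
    (hP : ¬ P ≤ centralizer (Z : Set G)) :
    ¬ ∀ p ∈ im h P, ∀ w : MU hc, (∀ s ∈ im h S, s • w = w) → p • w = w := by
  intro h1
  apply hP
  intro p hp
  refine mem_centralizer_iff.2 fun z hz => ?_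
  have h2 := h1 _ (mem_im_of (hPH hp) hp) (mk hc (hZV hz)) fun s hs => by
    obtain ⟨g, hg, rfl⟩ := mem_im.1 hs
    exact (pr_smul_eq_iff' h).2 (mem_centralizer_iff.1 (hZS hz) g hg)
  exact ((pr_smul_eq_iff' h).1 h2).symm

/-- from the module to the group: a set of `W` stable under `im h P` -/
theorem le_norm_of_mod {P K : Subgroup G} (hPH : P ≤ H) (hKV : K ≤ V)
    (h1 : ∀ p ∈ im h P, ∀ w : MU hc, val w ∈ K → val (p • w) ∈ K) : P ≤ normalizer (K : Set G) := by
  refine ClosedPow.le_norm_of fun p hp k hk => ?_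
  have h2 := h1 _ (mem_im_of (hPH hp) hp) (mk hc (hKV hk)) hk
  rwa [val_smul] at h2

variable [Finite G]

variable (hc) in
/-- **`C_S(Z₁) ≤ R`** -/
theorem s1_of_fam {M : Subgroup (XX h)} {𝒴 : Set (Subgroup (XX h))} (f : Fam (MU hc) M 𝒴) (d : PThree.Dec (MU hc) 𝒴)
    (hS : IsPGroup 2 S) (hSH : S ≤ H) (SM : im h S ≤ M) (syl : ¬ 2 ∣ (im h S).relIndex M) :
    S ⊓ centralizer (Zo S (preR h (RR 𝒴)) V : Set G) ≤ preR h (RR 𝒴) := by
  rintro s ⟨hs, hsZ⟩
  have h1 := (PThree.inf_RR f d SM (isPGroup_im hS) syl (s := pr h ⟨s, hSH hs⟩)).2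
    ⟨mem_im_of _ hs, fun v hv => (pr_smul_eq_iff' h).2 (mem_centralizer_iff.1 hsZ _ (val_mem_Zo.2 hv)).symm⟩
  exact mem_preR.2 ⟨hSH hs, h1.2⟩

/-- `N_G(B) ≤ N_G(R)` if `im h N_G(B)` normalises `RR` -/
theorem norm_preR_of_fam {N : Subgroup G} (hN : N ≤ H) {𝒴 : Set (Subgroup (XX h))}
    (f : Fam (MU hc) (im h N) 𝒴) : N ≤ normalizer (preR h (RR 𝒴) : Set G) := fun n hn =>
  norm_preR (hN hn) (fun y hy => PThree.RR_conj f (mem_im_of _ hn) hy) fun y hy => by
    have h1 := PThree.RR_conj f ((im h N).inv_mem (mem_im_of (hN hn) hn)) hy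
    rwa [inv_inv] at h1

end base

end Cfsg.Agent.Omega.NO3b.BasePt
end

-- part: Mrg/Omega/NOThreeL/RRed/BFr/Frame
section
set_option linter.all false
open scoped Cfsg.Agent.FastGrp


/-!
# NO-3L, box R: the frame `FrL` over `B = C_S(Z_J)`

* `h.ZJ_oo` : the elements of `Z_J` vanish at the letters `oo`;
* `h.XX i` : the elements of `M` preserving the other pairs and `{xx i, yy i, oo}`; `h.nx i : NX F₂ B (XX i) (W i)`;
* `h.exists_A` : a best offender acting only on `W i`;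
* **`h.exists_frL`** : the frame `FrL B Q V X Z_J L W ⟨d⟩ C A 2`.
-/

set_option autoImplicit false
set_option linter.unusedSectionVars false

namespace Cfsg.Agent.Omega.NOThreeL.RRed.BFr

open Subgroup Cfsg Cfsg.Agent.ZN Cfsg.Agent.ZN.ChoiceBase
open Cfsg.Agent.PLocal.ThompsonJ (isElementaryAbelian_iff)
open Cfsg.Agent.Omega.SQ1.Bau (mem_sup_comm card_sup_comm elem_comm elem_sq)
open Cfsg.Agent.Omega.OM.Lev.Uni (Best FrL)
open Cfsg.Agent.Omega.OM.Uni (NX FB)
open Cfsg.Agent.Omega.FFThm (ElemM)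
open Cfsg.Agent.Omega.NO3S.OneLine (BFam)
open Cfsg.Agent.Omega.NatPair (ap ap_zero' ap_one' ap_one ap_mul ext2)
open Cfsg.Agent.Lib.SL2Mat (ent mk mk_00 mk_01 mk_10 mk_11 up lo ext_ent ent_mul det_eq eq_up_lo_up)

universe u

variable {G : Type u} [Group G]

theorem zmod_two (c : ZMod 2) : c = 0 ∨ c = 1 := by
  revert c; decide

namespace Lv

variable {S : Sylow 2 G} {M V : Subgroup G} {Pt I : Type} [Fintype Pt] [DecidableEq Pt] [DecidableEq I]
variable {D : Pts M V Pt I} {X L J : Subgroup G} {AA : Set (Subgroup G)} (h : Lv S D X L J AA)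
include h

variable [Finite G]

/-- the elements of `Z_J` vanish at the letters `oo` -/
theorem ZJ_oo {z : G} (hz : z ∈ ZJ V J) (x : Pt) : D.e z (h.oo x) = 0 := by
  classical
  have hzV : z ∈ V := hz.1
  have h1 := D.even z hzV x
  have ho : h.oo x ∈ Finset.univ.filter fun y => D.blk y = D.blk x :=
    Finset.mem_filter.2 ⟨Finset.mem_univ _, h.oo_blk x⟩
  rw [← Finset.add_sum_erase _ _ ho] at h1
  suffices h2 : ∑ y ∈ (Finset.univ.filter fun y => D.blk y = D.blk x).erase (h.oo x), D.e z y = 0 by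
    rw [h2, add_zero] at h1
    exact h1
  -- the partner
  have hp : ∀ y ∈ (Finset.univ.filter fun y => D.blk y = D.blk x).erase (h.oo x), ∃ w, Pr D AA y w := by
    intro y hy
    rw [Finset.mem_erase, Finset.mem_filter] at hy
    by_contra hcon
    push Not at hcon
    exact hy.1 (h.eq_oo hcon hy.2.2)
  choose g hg using hp
  refine Finset.sum_involution g ?_ ?_ ?_ ?_
  · intro y hy
    obtain ⟨i, hi, hj⟩ := h.mem_of_pr (hg y hy)
    have h3 := (h.mem_ZJ_iff hzV).1 hz i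
    have h4 : D.e z y = D.e z (g y hy) := by
      rcases hi with e1 | e1 <;> rcases hj with e2 | e2
      · rw [e2, e1]
      · rw [e2, e1, h3]
      · rw [e2, e1, h3]
      · rw [e2, e1]
    rw [← h4, add_self]
  · intro y hy _ e
    exact (hg y hy).1 e.symm
  · intro y hy
    have h5 := hg y hy
    rw [Finset.mem_erase, Finset.mem_filter] at hy ⊢
    refine ⟨fun e => ?_, Finset.mem_univ _, h5.2.1.symm.trans hy.2.2⟩
    exact h.oo_un x _ (e ▸ h5.symm)
  · intro y hy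
    exact h.Pr_unique (hg _ _) (hg y hy).symm

/-- the three letters of `W i` -/
def M3 (i : Idx D AA) (x : Pt) : Prop := Mem i x ∨ x = h.oo (xx i)

theorem M3_disj {i j : Idx D AA} (hij : j ≠ i) {x : Pt} (hx : h.M3 i x) : ¬ Mem j x := by
  intro hj
  rcases hx with hx | rfl
  · exact hij (h.mem_inj hj hx)
  · exact h.oo_not_mem _ _ hj

/-- the group inducing `Sym(3)` on the three letters -/
def XX (i : Idx D AA) : Subgroup G where
  carrier := {m | m ∈ M ∧ (∀ j : Idx D AA, j ≠ i → ∀ x, Mem j (D.r m x) ↔ Mem j x) ∧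
    ∀ x, h.M3 i (D.r m x) ↔ h.M3 i x}
  mul_mem' := by
    rintro a b ⟨ha, ha1, ha2⟩ ⟨hb, hb1, hb2⟩
    refine ⟨mul_mem ha hb, fun j hj x => ?_, fun x => ?_⟩
    · rw [D.r_mul ha hb, Equiv.Perm.mul_apply, ha1 j hj, hb1 j hj]
    · rw [D.r_mul ha hb, Equiv.Perm.mul_apply, ha2, hb2]
  one_mem' := ⟨one_mem _, fun j _ x => by rw [D.r_one]; rfl, fun x => by rw [D.r_one]; rfl⟩
  inv_mem' := by
    rintro a ⟨ha, ha1, ha2⟩
    refine ⟨inv_mem ha, fun j hj x => ?_, fun x => ?_⟩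
    · rw [D.r_inv ha, ← ha1 j hj, apply_inv_self']
    · rw [D.r_inv ha, ← ha2, apply_inv_self']

theorem XX_le_M (i : Idx D AA) : h.XX i ≤ M := fun _ hm => hm.1

theorem swap_mem {i : Idx D AA} {t : G} (ht : t ∈ M) {a b : Pt} (ha : h.M3 i a) (hb : h.M3 i b)
    (e : D.r t = Equiv.swap a b) : t ∈ h.XX i := by
  have key : ∀ x, x ≠ a → x ≠ b → D.r t x = x := fun x h1 h2 => by rw [e, Equiv.swap_apply_of_ne_of_ne h1 h2]
  have ka : D.r t a = b := by rw [e, Equiv.swap_apply_left]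
  have kb : D.r t b = a := by rw [e, Equiv.swap_apply_right]
  refine ⟨ht, fun j hj x => ?_, fun x => ?_⟩
  · by_cases h1 : x = a
    · subst h1
      rw [ka]
      exact iff_of_false (h.M3_disj hj hb) (h.M3_disj hj ha)
    · by_cases h2 : x = b
      · subst h2
        rw [kb]
        exact iff_of_false (h.M3_disj hj ha) (h.M3_disj hj hb)
      · rw [key x h1 h2]
  · by_cases h1 : x = a
    · subst h1; rw [ka]; exact iff_of_true hb ha
    · by_cases h2 : x = b
      · subst h2; rw [kb]; exact iff_of_true ha hb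
      · rw [key x h1 h2]

theorem Pp_mem_XX {i : Idx D AA} {m : G} (hm : m ∈ M) (hp : Pp D AA m) : m ∈ h.XX i := by
  refine ⟨hm, fun j _ x => ⟨fun hx => hp.mem_inv hx, fun hx => hp j x hx⟩, fun x => ?_⟩
  constructor
  · rintro (hx | hx)
    · exact Or.inl (hp.mem_inv hx)
    · right
      have h1 := h.Pp_oo hm hp (xx i)
      exact (D.r m).injective (hx.trans h1.symm)
  · rintro (hx | rfl)
    · exact Or.inl (hp i x hx)
    · right; exact h.Pp_oo hm hp (xx i)

theorem B_le_XX (i : Idx D AA) : BB (S : Subgroup G) V J ≤ h.XX i := fun _ hb =>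
  h.Pp_mem_XX (h.SM hb.1) (h.B_Pp hb)

theorem n1 (i : Idx D AA) : xx i ≠ h.oo (xx i) := fun e => h.oo_not_mem (xx i) i (e ▸ Or.inl rfl)

theorem n2 (i : Idx D AA) : yy i ≠ h.oo (xx i) := fun e => h.oo_not_mem (xx i) i (e ▸ Or.inr rfl)

/-- coordinates on `W i` -/
noncomputable def pi (i : Idx D AA) (v : G) : Fin 2 → ZMod 2 := ![D.e v (xx i), D.e v (h.oo (xx i))]

omit h in
/-- the coefficient of a letter -/
noncomputable def row (i : Idx D AA) (z : Pt) : ZMod 2 × ZMod 2 :=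
  if z = xx i then (1, 0) else if z = yy i then (1, 1) else (0, 1)

theorem row_spec {i : Idx D AA} {z : Pt} (hz : h.M3 i z) {v : G} (hv : v ∈ h.W i) :
    D.e v z = (row i z).1 * D.e v (xx i) + (row i z).2 * D.e v (h.oo (xx i)) := by
  unfold row
  rcases hz with (rfl | rfl) | rfl
  · rw [if_pos rfl]; ring
  · rw [if_neg (ne_i i).symm, if_pos rfl, h.W_sum hv]; ring
  · rw [if_neg (h.n1 i).symm, if_neg (h.n2 i).symm]; ring

theorem row_det {i : Idx D AA} {a b : Pt} (ha : h.M3 i a) (hb : h.M3 i b) (hab : a ≠ b) :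
    (row i a).1 * (row i b).2 - (row i a).2 * (row i b).1 = 1 := by
  unfold row
  rcases ha with (rfl | rfl) | rfl <;> rcases hb with (rfl | rfl) | rfl
  · exact absurd rfl hab
  · rw [if_pos rfl, if_neg (ne_i i).symm, if_pos rfl]; decide
  · rw [if_pos rfl, if_neg (h.n1 i).symm, if_neg (h.n2 i).symm]; decide
  · rw [if_pos rfl, if_neg (ne_i i).symm, if_pos rfl]; decide
  · exact absurd rfl hab
  · rw [if_neg (ne_i i).symm, if_pos rfl, if_neg (h.n1 i).symm, if_neg (h.n2 i).symm]; decide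
  · rw [if_pos rfl, if_neg (h.n1 i).symm, if_neg (h.n2 i).symm]; decide
  · rw [if_neg (ne_i i).symm, if_pos rfl, if_neg (h.n1 i).symm, if_neg (h.n2 i).symm]; decide
  · exact absurd rfl hab

theorem W_norm {i : Idx D AA} {l : G} (hl : l ∈ h.XX i) {v : G} (hv : v ∈ h.W i) : l * v * l⁻¹ ∈ h.W i := by
  refine ⟨D.MV l hl.1 v hv.1, fun z h1 h2 => ?_⟩
  rw [D.e_conj' hl.1 hv.1]
  have h3 : ¬ h.M3 i ((D.r l)⁻¹ z) := by
    rw [← hl.2.2, apply_inv_self']
    rintro (h4 | h4)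
    · exact h1 h4
    · exact h2 h4
  exact hv.2 _ (fun h4 => h3 (Or.inl h4)) (fun h4 => h3 (Or.inr h4))

theorem acts {i : Idx D AA} {l : G} (hl : l ∈ h.XX i) :
    ∃ A : Matrix.SpecialLinearGroup (Fin 2) (ZMod 2), ∀ v ∈ h.W i, h.pi i (l * v * l⁻¹) = ap A (h.pi i v) := by
  have hx : h.M3 i ((D.r l)⁻¹ (xx i)) := by
    rw [← hl.2.2, apply_inv_self']; exact Or.inl (Or.inl rfl)
  have ho : h.M3 i ((D.r l)⁻¹ (h.oo (xx i))) := by
    rw [← hl.2.2, apply_inv_self']; exact Or.inr rfl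
  have hne : (D.r l)⁻¹ (xx i) ≠ (D.r l)⁻¹ (h.oo (xx i)) := fun e => h.n1 i ((D.r l)⁻¹.injective e)
  refine ⟨Cfsg.Agent.Lib.SL2Mat.mk _ _ _ _ (h.row_det hx ho hne), fun v hv => ext2 ?_ ?_⟩
  · rw [ap_zero', mk_00, mk_01]
    show D.e (l * v * l⁻¹) (xx i) = _
    rw [D.e_conj' hl.1 hv.1, h.row_spec hx hv]
    rfl
  · rw [ap_one', mk_10, mk_11]
    show D.e (l * v * l⁻¹) (h.oo (xx i)) = _
    rw [D.e_conj' hl.1 hv.1, h.row_spec ho hv]
    rfl

/-- `swap xx yy` acts as `up 1` -/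
theorem acts_swap {i : Idx D AA} {t : G} (ht : t ∈ M) (e : D.r t = Equiv.swap (xx i) (yy i)) {v : G} (hv : v ∈ h.W i) :
    h.pi i (t * v * t⁻¹) = ap (up 1) (h.pi i v) := by
  have e' : (D.r t)⁻¹ = Equiv.swap (xx i) (yy i) := by rw [e, Equiv.swap_inv]
  refine ext2 ?_ ?_
  · rw [ap_zero']
    show D.e (t * v * t⁻¹) (xx i) = 1 * D.e v (xx i) + 1 * D.e v (h.oo (xx i))
    rw [D.e_conj' ht hv.1, e', Equiv.swap_apply_left, h.W_sum hv, one_mul, one_mul]
  · rw [ap_one']
    show D.e (t * v * t⁻¹) (h.oo (xx i)) = 0 * D.e v (xx i) + 1 * D.e v (h.oo (xx i))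
    rw [D.e_conj' ht hv.1, e', Equiv.swap_apply_of_ne_of_ne (h.n1 i).symm (h.n2 i).symm, zero_mul, one_mul, zero_add]

/-- `swap yy oo` acts as `lo 1` -/
theorem acts_swap' {i : Idx D AA} {t : G} (ht : t ∈ M) (e : D.r t = Equiv.swap (yy i) (h.oo (xx i))) {v : G}
    (hv : v ∈ h.W i) : h.pi i (t * v * t⁻¹) = ap (lo 1) (h.pi i v) := by
  have e' : (D.r t)⁻¹ = Equiv.swap (yy i) (h.oo (xx i)) := by rw [e, Equiv.swap_inv]
  refine ext2 ?_ ?_
  · rw [ap_zero']
    show D.e (t * v * t⁻¹) (xx i) = 1 * D.e v (xx i) + 0 * D.e v (h.oo (xx i))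
    rw [D.e_conj' ht hv.1, e', Equiv.swap_apply_of_ne_of_ne (ne_i i) (h.n1 i), zero_mul, one_mul, add_zero]
  · rw [ap_one']
    show D.e (t * v * t⁻¹) (h.oo (xx i)) = 1 * D.e v (xx i) + 1 * D.e v (h.oo (xx i))
    rw [D.e_conj' ht hv.1, e', Equiv.swap_apply_right, h.W_sum hv, one_mul, one_mul]

theorem pi_one (i : Idx D AA) {v : G} : h.pi i (1 * v * 1⁻¹) = ap (up 0) (h.pi i v) := by
  rw [one_mul, inv_one, mul_one, Cfsg.Agent.Lib.SL2Mat.up_zero, ap_one]

theorem cov (i : Idx D AA) (A : Matrix.SpecialLinearGroup (Fin 2) (ZMod 2)) :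
    ∃ l ∈ h.XX i, ∀ v ∈ h.W i, h.pi i (l * v * l⁻¹) = ap A (h.pi i v) := by
  have hmul : ∀ A A', (∃ l ∈ h.XX i, ∀ v ∈ h.W i, h.pi i (l * v * l⁻¹) = ap A (h.pi i v)) →
      (∃ l ∈ h.XX i, ∀ v ∈ h.W i, h.pi i (l * v * l⁻¹) = ap A' (h.pi i v)) →
        ∃ l ∈ h.XX i, ∀ v ∈ h.W i, h.pi i (l * v * l⁻¹) = ap (A * A') (h.pi i v) := by
    rintro A A' ⟨l, hl, e⟩ ⟨l', hl', e'⟩
    refine ⟨l * l', mul_mem hl hl', fun v hv => ?_⟩
    have e1 : l * l' * v * (l * l')⁻¹ = l * (l' * v * l'⁻¹) * l⁻¹ := by group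
    rw [e1, e _ (h.W_norm hl' hv), e' v hv, ap_mul]
  have hup : ∀ c : ZMod 2, ∃ l ∈ h.XX i, ∀ v ∈ h.W i, h.pi i (l * v * l⁻¹) = ap (up c) (h.pi i v) := by
    intro c
    rcases zmod_two c with rfl | rfl
    · exact ⟨1, one_mem _, fun v _ => h.pi_one i⟩
    · obtain ⟨t, ht, et⟩ := D.full _ _ (ne_i i) (blk_i i)
      have e := D.r_eq ht et
      exact ⟨t, h.swap_mem ht (Or.inl (Or.inl rfl)) (Or.inl (Or.inr rfl)) e, fun v hv => h.acts_swap ht e hv⟩
  have hlo : ∃ l ∈ h.XX i, ∀ v ∈ h.W i, h.pi i (l * v * l⁻¹) = ap (lo 1) (h.pi i v) := by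
    obtain ⟨t, ht, et⟩ := D.full _ _ (h.n2 i) ((blk_i i).symm.trans (h.oo_blk _).symm)
    have e := D.r_eq ht et
    exact ⟨t, h.swap_mem ht (Or.inl (Or.inr rfl)) (Or.inr rfl) e, fun v hv => h.acts_swap' ht e hv⟩
  rcases zmod_two (ent A 1 0) with h0 | h0
  · have hd := det_eq A
    rw [h0, mul_zero, sub_zero] at hd
    have ha : ent A 0 0 = 1 := by
      rcases zmod_two (ent A 0 0) with e | e
      · rw [e, zero_mul] at hd; exact absurd hd (by decide)
      · exact e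
    have hd' : ent A 1 1 = 1 := by rwa [ha, one_mul] at hd
    have e : A = up (ent A 0 1) := ext_ent ha rfl h0 hd'
    rw [e]
    exact hup _
  · have hne : ent A 1 0 ≠ 0 := by rw [h0]; decide
    have e := eq_up_lo_up A hne
    rw [e, h0]
    exact hmul _ _ (hmul _ _ (hup _) hlo) (hup _)

theorem Q_le_B : (S : Subgroup G) ⊓ centralizer (V : Set G) ≤ BB (S : Subgroup G) V J := fun x hx =>
  mem_BB.2 ⟨hx.1, fun z hz => (mem_centralizer_iff.1 hx.2 z hz.1).symm⟩

omit h in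
/-- `Ω₁Z(Q) ≤ V` for `Q = C_S(V)` -/
def ZcQ (S V : Subgroup G) : Prop := ∀ x ∈ S ⊓ centralizer (V : Set G), x ^ 2 = 1 →
  (∀ y ∈ S ⊓ centralizer (V : Set G), x * y = y * x) → x ∈ V

/-- `Ω₁Z(B) = Z_J` -/
theorem zc_B (hz : ZcQ (S : Subgroup G) V) : zc (BB (S : Subgroup G) V J) = ZJ V J := by
  ext z
  rw [ChoiceBase.mem_zc]
  constructor
  · rintro ⟨h1, h2, h3⟩
    have h4 : z ∈ V := hz z ⟨h1.1, mem_centralizer_iff.2 fun v hv => h3 v (h.V_le_B hv)⟩ h2
      fun y hy => (h3 y (h.Q_le_B hy)).symm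
    exact mem_ZJ.2 ⟨h4, fun y hy => h3 y (h.J_le_B hy)⟩
  · intro hz'
    refine ⟨h.V_le_B hz'.1, ?_, fun b hb => (mem_BB.1 hb).2 z hz'⟩
    rw [pow_two]; exact D.sq hz'.1

theorem W_elem (i : Idx D AA) : IsElementaryAbelian 2 (h.W i) :=
  isElementaryAbelian_iff.2 ⟨fun x hx y hy => D.comm hx.1 hy.1, fun x hx => by rw [pow_two]; exact D.sq hx.1⟩

theorem zj_act {i : Idx D AA} {l z : G} (hl : l ∈ h.XX i) (hz : z ∈ ZJ V J) : l * z * l⁻¹ * z⁻¹ ∈ h.W i := by
  have hzV : z ∈ V := hz.1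
  have hlz := D.MV l hl.1 z hzV
  refine ⟨mul_mem hlz (inv_mem hzV), fun u h1 h2 => ?_⟩
  rw [D.mul _ hlz _ (inv_mem hzV), D.map_inv hzV, Pi.add_apply, D.e_conj' hl.1 hzV]
  have h3 : ¬ h.M3 i ((D.r l)⁻¹ u) := by
    rw [← hl.2.2, apply_inv_self']
    rintro (h4 | h4)
    · exact h1 h4
    · exact h2 h4
  suffices h4 : D.e z ((D.r l)⁻¹ u) = D.e z u by rw [h4, add_self]
  rcases h.cover u with hu | ⟨j, hj⟩
  · rcases h.cover ((D.r l)⁻¹ u) with hu' | ⟨j, hj⟩
    · rw [hu', hu, h.ZJ_oo hz, h.ZJ_oo hz]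
    · exfalso
      by_cases hji : j = i
      · subst hji; exact h3 (Or.inl hj)
      · rw [← hl.2.1 j hji, apply_inv_self', hu] at hj
        exact h.oo_not_mem _ _ hj
  · have hji : j ≠ i := fun e => h1 (e ▸ hj)
    have hj' : Mem j ((D.r l)⁻¹ u) := by
      rw [← hl.2.1 j hji, apply_inv_self']; exact hj
    have h5 := (h.mem_ZJ_iff hzV).1 hz j
    rcases hj with e1 | e1 <;> rcases hj' with e2 | e2
    · rw [e2, e1]
    · rw [e2, e1, h5]
    · rw [e2, e1, h5]
    · rw [e2, e1]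

/-- **`B` is a Sylow 2-subgroup of `XX i`.** -/
theorem syl_XX {i : Idx D AA} {T : Subgroup G} (hBT : BB (S : Subgroup G) V J ≤ T) (hTX : T ≤ h.XX i)
    (hT : IsPGroup 2 T) : T = BB (S : Subgroup G) V J := by
  have hTM : T ≤ M := hTX.trans (h.XX_le_M i)
  -- a fixed letter
  obtain ⟨z, hz, hfix⟩ := h.fix_of_odd hTM hT {xx i, yy i, h.oo (xx i)} (by
    rw [Finset.card_insert_of_notMem (by simp [ne_i i, h.n1 i]), Finset.card_pair (h.n2 i)]; decide) (by
    intro t ht y hy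
    have h1 : h.M3 i y := by
      simp only [Finset.mem_insert, Finset.mem_singleton] at hy
      rcases hy with e | e | e
      · exact Or.inl (Or.inl e)
      · exact Or.inl (Or.inr e)
      · exact Or.inr e
    have h2 := ((hTX ht).2.2 y).2 h1
    simp only [Finset.mem_insert, Finset.mem_singleton]
    rcases h2 with (e | e) | e
    · exact Or.inl e
    · exact Or.inr (Or.inl e)
    · exact Or.inr (Or.inr e))
  obtain ⟨-, -, a, ha, ea⟩ := pr_i i
  have hza := hfix a (hBT (h.J0_le_B ha))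
  rw [ea] at hza
  have hzo : z = h.oo (xx i) := by
    simp only [Finset.mem_insert, Finset.mem_singleton] at hz
    rcases hz with e | e | e
    · rw [e, Equiv.swap_apply_left] at hza
      exact absurd hza.symm (ne_i i)
    · rw [e, Equiv.swap_apply_right] at hza
      exact absurd hza (ne_i i)
    · exact e
  refine h.syl_B hT hTM hBT fun t ht z' hz' => h.ZJ_of_Pp (hTM ht) (fun j x hx => ?_) hz'
  by_cases hji : j = i
  · subst hji
    have h1 := ((hTX ht).2.2 x).2 (Or.inl hx)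
    rcases h1 with h1 | h1
    · exact h1
    · exfalso
      have h2 := hfix t ht
      rw [hzo] at h2
      have h3 : x = h.oo (xx j) := (D.r t).injective (h1.trans h2.symm)
      exact h.oo_not_mem _ j (h3 ▸ hx)
  · exact ((hTX ht).2.1 j hji x).2 hx

/-- **The block input.** -/
noncomputable def nx (hz : ZcQ (S : Subgroup G) V) (i : Idx D AA) : NX (ZMod 2) (BB (S : Subgroup G) V J) (h.XX i) (h.W i) where
  π := h.pi i
  mul v hv w hw := by
    unfold pi
    rw [D.mul v hv.1 w hw.1]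
    refine ext2 ?_ ?_ <;> rfl
  inj v hv e := by
    refine h.W_ext hv (one_mem _) ?_ ?_
    · have := congrFun e 0
      rw [D.map_one]
      exact this
    · have := congrFun e 1
      rw [D.map_one]
      exact this
  surj x := by
    obtain ⟨v, hv, e1, e2⟩ := h.exists_W i (x 0) (x 1)
    exact ⟨v, hv, ext2 e1 e2⟩
  el := h.W_elem i
  WB := (h.W_le_V i).trans h.V_le_B
  B2 := S.isPGroup'.to_le inf_le_left
  BX := h.B_le_XX i
  nW l hl v hv := h.W_norm hl hv
  acts l hl := h.acts hl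
  cov := h.cov i
  up b hb := by
    have hbM := h.B_le_M hb
    have hp := h.B_Pp hb
    have ho := h.Pp_oo hbM hp (xx i)
    have ho' : (D.r b)⁻¹ (h.oo (xx i)) = h.oo (xx i) := by rw [Equiv.Perm.inv_eq_iff_eq]; exact ho.symm
    rcases hp i (xx i) (Or.inl rfl) with h1 | h1
    · refine ⟨0, fun v hv => ?_⟩
      have h1' : (D.r b)⁻¹ (xx i) = xx i := by rw [Equiv.Perm.inv_eq_iff_eq]; exact h1.symm
      rw [Cfsg.Agent.Lib.SL2Mat.up_zero, ap_one]
      refine ext2 ?_ ?_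
      · show D.e (b * v * b⁻¹) (xx i) = _
        rw [D.e_conj' hbM hv.1, h1']; rfl
      · show D.e (b * v * b⁻¹) (h.oo (xx i)) = _
        rw [D.e_conj' hbM hv.1, ho']; rfl
    · have h2 : D.r b (yy i) = xx i := by
        rcases hp i (yy i) (Or.inr rfl) with h3 | h3
        · exact h3
        · exact absurd ((D.r b).injective (h1.trans h3.symm)) (ne_i i)
      have h2' : (D.r b)⁻¹ (xx i) = yy i := by rw [Equiv.Perm.inv_eq_iff_eq]; exact h2.symm
      refine ⟨1, fun v hv => ext2 ?_ ?_⟩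
      · rw [ap_zero']
        show D.e (b * v * b⁻¹) (xx i) = 1 * D.e v (xx i) + 1 * D.e v (h.oo (xx i))
        rw [D.e_conj' hbM hv.1, h2', h.W_sum hv, one_mul, one_mul]
      · rw [ap_one']
        show D.e (b * v * b⁻¹) (h.oo (xx i)) = 0 * D.e v (xx i) + 1 * D.e v (h.oo (xx i))
        rw [D.e_conj' hbM hv.1, ho', zero_mul, one_mul, zero_add]
  upc c := by
    rcases zmod_two c with rfl | rfl
    · exact ⟨1, one_mem _, fun v _ => h.pi_one i⟩
    · obtain ⟨-, -, a, ha, ea⟩ := pr_i i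
      exact ⟨a, h.J0_le_B ha, fun v hv => h.acts_swap (h.J0M ha) ea hv⟩
  syl T h1 h2 h3 := h.syl_XX h1 h2 h3
  act l hl z hz' := h.zj_act hl (by rw [h.zc_B hz] at hz'; exact hz')

/-- the line is `⟨d i⟩` -/
theorem Zs_eq (hz : ZcQ (S : Subgroup G) V) (i : Idx D AA) : (h.nx hz i).Zs = zpowers (D.pe (xx i) (yy i)) := by
  have hd : D.pe (xx i) (yy i) ∈ h.W i := by
    refine ⟨D.pe_mem _ _, fun z h1 _ => ?_⟩
    rw [D.e_pe' (blk_i i), if_neg (fun e => h1 (Or.inl e)), if_neg (fun e => h1 (Or.inr e)), add_zero]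
  have hdx : D.e (D.pe (xx i) (yy i)) (xx i) = 1 := by
    rw [D.e_pe' (blk_i i), if_pos rfl, if_neg (ne_i i), add_zero]
  have hdo : D.e (D.pe (xx i) (yy i)) (h.oo (xx i)) = 0 := by
    rw [D.e_pe' (blk_i i), if_neg (h.n1 i).symm, if_neg (h.n2 i).symm, add_zero]
  ext v
  rw [NX.mem_Zs]
  constructor
  · rintro ⟨hv, h1⟩
    have h1' : D.e v (h.oo (xx i)) = 0 := h1
    rcases zmod_two (D.e v (xx i)) with h2 | h2
    · have : v = 1 := h.W_ext hv (one_mem _) (by rw [h2, D.map_one]; rfl) (by rw [h1', D.map_one]; rfl)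
      rw [this]; exact one_mem _
    · have : v = D.pe (xx i) (yy i) := h.W_ext hv hd (by rw [h2, hdx]) (by rw [h1', hdo])
      rw [this]; exact mem_zpowers _
  · intro hv
    have h2 : zpowers (D.pe (xx i) (yy i)) ≤ (h.nx hz i).Zs := by
      rw [zpowers_le]
      exact ⟨hd, hdo⟩
    exact h2 hv

/-- a member of `AA` acting only on `W i` -/
theorem exists_A (i : Idx D AA) : ∃ A ∈ AA, (∃ a ∈ A, D.r a = Equiv.swap (xx i) (yy i)) ∧
    ∀ a ∈ A, D.r a = 1 ∨ D.r a = Equiv.swap (xx i) (yy i) := by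
  have h1 : ∃ A ∈ AA, ∃ a ∈ A, D.r a (xx i) ≠ xx i := by
    by_contra hcon
    push Not at hcon
    let N : Subgroup G :=
      { carrier := {a | a ∈ M ∧ D.r a (xx i) = xx i}
        mul_mem' := by
          rintro a b ⟨ha, ha'⟩ ⟨hb, hb'⟩
          exact ⟨mul_mem ha hb, by rw [D.r_mul ha hb, Equiv.Perm.mul_apply, hb', ha']⟩
        one_mem' := ⟨one_mem _, by rw [D.r_one]; rfl⟩
        inv_mem' := by
          rintro a ⟨ha, ha'⟩
          exact ⟨inv_mem ha, by rw [D.r_inv ha, Equiv.Perm.inv_eq_iff_eq]; exact ha'.symm⟩ }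
    have h2 : sSup AA ≤ N := sSup_le fun A hA a ha => ⟨h.SM (h.fam.le A hA ha), hcon A hA a ha⟩
    obtain ⟨-, -, a, ha, ea⟩ := pr_i i
    have h3 := (h2 ha).2
    rw [ea, Equiv.swap_apply_left] at h3
    exact ne_i i h3.symm
  obtain ⟨A, hA, a, ha, hax⟩ := h1
  have h2 := h.Pr_unique (h.pr_of_move hA ha hax) (pr_i i)
  exact h.exists_member hA ha h2 (ne_i i)

/-- **THE FRAME OVER `B`.** -/
theorem exists_frL (hz : ZcQ (S : Subgroup G) V) : ∃ Lb A : Idx D AA → Subgroup G,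
    (∀ i, Lb i ≤ h.XX i) ∧ (∀ i, A i ∈ AA) ∧
    (∀ i, ∀ T : Matrix.SpecialLinearGroup (Fin 2) (ZMod 2), ∃ l ∈ Lb i, (h.nx hz i).Acts l T) ∧
    FrL (BB (S : Subgroup G) V J) ((S : Subgroup G) ⊓ centralizer (V : Set G)) V X (ZJ V J) Lb h.W
      (fun i => zpowers (D.pe (xx i) (yy i))) (fun i => C D i) A 2 := by
  have h2 : Nat.card (ZMod 2) = 2 := by rw [Nat.card_zmod]
  choose Lb hB hX hFB hcov hmin using fun i => (h.nx hz i).exists_block
  choose A hA hAs hAa using h.exists_A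
  refine ⟨Lb, A, hX, hA, hcov, ?_⟩
  have hLM : ∀ i, Lb i ≤ M := fun i => (hX i).trans (h.XX_le_M i)
  refine
    { blk := fun i => by
        have h3 := hFB i
        rw [h2, h.Zs_eq hz i] at h3
        exact h3
      cardZ := fun i => by
        have h3 := (h.nx hz i).card_Zs
        rw [h2, h.Zs_eq hz i] at h3
        exact h3
      QB := h.Q_le_B
      VQ := fun v hv => ⟨h.VS hv, mem_centralizer_iff.2 fun u hu => D.comm hu hv⟩
      elX := h.elX
      VX := h.VX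
      mem_Q := fun x hx => ⟨fun hq v hv => (mem_centralizer_iff.1 hq.2 v hv).symm, fun hc =>
        ⟨hx.1, mem_centralizer_iff.2 fun v hv => (hc v hv).symm⟩⟩
      zcQ := fun x hx h3 h4 => hz x hx h3 h4
      mem_ZJ := fun v => ⟨fun hv => ⟨hv.1, fun b hb => (mem_BB.1 hb).2 v hv⟩, fun hv =>
        mem_ZJ.2 ⟨hv.1, fun y hy => hv.2 y (h.J_le_B hy)⟩⟩
      LV := fun i l hl v hv => D.MV l (hLM i hl) v hv
      LQ := fun i l hl x hx => ?_
      LX := fun i l hl x hx => h.MX l (hLM i hl) x hx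
      WV := h.W_le_V
      CV := fun i => C_le_V i
      WC := fun i v hv => h.split_WC i hv
      dir := h.dir
      C0 := fun x hx hc => h.eq_one_of hx fun i => (hc i).2
      WjC := fun i j hij => h.W_le_C hij
      BC := fun i b hb c hc => ?_
      LC := fun i l hl z hz hzC => ?_
      AB := fun i => (le_sSup (hA i)).trans h.J0_le_B
      AX := fun i => h.fam.elem _ (hA i)
      best := fun i => h.fam.best _ (hA i)
      Ane := fun i hcon => ?_
      AC := fun i a ha c hc => ?_ }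
  · -- `LQ`
    have hlM := hLM i hl
    refine ⟨h.MQ l hlM x hx, mem_centralizer_iff.2 fun v hv => ?_⟩
    have h3 := mem_centralizer_iff.1 hx.2 (l⁻¹ * v * l) (by simpa using D.MV l⁻¹ (inv_mem hlM) v hv)
    calc v * (l * x * l⁻¹) = l * ((l⁻¹ * v * l) * x) * l⁻¹ := by group
      _ = l * x * l⁻¹ * v := by rw [h3]; group
  · -- `BC`
    have hbM := h.B_le_M hb
    have hp := h.B_Pp (inv_mem hb)
    have key : ∀ x, Mem i x → D.e c ((D.r b)⁻¹ x) = 0 := by
      intro x hx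
      have h3 := hp i x hx
      rw [D.r_inv hbM] at h3
      rcases h3 with e | e
      · rw [e]; exact hc.2.1
      · rw [e]; exact hc.2.2
    refine ⟨D.MV b hbM c hc.1, ?_, ?_⟩
    · rw [D.e_conj' hbM hc.1]; exact key _ (Or.inl rfl)
    · rw [D.e_conj' hbM hc.1]; exact key _ (Or.inr rfl)
  · -- `LC`
    have hlX := hX i hl
    have hzV : z ∈ V := hz.1
    rw [D.comm_iff hlX.1 hzV]
    intro u
    have h0 : ∀ u, h.M3 i u → D.e z u = 0 := by
      rintro u ((rfl | rfl) | rfl)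
      · exact hzC.2.1
      · exact hzC.2.2
      · exact h.ZJ_oo hz _
    by_cases hu : h.M3 i u
    · rw [h0 u hu, h0 _ ((hlX.2.2 u).2 hu)]
    · have hu' : ¬ h.M3 i (D.r l u) := fun e => hu ((hlX.2.2 u).1 e)
      rcases h.cover u with e | ⟨j, hj⟩
      · rcases h.cover (D.r l u) with e' | ⟨j, hj⟩
        · rw [e', e, h.ZJ_oo hz, h.ZJ_oo hz]
        · exfalso
          by_cases hji : j = i
          · subst hji; exact hu' (Or.inl hj)
          · rw [hlX.2.1 j hji, e] at hj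
            exact h.oo_not_mem _ _ hj
      · have hji : j ≠ i := fun e => hu (Or.inl (e ▸ hj))
        have hj' := (hlX.2.1 j hji u).2 hj
        have h5 := (h.mem_ZJ_iff hzV).1 hz j
        rcases hj with e1 | e1 <;> rcases hj' with e2 | e2
        · rw [e2, e1]
        · rw [e2, e1, h5]
        · rw [e2, e1, h5]
        · rw [e2, e1]
  · -- `Ane`
    obtain ⟨a, ha, ea⟩ := hAs i
    obtain ⟨v, hv, e1, e2⟩ := h.exists_W i 0 1
    have haM : a ∈ M := h.J0M ((le_sSup (hA i)) ha)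
    have h3 := (D.comm_iff haM hv.1).1 (hcon a ha v hv) (xx i)
    rw [ea, Equiv.swap_apply_left, h.W_sum hv, e1, e2] at h3
    exact absurd h3 (by decide)
  · -- `AC`
    have haM : a ∈ M := h.J0M ((le_sSup (hA i)) ha)
    rw [D.comm_iff haM hc.1]
    intro u
    rcases hAa i a ha with e | e
    · rw [e]; rfl
    · rw [e]
      by_cases h1 : u = xx i
      · rw [h1, Equiv.swap_apply_left, hc.2.1, hc.2.2]
      · by_cases h3 : u = yy i
        · rw [h3, Equiv.swap_apply_right, hc.2.1, hc.2.2]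
        · rw [Equiv.swap_apply_of_ne_of_ne h1 h3]

end Lv

end Cfsg.Agent.Omega.NOThreeL.RRed.BFr
end
end
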